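import Mathlib.Algebra.Group.Commutator
import Cfsg.Prelude.Def_Local

set_option autoImplicit false

namespace Cfsg.Agent.Lib.Helper21

open Subgroup
open scoped commutatorElement

/-- commutator of `H ⊔ Z` with itself lies in `H` when `Z` is central. -/
theorem commutator_sup_center_le {X : Type*} [Group X] (H : Subgroup X) :
    ⁅H ⊔ center X, H ⊔ center X⁆ ≤ ⁅H, H⁆ := by
  rw [Subgroup.commutator_le]
  intro g₁ hg₁ g₂ hg₂
  rw [Subgroup.mem_sup_of_normal_right] at hg₁ hg₂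
  obtain ⟨h₁, hh₁, z₁, hz₁, rfl⟩ := hg₁
  obtain ⟨h₂, hh₂, z₂, hz₂, rfl⟩ := hg₂
  have : ⁅h₁ * z₁, h₂ * z₂⁆ = ⁅h₁, h₂⁆ := by
    rw [Subgroup.mem_center_iff] at hz₁ hz₂
    simp only [commutatorElement_def, mul_inv_rev]
    have e1 : ∀ g : X, g * z₁ = z₁ * g := hz₁
    have e2 : ∀ g : X, g * z₂ = z₂ * g := hz₂
    have e1' : ∀ g : X, g * z₁⁻¹ = z₁⁻¹ * g := fun g => by
      have h := e1 g
      calc g * z₁⁻¹ = z₁⁻¹ * (z₁ * g) * z₁⁻¹ := by group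
        _ = z₁⁻¹ * (g * z₁) * z₁⁻¹ := by rw [h]
        _ = z₁⁻¹ * g := by group
    have e2' : ∀ g : X, g * z₂⁻¹ = z₂⁻¹ * g := fun g => by
      have h := e2 g
      calc g * z₂⁻¹ = z₂⁻¹ * (z₂ * g) * z₂⁻¹ := by group
        _ = z₂⁻¹ * (g * z₂) * z₂⁻¹ := by rw [h]
        _ = z₂⁻¹ * g := by group
    calc h₁ * z₁ * (h₂ * z₂) * (z₁⁻¹ * h₁⁻¹) * (z₂⁻¹ * h₂⁻¹)
        = h₁ * (z₁ * (h₂ * z₂) * z₁⁻¹) * h₁⁻¹ * (z₂⁻¹ * h₂⁻¹) := by group
      _ = h₁ * ((h₂ * z₂) * z₁ * z₁⁻¹) * h₁⁻¹ * (z₂⁻¹ * h₂⁻¹) := by rw [← e1 (h₂ * z₂)]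
      _ = h₁ * h₂ * (z₂ * (h₁⁻¹ * z₂⁻¹)) * h₂⁻¹ := by group
      _ = h₁ * h₂ * ((h₁⁻¹ * z₂⁻¹) * z₂) * h₂⁻¹ := by rw [← e2 (h₁⁻¹ * z₂⁻¹)]
      _ = h₁ * h₂ * h₁⁻¹ * h₂⁻¹ := by group
  rw [this]
  exact Subgroup.commutator_mem_commutator hh₁ hh₂

/-- In a quasisimple group, every subnormal subgroup is either the whole group or central. -/
theorem quasisimple_subnormal {X : Type*} [Group X] (hX : Cfsg.IsQuasisimple X)
    {H : Subgroup X} (hH : H.IsSubnormal) : H = ⊤ ∨ H ≤ Subgroup.center X := by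
  obtain ⟨hperf, hsimple⟩ := hX
  have h1 : (H.map (QuotientGroup.mk' (center X))).IsSubnormal := hH.quotient
  rcases h1.eq_bot_or_top_of_isSimpleGroup hsimple with h2 | h2
  · right
    rw [Subgroup.map_eq_bot_iff, QuotientGroup.ker_mk'] at h2
    exact h2
  · left
    have h3 : H ⊔ center X = ⊤ := by
      have := congrArg (Subgroup.comap (QuotientGroup.mk' (center X))) h2
      rw [Subgroup.comap_map_eq, QuotientGroup.ker_mk', Subgroup.comap_top] at this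
      exact this
    have h4 : (⊤ : Subgroup X) ≤ ⁅H, H⁆ := by
      have := commutator_sup_center_le H
      rw [h3] at this
      have h5 : ⁅(⊤ : Subgroup X), ⊤⁆ = (⊤ : Subgroup X) := by
        have := hperf.commutator_eq_top
        rwa [commutator_def] at this
      rwa [h5] at this
    exact top_le_iff.mp (h4.trans (Subgroup.commutator_le_self H))

end Cfsg.Agent.Lib.Helper21
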