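import Mathlib.Algebra.Group.Commutator
import Cfsg.Prelude.Def_Local
import Cfsg.Agent.Lib.Helper21.Quasisimple

set_option autoImplicit false

namespace Cfsg.Agent.Lib.Helper21

open Subgroup
open scoped commutatorElement

/-- `IsQuasisimple` is invariant under isomorphism. -/
theorem quasisimple_of_mulEquiv {X Y : Type*} [Group X] [Group Y] (e : X ≃* Y)
    (hX : Cfsg.IsQuasisimple X) : Cfsg.IsQuasisimple Y := by
  obtain ⟨hperf, hsimple⟩ := hX
  refine ⟨Group.IsPerfect.ofSurjective (f := e.toMonoidHom) e.surjective, ?_⟩
  have hc : (center X).map (e : X →* Y) = center Y := by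
    ext y
    constructor
    · rintro ⟨x, hx, rfl⟩
      exact (MulEquivClass.apply_mem_center_iff e).2 hx
    · intro hy
      refine ⟨e.symm y, (MulEquivClass.apply_mem_center_iff e.symm).2 hy, by simp⟩
  have e' : X ⧸ center X ≃* Y ⧸ center Y := QuotientGroup.congr (center X) (center Y) e hc
  exact e'.symm.isSimpleGroup

/-- A quasisimple group is nontrivial. -/
theorem quasisimple_nontrivial {X : Type*} [Group X] (hX : Cfsg.IsQuasisimple X) : Nontrivial X := by
  obtain ⟨_, hsimple⟩ := hX
  have : Nontrivial (X ⧸ center X) := hsimple.toNontrivial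
  exact Function.Surjective.nontrivial (QuotientGroup.mk'_surjective (center X))

/-- A quasisimple group is not solvable. -/
theorem quasisimple_not_solvable {X : Type*} [Group X] (hX : Cfsg.IsQuasisimple X) :
    ¬ Group.IsSolvable X := by
  have := quasisimple_nontrivial hX
  have := hX.1
  exact Group.IsPerfect.not_isSolvable X

/-- Three subgroups lemma with a perfect subgroup. -/
theorem commutator_eq_bot_of_perfect {G : Type*} [Group G] {B L : Subgroup G}
    (hL : ⁅L, L⁆ = L) (h : ⁅⁅B, L⁆, L⁆ = ⊥) : ⁅B, L⁆ = ⊥ := by
  have h1 : ⁅⁅L, B⁆, L⁆ = ⊥ := by rwa [commutator_comm L B]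
  have h2 : ⁅⁅L, L⁆, B⁆ = ⊥ := commutator_commutator_eq_bot_of_rotate h1 h
  rw [hL] at h2
  rwa [commutator_comm]

/-- Descending through a subnormal chain. -/
theorem commutator_eq_bot_of_inf {G : Type*} [Group G] {L : Subgroup G} (hL : ⁅L, L⁆ = L)
    {M : Subgroup G} (hM : M.IsSubnormal) :
    L ≤ M → ∀ B : Subgroup G, B.Normal → ⁅B ⊓ M, L⁆ = ⊥ → ⁅B, L⁆ = ⊥ := by
  induction hM with
  | top =>
    intro _ B _ h
    simpa using h
  | step M' M hle hM hN ih =>
    intro hLM' B hB h
    apply ih (hLM'.trans hle) B hB
    apply commutator_eq_bot_of_perfect hL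
    have h1 : ⁅B ⊓ M, L⁆ ≤ B ⊓ M' := by
      rw [commutator_le]
      intro b hb l hl
      refine ⟨?_, ?_⟩
      · have : ⁅b, l⁆ = b * (l * b⁻¹ * l⁻¹) := by simp [commutatorElement_def, mul_assoc]
        rw [this]
        exact B.mul_mem hb.1 (hB.conj_mem _ (B.inv_mem hb.1) l)
      · have hlM' : l ∈ M' := hLM' hl
        have hn := (normal_subgroupOf_iff_le_normalizer hle).1 hN
        have hb' : b ∈ normalizer (M' : Set G) := hn hb.2
        have h2 : b * l * b⁻¹ ∈ M' := (mem_normalizer_iff.1 hb' l).1 hlM'
        exact M'.mul_mem h2 (M'.inv_mem hlM')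
    rw [eq_bot_iff]
    exact (commutator_mono h1 le_rfl).trans h.le

/-- A component and a normal subgroup: containment or commuting. -/
theorem component_le_or_commutes_normal {G : Type*} [Group G] {L H : Subgroup G}
    (hL : Cfsg.IsComponent L) (hH : H.Normal) : L ≤ H ∨ ⁅H, L⁆ = ⊥ := by
  obtain ⟨hsn, hq⟩ := hL
  have hperf : ⁅L, L⁆ = L := by
    have := hq.1
    exact Subgroup.commutator_eq_self
  have hn : ((H ⊓ L).subgroupOf L).Normal := by
    rw [Subgroup.inf_subgroupOf_right]
    infer_instance
  rcases quasisimple_subnormal hq hn.isSubnormal with h | h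
  · left
    rw [Subgroup.subgroupOf_eq_top] at h
    exact h.trans inf_le_left
  · right
    apply commutator_eq_bot_of_inf hperf hsn le_rfl H hH
    rw [commutator_eq_bot_iff_le_centralizer]
    intro x hx
    rw [mem_centralizer_iff]
    intro l hl
    have hx' : (⟨x, hx.2⟩ : L) ∈ (H ⊓ L).subgroupOf L := by
      rw [mem_subgroupOf]; exact hx
    have := h hx'
    rw [mem_center_iff] at this
    have := this ⟨l, hl⟩
    exact congrArg Subtype.val this

/-- A component of `G` contained in a subgroup `K` is a component of `K`. -/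
theorem component_subgroupOf {G : Type*} [Group G] {L K : Subgroup G}
    (hL : Cfsg.IsComponent L) (hLK : L ≤ K) : Cfsg.IsComponent (L.subgroupOf K) := by
  refine ⟨hL.1.subgroupOf, ?_⟩
  exact quasisimple_of_mulEquiv (Subgroup.subgroupOfEquivOfLe hLK).symm hL.2

/-- A component and a subnormal subgroup: containment or commuting. -/
theorem component_le_or_commutes {G : Type*} [Group G] {L H : Subgroup G}
    (hL : Cfsg.IsComponent L) (hH : H.IsSubnormal) : L ≤ H ∨ ⁅L, H⁆ = ⊥ := by
  induction hH with
  | top => left; exact le_top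
  | step H K hle hK hN ih =>
    rcases ih with h | h
    · have hL' := component_subgroupOf hL h
      rcases component_le_or_commutes_normal hL' hN with h1 | h1
      · left
        intro x hx
        have : (⟨x, h hx⟩ : K) ∈ L.subgroupOf K := by rw [mem_subgroupOf]; exact hx
        have := h1 this
        rwa [mem_subgroupOf] at this
      · right
        have := congrArg (Subgroup.map K.subtype) h1
        rw [map_commutator, Subgroup.map_subgroupOf_eq_of_le hle,
          Subgroup.map_subgroupOf_eq_of_le h, Subgroup.map_bot] at this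
        rwa [commutator_comm]
    · right
      rw [eq_bot_iff]
      exact (commutator_mono le_rfl hle).trans h.le

/-- A component centralizes every solvable subgroup that it normalizes. -/
theorem component_commutes_solvable {G : Type*} [Group G] {L H : Subgroup G}
    (hL : Cfsg.IsComponent L) (hsolv : Group.IsSolvable ↥H)
    (hinv : L ≤ Subgroup.normalizer (H : Set G)) : ⁅L, H⁆ = ⊥ := by
  have hHK : H ≤ H ⊔ L := le_sup_left
  have hLK : L ≤ H ⊔ L := le_sup_right
  have hN : (H.subgroupOf (H ⊔ L)).Normal := by
    rw [normal_subgroupOf_iff_le_normalizer hHK]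
    exact sup_le le_normalizer hinv
  have hL' := component_subgroupOf hL hLK
  rcases component_le_or_commutes_normal hL' hN with h1 | h1
  · exfalso
    have hLH : L ≤ H := by
      intro x hx
      have : (⟨x, hLK hx⟩ : (H ⊔ L : Subgroup G)) ∈ L.subgroupOf (H ⊔ L) := by
        rw [mem_subgroupOf]; exact hx
      have := h1 this
      rwa [mem_subgroupOf] at this
    have : Group.IsSolvable ↥L :=
      Group.isSolvable_of_isSolvable_injective (Subgroup.inclusion_injective hLH)
    exact quasisimple_not_solvable hL.2 this
  · have := congrArg (Subgroup.map (H ⊔ L).subtype) h1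
    rw [map_commutator, Subgroup.map_subgroupOf_eq_of_le hHK,
      Subgroup.map_subgroupOf_eq_of_le hLK, Subgroup.map_bot] at this
    rwa [commutator_comm]

end Cfsg.Agent.Lib.Helper21
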