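import Mathlib.GroupTheory.Solvable
import Mathlib.GroupTheory.Index
import Mathlib.Algebra.Group.Subgroup.Pointwise

set_option autoImplicit false

namespace Cfsg.Agent.Lib.Helper21

open Subgroup

section
variable {G : Type*} [Group G] {X Y : Subgroup G}

theorem normal_subgroupOf_sup (hn : Y ≤ normalizer (X : Set G)) : (X.subgroupOf (X ⊔ Y)).Normal := by
  rw [normal_subgroupOf_iff_le_normalizer le_sup_left]
  exact sup_le le_normalizer hn

theorem supQuotMap_surjective (hn : Y ≤ normalizer (X : Set G)) [(X.subgroupOf (X ⊔ Y)).Normal] :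
    Function.Surjective ((QuotientGroup.mk' (X.subgroupOf (X ⊔ Y))).comp
      (Subgroup.inclusion (le_sup_right : Y ≤ X ⊔ Y))) := by
  intro q
  obtain ⟨⟨k, hk⟩, rfl⟩ := QuotientGroup.mk'_surjective _ q
  have hk' : k ∈ ((Y ⊔ X : Subgroup G) : Set G) := by rw [sup_comm]; exact hk
  rw [coe_mul_of_left_le_normalizer_right Y X hn] at hk'
  obtain ⟨y, hy, x, hx, rfl⟩ := hk'
  refine ⟨⟨y, hy⟩, ?_⟩
  simp only [MonoidHom.comp_apply, QuotientGroup.mk'_apply]
  rw [QuotientGroup.eq, mem_subgroupOf]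
  simpa using hx

theorem sup_isSolvable (hn : Y ≤ normalizer (X : Set G)) (hX : Group.IsSolvable X)
    (hY : Group.IsSolvable Y) : Group.IsSolvable ↥(X ⊔ Y) := by
  have := normal_subgroupOf_sup hn
  rw [Group.isSolvable_iff_subgroup_quotient (X.subgroupOf (X ⊔ Y))]
  constructor
  · have e : X.subgroupOf (X ⊔ Y) ≃* X := Subgroup.subgroupOfEquivOfLe le_sup_left
    exact Group.isSolvable_of_isSolvable_injective (f := e.toMonoidHom) e.injective
  · exact Group.isSolvable_of_surjective (supQuotMap_surjective hn)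

theorem card_sup_dvd [Finite G] (hn : Y ≤ normalizer (X : Set G)) :
    Nat.card ↥(X ⊔ Y) ∣ Nat.card X * Nat.card Y := by
  have := normal_subgroupOf_sup hn
  rw [Subgroup.card_eq_card_quotient_mul_card_subgroup (X.subgroupOf (X ⊔ Y))]
  have e : X.subgroupOf (X ⊔ Y) ≃* X := Subgroup.subgroupOfEquivOfLe le_sup_left
  rw [Nat.card_congr e.toEquiv, mul_comm]
  exact Nat.mul_dvd_mul_left _ (Subgroup.card_dvd_of_surjective _ (supQuotMap_surjective hn))

end

end Cfsg.Agent.Lib.Helper21
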