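import Mathlib
import Cfsg.Prelude.Def_Local
import Cfsg.Prelude.Def_Transfer
import Cfsg.Agent.Lib.Helper21.Components
import Cfsg.Agent.Lib.Helper22.FStar
import Cfsg.Agent.Lib.Helper22.Fitting
import Cfsg.Agent.Lib.Helper24.PxQ
import Cfsg.Agent.Lib.Helper63.PrimeParts

set_option autoImplicit false
set_option linter.style.haveILetI false

/-!
Bender's lemma, group level: a `p`-subgroup `X` of a finite group `H` normalized by a subnormal
self-centralizing subgroup `S` of `F*(H)` centralizes every `p'`-element of `F*(H)`.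
-/

namespace Cfsg.Agent.Lib.Helper21

open Subgroup
open Cfsg.Agent.Lib.Helper22

universe u

variable {H : Type u} [Group H]

/-- `s`-elements of `F(H)` lie in `O_s(H)`. -/
theorem bl_mem_pCore_of_mem_fitting [Finite H] {s : ℕ} [hs : Fact s.Prime] {x : H}
    (hx : x ∈ Cfsg.fittingSubgroup H) {k : ℕ} (hk : x ^ (s ^ k) = 1) : x ∈ Cfsg.pCore s H := by
  apply mem_pCore_of_mem_sup _ hk
  have hle : Cfsg.fittingSubgroup H ≤ Cfsg.pCore s H ⊔ Cfsg.pPrimeCore s H := by
    rw [fittingSubgroup_eq_iSup_pCore]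
    apply iSup_le
    intro r
    haveI : Fact (r : ℕ).Prime := ⟨r.2⟩
    by_cases hrs : (r : ℕ) = s
    · rw [hrs]; exact le_sup_left
    · exact (pCore_le_pPrimeCore hrs).trans le_sup_right
  exact hle hx

/-- `O_r(H)` and `O_s(H)` commute for `r ≠ s`. -/
theorem bl_pCore_le_centralizer_pCore [Finite H] {r s : ℕ} [Fact r.Prime] [Fact s.Prime]
    (hrs : r ≠ s) : Cfsg.pCore r H ≤ centralizer (Cfsg.pCore s H : Set H) := by
  have h1 := pCore_normal' r H
  have h2 := pCore_normal' s H
  have hd : Disjoint (Cfsg.pCore r H) (Cfsg.pCore s H) :=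
    IsPGroup.disjoint_of_ne r s hrs _ _ (pCore_isPGroup' r H) (pCore_isPGroup' s H)
  intro x hx
  rw [mem_centralizer_iff]
  intro y hy
  exact (Subgroup.commute_of_normal_of_disjoint _ _ h1 h2 hd x y hx hy).eq.symm

/-- `O_r(H) ≤ F(H)`. -/
theorem bl_pCore_le_fitting [Finite H] (r : ℕ) [Fact r.Prime] :
    Cfsg.pCore r H ≤ Cfsg.fittingSubgroup H :=
  le_fittingSubgroup (pCore_normal' r H) (pCore_isPGroup' r H).isNilpotent

/-- `Z(O_r(H))` centralizes `F*(H)`. -/
theorem bl_center_pCore_le_centralizer [Finite H] (r : ℕ) [Fact r.Prime] :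
    (center ↥(Cfsg.pCore r H)).map (Cfsg.pCore r H).subtype ≤
      centralizer (Cfsg.generalizedFittingSubgroup H : Set H) := by
  have hZF : (center ↥(Cfsg.pCore r H)).map (Cfsg.pCore r H).subtype ≤ Cfsg.fittingSubgroup H :=
    (Subgroup.map_subtype_le _).trans (bl_pCore_le_fitting r)
  rw [le_centralizer_iff]
  unfold Cfsg.generalizedFittingSubgroup
  apply sup_le
  · exact (layer_le_centralizer_fitting H).trans (centralizer_le hZF)
  · rw [fittingSubgroup_eq_iSup_pCore]
    apply iSup_le
    intro s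
    haveI : Fact (s : ℕ).Prime := ⟨s.2⟩
    by_cases hsr : (s : ℕ) = r
    · intro x hx
      rw [mem_centralizer_iff]
      rintro _ ⟨z, hz, rfl⟩
      have hx' : x ∈ Cfsg.pCore r H := hsr ▸ hx
      have := (mem_center_iff.1 hz) ⟨x, hx'⟩
      have := congrArg Subtype.val this
      simpa using this.symm
    · exact (bl_pCore_le_centralizer_pCore hsr).trans
        (centralizer_le (Subgroup.map_subtype_le _))

/-- The layer lies in every subnormal self-centralizing subgroup of `F*(H)`. -/
theorem bl_layer_le {S : Subgroup H} (hSF : S ≤ Cfsg.generalizedFittingSubgroup H)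
    (hSsn : (S.subgroupOf (Cfsg.generalizedFittingSubgroup H)).IsSubnormal)
    (hSC : Cfsg.generalizedFittingSubgroup H ⊓ centralizer (S : Set H) ≤ S) :
    Cfsg.layer H ≤ S := by
  apply sSup_le
  intro L hL
  have hLF : L ≤ Cfsg.generalizedFittingSubgroup H :=
    (component_le_layer hL).trans (layer_le_generalizedFitting H)
  have hL' := component_subgroupOf hL hLF
  rcases component_le_or_commutes hL' hSsn with h | h
  · intro x hx
    have : (⟨x, hLF hx⟩ : Cfsg.generalizedFittingSubgroup H) ∈
        L.subgroupOf (Cfsg.generalizedFittingSubgroup H) := by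
      rw [mem_subgroupOf]; exact hx
    have := h this
    rwa [mem_subgroupOf] at this
  · apply le_trans _ hSC
    apply le_inf hLF
    intro x hx
    rw [mem_centralizer_iff]
    intro s hs
    rw [commutator_eq_bot_iff_le_centralizer] at h
    have hx' : (⟨x, hLF hx⟩ : Cfsg.generalizedFittingSubgroup H) ∈
        L.subgroupOf (Cfsg.generalizedFittingSubgroup H) := by
      rw [mem_subgroupOf]; exact hx
    have h1 := h hx'
    rw [mem_centralizer_iff] at h1
    have h2 := h1 ⟨s, hSF hs⟩ (by rw [SetLike.mem_coe, mem_subgroupOf]; exact hs)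
    exact congrArg Subtype.val h2

/-- The layer centralizes every solvable subgroup that it normalizes. -/
theorem bl_layer_le_centralizer {X : Subgroup H} (hsolv : Group.IsSolvable ↥X)
    (hinv : Cfsg.layer H ≤ normalizer (X : Set H)) : Cfsg.layer H ≤ centralizer (X : Set H) := by
  apply sSup_le
  intro L hL
  rw [← commutator_eq_bot_iff_le_centralizer]
  exact component_commutes_solvable hL hsolv ((component_le_layer hL).trans hinv)

/-- Splitting an element into a `p`-part and a `p'`-part, both powers of the element. -/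
theorem bl_exists_parts [Finite H] (p : ℕ) [hp : Fact p.Prime] (f : H) :
    ∃ a b : H, a ∈ zpowers f ∧ b ∈ zpowers f ∧ f = a * b ∧ (∃ k : ℕ, a ^ (p ^ k) = 1) ∧
      (orderOf b).Coprime p := by
  have hpos : 0 < orderOf f := orderOf_pos f
  obtain ⟨k, m, hpm, hn⟩ := Nat.exists_eq_pow_mul_and_not_dvd hpos.ne' p hp.out.ne_one
  have hcop : Nat.Coprime m (p ^ k) :=
    (Nat.Coprime.pow_left k ((Nat.Prime.coprime_iff_not_dvd hp.out).2 hpm)).symm
  refine ⟨(f ^ m) ^ (m.gcdA (p ^ k)), (f ^ (p ^ k)) ^ (m.gcdB (p ^ k)), ?_, ?_, ?_, ⟨k, ?_⟩, ?_⟩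
  · exact (zpowers f).zpow_mem ((zpowers f).pow_mem (mem_zpowers f) _) _
  · exact (zpowers f).zpow_mem ((zpowers f).pow_mem (mem_zpowers f) _) _
  · rw [← zpow_natCast f m, ← zpow_natCast f (p ^ k), ← zpow_mul, ← zpow_mul, ← zpow_add,
      ← Nat.gcd_eq_gcd_ab, hcop, Nat.cast_one, zpow_one]
  · rw [← zpow_natCast, ← zpow_mul, mul_comm, zpow_mul, zpow_natCast, ← pow_mul, mul_comm, ← hn,
      pow_orderOf_eq_one, one_zpow]
  · have h1 : ((f ^ (p ^ k)) ^ (m.gcdB (p ^ k))) ^ m = 1 := by
      rw [← zpow_natCast, ← zpow_mul, mul_comm, zpow_mul, zpow_natCast, ← pow_mul, ← hn,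
        pow_orderOf_eq_one, one_zpow]
    have h2 : orderOf ((f ^ (p ^ k)) ^ (m.gcdB (p ^ k))) ∣ m := orderOf_dvd_of_pow_eq_one h1
    exact Nat.Coprime.coprime_dvd_left h2 ((Nat.Prime.coprime_iff_not_dvd hp.out).2 hpm).symm

/-- In `F*(H)`, every element is a product of an element of the layer and one of `F(H)`. -/
theorem bl_mem_genFitting {y : H} (hy : y ∈ Cfsg.generalizedFittingSubgroup H) :
    ∃ e ∈ Cfsg.layer H, ∃ f ∈ Cfsg.fittingSubgroup H, y = e * f := by
  haveI := layer_normal H
  unfold Cfsg.generalizedFittingSubgroup at hy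
  obtain ⟨e, he, f, hf, rfl⟩ := Subgroup.mem_sup_of_normal_left.mp hy
  exact ⟨e, he, f, hf, rfl⟩

/-- Elements of the layer commute with elements of the Fitting subgroup. -/
theorem bl_layer_fitting_comm {e f : H} (he : e ∈ Cfsg.layer H) (hf : f ∈ Cfsg.fittingSubgroup H) :
    e * f = f * e := by
  have h := layer_le_centralizer_fitting H he
  rw [mem_centralizer_iff] at h
  exact (h f hf).symm

/-- **Bender's lemma**, core statement. -/
theorem bl_main [Finite H] {p : ℕ} [hp : Fact p.Prime] {S X : Subgroup H}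
    (hSF : S ≤ Cfsg.generalizedFittingSubgroup H)
    (hSsn : (S.subgroupOf (Cfsg.generalizedFittingSubgroup H)).IsSubnormal)
    (hSC : Cfsg.generalizedFittingSubgroup H ⊓ centralizer (S : Set H) ≤ S)
    (hX : IsPGroup p X) (hSX : S ≤ normalizer (X : Set H)) :
    Cfsg.layer H ≤ centralizer (X : Set H) ∧
    (∀ r : ℕ, r.Prime → r ≠ p → Cfsg.pCore r H ≤ centralizer (X : Set H)) ∧
    ∀ y ∈ Cfsg.generalizedFittingSubgroup H, (orderOf y).Coprime p →
      y ∈ centralizer (X : Set H) := by
  have hE : Cfsg.layer H ≤ S := bl_layer_le hSF hSsn hSC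
  have hXsolv : Group.IsSolvable ↥X := by
    haveI := hX.isNilpotent
    infer_instance
  have hEX : Cfsg.layer H ≤ centralizer (X : Set H) :=
    bl_layer_le_centralizer hXsolv (hE.trans hSX)
  have hcore : ∀ r : ℕ, r.Prime → r ≠ p → Cfsg.pCore r H ≤ centralizer (X : Set H) := by
    intro r hr hrp
    haveI : Fact r.Prime := ⟨hr⟩
    have hUn := pCore_normal' r H
    have hUp := pCore_isPGroup' r H
    have hdisj : Disjoint X (Cfsg.pCore r H) :=
      IsPGroup.disjoint_of_ne p r (Ne.symm hrp) _ _ hX hUp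
    have hPQ : S ⊓ Cfsg.pCore r H ≤ centralizer (X : Set H) := by
      intro g hg
      rw [mem_centralizer_iff]
      intro x hx
      have h1 : g * x * g⁻¹ ∈ X := (mem_normalizer_iff.1 (hSX hg.1) x).1 hx
      have h2 : x * g⁻¹ * x⁻¹ ∈ Cfsg.pCore r H := hUn.conj_mem g⁻¹ (inv_mem hg.2) x
      have h3 : g * x * g⁻¹ * x⁻¹ ∈ X := X.mul_mem h1 (X.inv_mem hx)
      have h4 : g * x * g⁻¹ * x⁻¹ ∈ Cfsg.pCore r H := by
        have : g * x * g⁻¹ * x⁻¹ = g * (x * g⁻¹ * x⁻¹) := by group
        rw [this]
        exact (Cfsg.pCore r H).mul_mem hg.2 h2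
      have h5 : g * x * g⁻¹ * x⁻¹ = 1 := by
        have := hdisj.le_bot ⟨h3, h4⟩
        simpa using this
      have h6 : g * x = x * g := by
        have : g * x = (g * x * g⁻¹ * x⁻¹) * (x * g) := by group
        rw [this, h5, one_mul]
      exact h6.symm
    have key : X ≤ centralizer (Cfsg.pCore r H : Set H) := by
      apply Cfsg.Agent.Lib.Helper24.thompson_PxQ (p := r) (S ⊓ Cfsg.pCore r H) X (Cfsg.pCore r H)
        (hUp.to_le inf_le_right) ?_ hUp hPQ (inf_le_right.trans le_normalizer) ?_ ?_
      · obtain ⟨n, hn⟩ := hX.exists_card_eq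
        rw [hn]
        exact Nat.Coprime.pow_left n ((Nat.coprime_primes hp.out hr).2 (Ne.symm hrp))
      · rw [Subgroup.normalizer_eq_top_iff.mpr hUn]
        exact le_top
      · rintro c ⟨hcU, hcR⟩
        have hcF : c ∈ Cfsg.fittingSubgroup H := bl_pCore_le_fitting r hcU
        have hcS : c ∈ S := by
          apply hSC
          refine ⟨fitting_le_generalizedFitting H hcF, ?_⟩
          show c ∈ centralizer (S : Set H)
          rw [mem_centralizer_iff]
          intro s hs
          obtain ⟨e, he, f, hf, rfl⟩ := bl_mem_genFitting (hSF hs)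
          have hfS : f ∈ S := by
            have : f = e⁻¹ * (e * f) := by group
            rw [this]
            exact S.mul_mem (S.inv_mem (hE he)) hs
          have hce : e * c = c * e := bl_layer_fitting_comm he hcF
          have hcf : f ∈ centralizer ({c} : Set H) := by
            apply Cfsg.Agent.Lib.Helper63.mem_of_prime_power_parts
            intro s' k j hs' hord
            haveI : Fact s'.Prime := ⟨hs'⟩
            have hfk : f ^ k ∈ Cfsg.pCore s' H := by
              apply bl_mem_pCore_of_mem_fitting ((Cfsg.fittingSubgroup H).pow_mem hf k) (k := j)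
              rw [← hord]
              exact pow_orderOf_eq_one _
            rw [mem_centralizer_iff]
            intro c' hc'
            rw [Set.mem_singleton_iff] at hc'
            subst hc'
            by_cases hsr : s' = r
            · subst hsr
              have hcR' : c' ∈ centralizer ((S ⊓ Cfsg.pCore s' H : Subgroup H) : Set H) := hcR
              rw [mem_centralizer_iff] at hcR'
              exact (hcR' (f ^ k) ⟨S.pow_mem hfS k, hfk⟩).symm
            · have := bl_pCore_le_centralizer_pCore hsr hfk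
              rw [mem_centralizer_iff] at this
              exact this c' hcU
          have hcf' : c * f = f * c := by
            rw [mem_centralizer_iff] at hcf
            exact hcf c rfl
          calc e * f * c = e * (f * c) := mul_assoc _ _ _
            _ = e * (c * f) := by rw [hcf']
            _ = (e * c) * f := (mul_assoc _ _ _).symm
            _ = (c * e) * f := by rw [hce]
            _ = c * (e * f) := mul_assoc _ _ _
        exact hPQ ⟨hcS, hcU⟩
    rwa [le_centralizer_iff]
  refine ⟨hEX, hcore, ?_⟩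
  intro y hy hycop
  obtain ⟨e, he, f, hf, rfl⟩ := bl_mem_genFitting hy
  obtain ⟨a, b, ha, hb, hfab, ⟨k, hak⟩, hbcop⟩ := bl_exists_parts p f
  have hzf : zpowers f ≤ Cfsg.fittingSubgroup H := (zpowers_le).2 hf
  have haF := hzf ha
  have hbF := hzf hb
  -- `b` is centralized by `X`
  have hbM : b ∈ centralizer (X : Set H) := by
    apply Cfsg.Agent.Lib.Helper63.mem_of_prime_power_parts
    intro s' k' j hs' hord
    haveI : Fact s'.Prime := ⟨hs'⟩
    by_cases hj : j = 0
    · rw [hj, pow_zero, orderOf_eq_one_iff] at hord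
      rw [hord]
      exact one_mem _
    · have hs'p : s' ≠ p := by
        rintro rfl
        have h1 : s' ∣ orderOf (b ^ k') := by rw [hord]; exact dvd_pow_self s' hj
        have h2 : s' ∣ orderOf b := h1.trans (orderOf_pow_dvd k')
        have h3 := Nat.eq_one_of_dvd_coprimes hbcop h2 dvd_rfl
        exact hs'.one_lt.ne' h3
      apply hcore s' hs' hs'p
      apply bl_mem_pCore_of_mem_fitting ((Cfsg.fittingSubgroup H).pow_mem hbF k') (k := j)
      rw [← hord]
      exact pow_orderOf_eq_one _
  -- commutations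
  have hab : a * b = b * a := by
    obtain ⟨i, rfl⟩ := mem_zpowers_iff.1 ha
    obtain ⟨j, rfl⟩ := mem_zpowers_iff.1 hb
    exact (Commute.zpow_zpow_self f i j).eq
  have hea : e * a = a * e := bl_layer_fitting_comm he haF
  have heb : e * b = b * e := bl_layer_fitting_comm he hbF
  -- `a` lies in the layer
  have haE : a ∈ Cfsg.layer H := by
    set N := orderOf (e * f) * orderOf b with hN
    have hwb : Commute (e * a) b := by
      change e * a * b = b * (e * a)
      calc e * a * b = e * (a * b) := mul_assoc _ _ _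
        _ = e * (b * a) := by rw [hab]
        _ = (e * b) * a := (mul_assoc _ _ _).symm
        _ = (b * e) * a := by rw [heb]
        _ = b * (e * a) := mul_assoc _ _ _
    have hy' : e * f = (e * a) * b := by rw [hfab, mul_assoc]
    have hwN : (e * a) ^ N = 1 := by
      have h1 : ((e * a) * b) ^ N = 1 := by
        rw [← hy', hN, pow_mul, pow_orderOf_eq_one, one_pow]
      have h2 : b ^ N = 1 := by
        rw [hN, mul_comm, pow_mul, pow_orderOf_eq_one, one_pow]
      rw [hwb.mul_pow, h2, mul_one] at h1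
      exact h1
    have haN : a ^ N ∈ Cfsg.layer H := by
      have hc : Commute e a := hea
      rw [hc.mul_pow] at hwN
      have : a ^ N = (e ^ N)⁻¹ := eq_inv_of_mul_eq_one_right hwN
      rw [this]
      exact (Cfsg.layer H).inv_mem ((Cfsg.layer H).pow_mem he N)
    have hNcop : Nat.Coprime N (p ^ k) := by
      apply Nat.Coprime.pow_right
      rw [hN]
      exact Nat.Coprime.mul_left hycop hbcop
    have : a = (a ^ N) ^ (N.gcdA (p ^ k)) := by
      have h4 : a = (a ^ N) ^ (N.gcdA (p ^ k)) * (a ^ (p ^ k)) ^ (N.gcdB (p ^ k)) := by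
        rw [← zpow_natCast a N, ← zpow_natCast a (p ^ k), ← zpow_mul, ← zpow_mul, ← zpow_add,
          ← Nat.gcd_eq_gcd_ab, hNcop, Nat.cast_one, zpow_one]
      rw [hak, one_zpow, mul_one] at h4
      exact h4
    rw [this]
    exact (Cfsg.layer H).zpow_mem haN _
  rw [hfab, ← mul_assoc]
  exact (centralizer (X : Set H)).mul_mem
    ((centralizer (X : Set H)).mul_mem (hEX he) (hEX haE)) hbM

/-- `Z(F*(H)) ≤ F(H)`. -/
theorem bl_center_genFitting_le_fitting :
    Cfsg.generalizedFittingSubgroup H ⊓ centralizer (Cfsg.generalizedFittingSubgroup H : Set H) ≤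
      Cfsg.fittingSubgroup H := by
  haveI := generalizedFittingSubgroup_normal H
  have hn : (Cfsg.generalizedFittingSubgroup H ⊓
      centralizer (Cfsg.generalizedFittingSubgroup H : Set H)).Normal := inferInstance
  apply le_fittingSubgroup hn
  haveI : IsMulCommutative ↥(Cfsg.generalizedFittingSubgroup H ⊓
      centralizer (Cfsg.generalizedFittingSubgroup H : Set H)) := by
    refine ⟨⟨fun a b => ?_⟩⟩
    apply Subtype.ext
    have h : (b : H) ∈ centralizer (Cfsg.generalizedFittingSubgroup H : Set H) := b.2.2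
    rw [mem_centralizer_iff] at h
    exact h a a.2.1
  exact isNilpotent_of_isMulCommutative _

/-- The subgroup `E(H) Z(F*(H))`. -/
def blD (H : Type u) [Group H] : Subgroup H :=
  Cfsg.layer H ⊔ (Cfsg.generalizedFittingSubgroup H ⊓
    centralizer (Cfsg.generalizedFittingSubgroup H : Set H))

/-- The subgroup generated by the `p'`-elements of `E(H) Z(F*(H))`. -/
def blN (p : ℕ) (H : Type u) [Group H] : Subgroup H :=
  closure {g | g ∈ blD H ∧ (orderOf g).Coprime p}

theorem blD_normal : (blD H).Normal := by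
  haveI := layer_normal H
  haveI := generalizedFittingSubgroup_normal H
  unfold blD
  infer_instance

theorem blN_normal (p : ℕ) : (blN p H).Normal := by
  have hD := blD_normal (H := H)
  constructor
  intro n hn g
  unfold blN at hn ⊢
  induction hn using closure_induction with
  | mem x hx =>
    apply Subgroup.subset_closure
    refine ⟨hD.conj_mem x hx.1 g, ?_⟩
    have : orderOf (g * x * g⁻¹) = orderOf x := by
      have := orderOf_injective (MulAut.conj g).toMonoidHom (MulAut.conj g).injective x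
      simpa using this
    rw [this]
    exact hx.2
  | one => simp
  | mul x y _ _ hx hy =>
    have : g * (x * y) * g⁻¹ = (g * x * g⁻¹) * (g * y * g⁻¹) := by group
    rw [this]
    exact mul_mem hx hy
  | inv x _ hx =>
    have : g * x⁻¹ * g⁻¹ = (g * x * g⁻¹)⁻¹ := by group
    rw [this]
    exact inv_mem hx

theorem blD_le {S : Subgroup H} (hSF : S ≤ Cfsg.generalizedFittingSubgroup H)
    (hSsn : (S.subgroupOf (Cfsg.generalizedFittingSubgroup H)).IsSubnormal)
    (hSC : Cfsg.generalizedFittingSubgroup H ⊓ centralizer (S : Set H) ≤ S) : blD H ≤ S := by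
  unfold blD
  apply sup_le (bl_layer_le hSF hSsn hSC)
  exact (inf_le_inf_left _ (centralizer_le hSF)).trans hSC

/-- If `E(H) Z(F*(H))` has no nontrivial `p'`-element then neither has `F*(H)`. -/
theorem bl_trivial_of_blN_eq_bot [Finite H] {p : ℕ} [hp : Fact p.Prime] (hN : blN p H = ⊥) :
    ∀ y ∈ Cfsg.generalizedFittingSubgroup H, (orderOf y).Coprime p → y = 1 := by
  have hT : ∀ g ∈ blD H, (orderOf g).Coprime p → g = 1 := by
    intro g hg hcop
    have : g ∈ blN p H := Subgroup.subset_closure ⟨hg, hcop⟩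
    rw [hN, mem_bot] at this
    exact this
  -- the layer is trivial
  have hlayer : Cfsg.layer H = ⊥ := by
    rw [eq_bot_iff]
    apply sSup_le
    intro L hL
    exfalso
    have hLD : L ≤ blD H := (component_le_layer hL).trans le_sup_left
    have hLp : IsPGroup p ↥L := by
      intro g
      obtain ⟨a, b, ha, hb, hgab, ⟨k, hak⟩, hbcop⟩ := bl_exists_parts p (g : H)
      have hbL : b ∈ L := (zpowers_le.2 g.2) hb
      have hb1 : b = 1 := hT b (hLD hbL) hbcop
      refine ⟨k, ?_⟩
      apply Subtype.ext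
      rw [Subgroup.coe_pow, hgab, hb1, mul_one, hak]
      rfl
    have hsolv : Group.IsSolvable ↥L := by
      haveI := hLp.isNilpotent
      infer_instance
    exact quasisimple_not_solvable hL.2 hsolv
  -- the cores `O_r(H)`, `r ≠ p`, are trivial
  have hcore : ∀ r : ℕ, r.Prime → r ≠ p → Cfsg.pCore r H = ⊥ := by
    intro r hr hrp
    haveI : Fact r.Prime := ⟨hr⟩
    by_contra hne
    haveI : Nontrivial ↥(Cfsg.pCore r H) := (Subgroup.nontrivial_iff_ne_bot _).2 hne
    have hUp := pCore_isPGroup' r H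
    haveI : Nontrivial ↥(center ↥(Cfsg.pCore r H)) := hUp.center_nontrivial
    obtain ⟨z, hz1⟩ := exists_ne (1 : ↥(center ↥(Cfsg.pCore r H)))
    have hzc : ((z : ↥(Cfsg.pCore r H)) : H) ∈
        (center ↥(Cfsg.pCore r H)).map (Cfsg.pCore r H).subtype :=
      ⟨(z : ↥(Cfsg.pCore r H)), z.2, rfl⟩
    have hzC := bl_center_pCore_le_centralizer r hzc
    have hzF : ((z : ↥(Cfsg.pCore r H)) : H) ∈ Cfsg.generalizedFittingSubgroup H :=
      fitting_le_generalizedFitting H (bl_pCore_le_fitting r (z : ↥(Cfsg.pCore r H)).2)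
    have hzD : ((z : ↥(Cfsg.pCore r H)) : H) ∈ blD H := by
      unfold blD
      exact (le_sup_right : _ ≤ Cfsg.layer H ⊔ _) ⟨hzF, hzC⟩
    have hzcop : (orderOf ((z : ↥(Cfsg.pCore r H)) : H)).Coprime p := by
      obtain ⟨k, hk⟩ := hUp (z : ↥(Cfsg.pCore r H))
      have hk' : (((z : ↥(Cfsg.pCore r H)) : H)) ^ (r ^ k) = 1 := by
        have := congrArg Subtype.val hk
        simpa using this
      have hd : orderOf ((z : ↥(Cfsg.pCore r H)) : H) ∣ r ^ k := orderOf_dvd_of_pow_eq_one hk'
      exact Nat.Coprime.coprime_dvd_left hd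
        (Nat.Coprime.pow_left k ((Nat.coprime_primes hr hp.out).2 hrp))
    have h1 := hT _ hzD hzcop
    apply hz1
    apply Subtype.ext
    apply Subtype.ext
    rw [h1]
    rfl
  intro y hy hycop
  have hyF : y ∈ Cfsg.fittingSubgroup H := by
    unfold Cfsg.generalizedFittingSubgroup at hy
    rw [hlayer, bot_sup_eq] at hy
    exact hy
  have hyb : y ∈ (⊥ : Subgroup H) := by
    apply Cfsg.Agent.Lib.Helper63.mem_of_prime_power_parts
    intro s' k' j hs' hord
    haveI : Fact s'.Prime := ⟨hs'⟩
    by_cases hj : j = 0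
    · rw [hj, pow_zero, orderOf_eq_one_iff] at hord
      rw [hord]
      exact one_mem _
    · have hs'p : s' ≠ p := by
        rintro rfl
        have h1 : s' ∣ orderOf (y ^ k') := by rw [hord]; exact dvd_pow_self s' hj
        have h2 : s' ∣ orderOf y := h1.trans (orderOf_pow_dvd k')
        have h3 := Nat.eq_one_of_dvd_coprimes hycop h2 dvd_rfl
        exact hs'.one_lt.ne' h3
      rw [← hcore s' hs' hs'p]
      apply bl_mem_pCore_of_mem_fitting ((Cfsg.fittingSubgroup H).pow_mem hyF k') (k := j)
      rw [← hord]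
      exact pow_orderOf_eq_one _
  exact mem_bot.1 hyb

section Transport

variable {G : Type u} [Group G]

/-- Transporting the hypotheses on `S ≤ F*(A)` from `G` to `↥A`. -/
theorem bl_transport (A S : Subgroup G)
    (hSF : S ≤ (Cfsg.generalizedFittingSubgroup ↥A).map A.subtype)
    (hSsn : (S.subgroupOf ((Cfsg.generalizedFittingSubgroup ↥A).map A.subtype)).IsSubnormal)
    (hSC : (Cfsg.generalizedFittingSubgroup ↥A).map A.subtype ⊓ centralizer (S : Set G) ≤ S) :
    S.subgroupOf A ≤ Cfsg.generalizedFittingSubgroup ↥A ∧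
    ((S.subgroupOf A).subgroupOf (Cfsg.generalizedFittingSubgroup ↥A)).IsSubnormal ∧
    Cfsg.generalizedFittingSubgroup ↥A ⊓
      centralizer ((S.subgroupOf A : Subgroup ↥A) : Set ↥A) ≤ S.subgroupOf A := by
  have hSA : S ≤ A := hSF.trans (map_subtype_le _)
  refine ⟨?_, ?_, ?_⟩
  · intro s hs
    rw [mem_subgroupOf] at hs
    obtain ⟨a, ha, hae⟩ := hSF hs
    have : a = s := Subtype.ext hae
    rwa [← this]
  · have := hSsn.comap (A.subtype.subgroupMap (Cfsg.generalizedFittingSubgroup ↥A))
    convert this using 1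
    ext x
    rw [mem_subgroupOf, mem_subgroupOf, mem_comap, mem_subgroupOf]
    rfl
  · rintro c ⟨hcF, hcC⟩
    rw [mem_subgroupOf]
    apply hSC
    refine ⟨mem_map_of_mem _ hcF, ?_⟩
    show (c : G) ∈ centralizer (S : Set G)
    rw [mem_centralizer_iff]
    intro s hs
    have hsA := hSA hs
    have hcC' : c ∈ centralizer ((S.subgroupOf A : Subgroup ↥A) : Set ↥A) := hcC
    rw [mem_centralizer_iff] at hcC'
    have := hcC' ⟨s, hsA⟩ (by rw [SetLike.mem_coe, mem_subgroupOf]; exact hs)
    exact congrArg Subtype.val this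

/-- In a simple group, a nontrivial subgroup of a maximal subgroup `A` normalized by `A` has
normalizer `A`. -/
theorem bl_normalizer_eq_of_coatom [IsSimpleGroup G] {A : Subgroup G} (hA : IsCoatom A)
    {N : Subgroup G} (hN : N ≠ ⊥) (hNA : N ≤ A) (hAN : A ≤ normalizer (N : Set G)) :
    normalizer (N : Set G) = A := by
  rcases eq_or_lt_of_le hAN with h | h
  · exact h.symm
  · exfalso
    have h1 := hA.2 _ h
    have hn : N.Normal := normalizer_eq_top_iff.1 h1
    rcases hn.eq_bot_or_eq_top with h2 | h2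
    · exact hN h2
    · apply hA.1
      rw [eq_top_iff, ← h2]
      exact hNA

/-- `B` normalizes the image of `O_q(B)`. -/
theorem bl_le_normalizer_pCore_map (B : Subgroup G) (q : ℕ) :
    B ≤ normalizer (((Cfsg.pCore q ↥B).map B.subtype : Subgroup G) : Set G) := by
  have hn := pCore_normal' q ↥B
  intro b hb
  rw [mem_normalizer_iff]
  intro x
  constructor
  · rintro ⟨y, hy, rfl⟩
    exact ⟨⟨b, hb⟩ * y * ⟨b, hb⟩⁻¹, hn.conj_mem y hy _, rfl⟩
  · rintro ⟨y, hy, hyx⟩
    refine ⟨⟨b, hb⟩⁻¹ * y * ⟨b, hb⟩, ?_, ?_⟩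
    · have := hn.conj_mem y hy ⟨b, hb⟩⁻¹
      simpa using this
    · simp only [Subgroup.subtype_apply, Subgroup.coe_mul, Subgroup.coe_inv]
      have hyx' : (y : G) = b * x * b⁻¹ := hyx
      rw [hyx']
      group

/-- `A` normalizes the image of a normal subgroup of `↥A`. -/
theorem bl_le_normalizer_map_of_normal (A : Subgroup G) {N : Subgroup ↥A} (hn : N.Normal) :
    A ≤ normalizer ((N.map A.subtype : Subgroup G) : Set G) := by
  intro b hb
  rw [mem_normalizer_iff]
  intro x
  constructor
  · rintro ⟨y, hy, rfl⟩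
    exact ⟨⟨b, hb⟩ * y * ⟨b, hb⟩⁻¹, hn.conj_mem y hy _, rfl⟩
  · rintro ⟨y, hy, hyx⟩
    refine ⟨⟨b, hb⟩⁻¹ * y * ⟨b, hb⟩, ?_, ?_⟩
    · have := hn.conj_mem y hy ⟨b, hb⟩⁻¹
      simpa using this
    · simp only [Subgroup.subtype_apply, Subgroup.coe_mul, Subgroup.coe_inv]
      have hyx' : (y : G) = b * x * b⁻¹ := hyx
      rw [hyx']
      group

end Transport

end Cfsg.Agent.Lib.Helper21
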