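import Mathlib.GroupTheory.Index
import Mathlib.GroupTheory.IndexNormal
import Mathlib.GroupTheory.SpecificGroups.Cyclic
import Mathlib.GroupTheory.SpecificGroups.Dihedral
import Mathlib.GroupTheory.Subgroup.Centralizer
import Cfsg.Prelude.Def_CaseTheorems

set_option autoImplicit false

namespace Cfsg.Agent.Lib.Helper21

open Subgroup

section KL
variable {Q : Type*} [Group Q] [Finite Q]

omit [Finite Q] in
/-- a cyclic group all of whose elements square to one has at most two elements -/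
theorem card_le_two_of_cyclic_of_sq (K : Subgroup Q) [IsCyclic K] (h : ∀ k ∈ K, k ^ 2 = 1) :
    Nat.card K ≤ 2 := by
  obtain ⟨g, hg⟩ := IsCyclic.exists_generator (α := K)
  have hcard : Nat.card K = orderOf g := by
    rw [← Nat.card_zpowers g]
    exact Nat.card_congr (Equiv.subtypeUnivEquiv hg).symm
  rw [hcard]
  apply Nat.le_of_dvd (by norm_num)
  apply orderOf_dvd_of_pow_eq_one
  apply Subtype.ext
  rw [SubmonoidClass.coe_pow]
  exact h g g.2

/-- Four-subgroups are self-centralizing in a group with a cyclic subgroup `C` of index two in which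
elements commuting with something outside `C` have exponent two. -/
theorem centralizer_four_le (C : Subgroup Q) [IsCyclic C] (hC2 : C.index = 2)
    (hcomm : ∀ s : Q, s ∉ C → ∀ c ∈ C, c * s = s * c → c ^ 2 = 1)
    (V : Subgroup Q) (hV4 : Nat.card V = 4) (hV2 : ∀ v ∈ V, v ^ 2 = 1) :
    centralizer (V : Set Q) ≤ V := by
  -- an element of `V` outside `C`
  obtain ⟨s, hsV, hsC⟩ : ∃ s ∈ V, s ∉ C := by
    by_contra hcon
    push Not at hcon
    have hle : V ≤ C := hcon
    have hcyc : IsCyclic V := by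
      have : IsCyclic (V.subgroupOf C) := Subgroup.isCyclic _
      exact isCyclic_of_surjective (Subgroup.subgroupOfEquivOfLe hle).toMonoidHom
        (Subgroup.subgroupOfEquivOfLe hle).surjective
    have := card_le_two_of_cyclic_of_sq V hV2
    omega
  have hnorm : C.Normal := normal_of_index_eq_two hC2
  set K := centralizer ({s} : Set Q) with hK
  -- `K ⊓ C` has at most two elements
  have hKC : Nat.card (K ⊓ C : Subgroup Q) ≤ 2 := by
    have hcyc : IsCyclic (K ⊓ C : Subgroup Q) := by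
      have : IsCyclic ((K ⊓ C).subgroupOf C) := Subgroup.isCyclic _
      exact isCyclic_of_surjective (Subgroup.subgroupOfEquivOfLe (inf_le_right : K ⊓ C ≤ C)).toMonoidHom
        (Subgroup.subgroupOfEquivOfLe (inf_le_right : K ⊓ C ≤ C)).surjective
    apply card_le_two_of_cyclic_of_sq
    intro k hk
    obtain ⟨hkK, hkC⟩ := mem_inf.1 hk
    rw [hK, mem_centralizer_singleton_iff] at hkK
    exact hcomm s hsC k hkC hkK
  -- `|K| ≤ 4`
  have hK4 : Nat.card K ≤ 4 := by
    have h1 : C.relIndex K ∣ 2 := hC2 ▸ relIndex_dvd_index_of_normal C K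
    have h2 : C.relIndex K ≤ 2 := Nat.le_of_dvd (by norm_num) h1
    have h3 : Nat.card (C.subgroupOf K) * (C.subgroupOf K).index = Nat.card K := card_mul_index _
    have h4 : Nat.card (C.subgroupOf K) = Nat.card (K ⊓ C : Subgroup Q) := by
      rw [inf_comm]
      exact Nat.card_congr (Subgroup.subgroupOfEquivOfLe (inf_le_right : C ⊓ K ≤ K)).toEquiv |>.symm |>.trans
        (by rw [Subgroup.inf_subgroupOf_right]) |>.symm
    have h5 : (C.subgroupOf K).index = C.relIndex K := rfl
    rw [h4, h5] at h3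
    calc Nat.card K = Nat.card (K ⊓ C : Subgroup Q) * C.relIndex K := h3.symm
      _ ≤ 2 * 2 := Nat.mul_le_mul hKC h2
  -- `V ≤ K`
  have hVK : V ≤ K := by
    intro v hv
    rw [hK, mem_centralizer_singleton_iff]
    have h1 := hV2 v hv
    have h2 := hV2 s hsV
    have h3 := hV2 (v * s) (mul_mem hv hsV)
    have hv' : v⁻¹ = v := by rw [inv_eq_iff_mul_eq_one, ← sq, h1]
    have hs' : s⁻¹ = s := by rw [inv_eq_iff_mul_eq_one, ← sq, h2]
    have h4 : (v * s)⁻¹ = v * s := by rw [inv_eq_iff_mul_eq_one, ← sq, h3]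
    rw [mul_inv_rev, hv', hs'] at h4
    exact h4.symm
  have hVeq : V = K := by
    apply Subgroup.eq_of_le_of_card_ge hVK
    rw [hV4]; exact hK4
  rw [hVeq]
  exact centralizer_le (Set.singleton_subset_iff.2 (hVK hsV))

end KL

section Dihedral

open DihedralGroup

/-- four-subgroups of dihedral groups are self-centralizing -/
theorem dihedral_centralizer_four_le {m : ℕ} (hm : 2 ≤ m) (V : Subgroup (DihedralGroup m))
    (hV4 : Nat.card V = 4) (hV2 : ∀ v ∈ V, v ^ 2 = 1) : centralizer (V : Set (DihedralGroup m)) ≤ V := by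
  have : NeZero m := ⟨by omega⟩
  have hmemC : ∀ i : ZMod m, (r i : DihedralGroup m) ∈ zpowers (r 1 : DihedralGroup m) := by
    intro i
    rw [mem_zpowers_iff]
    refine ⟨(i.val : ℤ), ?_⟩
    rw [r_one_zpow]
    simp
  have hidx : (zpowers (r 1 : DihedralGroup m)).index = 2 := by
    have h1 := card_mul_index (zpowers (r 1 : DihedralGroup m))
    rw [Nat.card_zpowers, orderOf_r_one, DihedralGroup.nat_card] at h1
    have hm0 : 0 < m := by omega
    nlinarith
  apply centralizer_four_le (zpowers (r 1 : DihedralGroup m)) hidx _ V hV4 hV2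
  intro s hs c hc hcs
  cases s with
  | r j => exact absurd (hmemC j) hs
  | sr j =>
    obtain ⟨k, rfl⟩ := mem_zpowers_iff.1 hc
    rw [r_one_zpow] at hcs ⊢
    rw [r_mul_sr, sr_mul_r] at hcs
    have h1 : j - (k : ZMod m) = j + (k : ZMod m) := by
      injection hcs
    have h2 : (k : ZMod m) + (k : ZMod m) = 0 := by
      have : (k : ZMod m) = -(k : ZMod m) := by
        have := congrArg (fun z => z - j) h1
        simpa using this.symm
      calc (k : ZMod m) + (k : ZMod m) = -(k : ZMod m) + (k : ZMod m) := by rw [← this]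
        _ = 0 := by ring
    rw [sq, r_mul_r, h2]
    rfl

end Dihedral

section QD
variable {Q : Type*} [Group Q] [Finite Q]

/-- four-subgroups of quasi-dihedral groups are self-centralizing -/
theorem quasiDihedral_centralizer_four_le (hQ : Cfsg.IsQuasiDihedral Q) (V : Subgroup Q)
    (hV4 : Nat.card V = 4) (hV2 : ∀ v ∈ V, v ^ 2 = 1) : centralizer (V : Set Q) ≤ V := by
  obtain ⟨n, hn, hcard, x, y, hx, hy, hyx⟩ := hQ
  have hidx : (zpowers x).index = 2 := by
    have h1 := card_mul_index (zpowers x)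
    rw [Nat.card_zpowers, hx, hcard, pow_succ] at h1
    have : 0 < 2 ^ n := by positivity
    nlinarith
  -- the exponent
  have he : 2 ^ (n - 1) - 1 = (2 ^ (n - 1) - 2) + 1 := by
    have : 2 ≤ 2 ^ (n - 1) := by
      calc 2 = 2 ^ 1 := by norm_num
        _ ≤ 2 ^ (n - 1) := Nat.pow_le_pow_right (by norm_num) (by omega)
    omega
  have hpos : 0 < 2 ^ (n - 1) - 2 := by
    have : 4 ≤ 2 ^ (n - 1) := by
      calc 4 = 2 ^ 2 := by norm_num
        _ ≤ 2 ^ (n - 1) := Nat.pow_le_pow_right (by norm_num) (by omega)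
    omega
  have hlt : 2 ^ (n - 1) - 2 < 2 ^ n := by
    have : 2 ^ (n - 1) ≤ 2 ^ n := Nat.pow_le_pow_right (by norm_num) (by omega)
    omega
  -- conjugation by `y` on the cyclic group
  have hyc : ∀ c ∈ zpowers x, y * c * y⁻¹ = c ^ (2 ^ (n - 1) - 1) := by
    intro c hc
    obtain ⟨k, rfl⟩ := mem_zpowers_iff.1 hc
    have : y * x ^ k * y⁻¹ = (y * x * y⁻¹) ^ k := by
      rw [conj_zpow]
    rw [this, hyx, ← zpow_natCast, ← zpow_natCast, ← zpow_mul, ← zpow_mul, mul_comm]
  have hyC : y ∉ zpowers x := by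
    intro hy'
    obtain ⟨k, rfl⟩ := mem_zpowers_iff.1 hy'
    have h1 : x ^ k * x * (x ^ k)⁻¹ = x := by group
    rw [h1, he, pow_succ] at hyx
    have h2 : x ^ (2 ^ (n - 1) - 2) = 1 := by
      have := hyx
      calc x ^ (2 ^ (n - 1) - 2) = x ^ (2 ^ (n - 1) - 2) * x * x⁻¹ := by group
        _ = x * x⁻¹ := by rw [← this]
        _ = 1 := by group
    have h3 := orderOf_dvd_of_pow_eq_one h2
    rw [hx] at h3
    exact absurd (Nat.le_of_dvd hpos h3) (by omega)
  apply centralizer_four_le (zpowers x) hidx _ V hV4 hV2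
  intro s hs c hc hcs
  -- `y⁻¹ s ∈ C`
  have hys : y⁻¹ * s ∈ zpowers x := by
    rw [mul_mem_iff_of_index_two hidx]
    constructor
    · intro h; exact absurd (by simpa using h) hyC
    · intro h; exact absurd h hs
  -- `c` commutes with `y`
  have hcomm : ∀ a ∈ zpowers x, ∀ b ∈ zpowers x, a * b = b * a := by
    intro a ha b hb
    obtain ⟨k, rfl⟩ := mem_zpowers_iff.1 ha
    obtain ⟨l, rfl⟩ := mem_zpowers_iff.1 hb
    rw [← zpow_add, ← zpow_add, add_comm]
  have hcy : y * c * y⁻¹ = c := by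
    have h1 := hcomm c hc _ hys
    -- c * s = s * c and s = y * (y⁻¹ s)
    have h2 : c * y = y * c := by
      have hs' : s = y * (y⁻¹ * s) := by group
      have : c * (y * (y⁻¹ * s)) = y * (y⁻¹ * s) * c := by rw [← hs']; exact hcs
      calc c * y = c * (y * (y⁻¹ * s)) * (y⁻¹ * s)⁻¹ := by group
        _ = y * (y⁻¹ * s) * c * (y⁻¹ * s)⁻¹ := by rw [this]
        _ = y * ((y⁻¹ * s) * c) * (y⁻¹ * s)⁻¹ := by group
        _ = y * (c * (y⁻¹ * s)) * (y⁻¹ * s)⁻¹ := by rw [h1]
        _ = y * c := by group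
    rw [← h2]; group
  rw [hyc c hc, he, pow_succ] at hcy
  have h2 : c ^ (2 ^ (n - 1) - 2) = 1 := by
    calc c ^ (2 ^ (n - 1) - 2) = c ^ (2 ^ (n - 1) - 2) * c * c⁻¹ := by group
      _ = c * c⁻¹ := by rw [hcy]
      _ = 1 := by group
  -- order of `c` divides `2^n` and `2 (2^(n-2) - 1)`
  have h3 : orderOf c ∣ 2 ^ (n - 1) - 2 := orderOf_dvd_of_pow_eq_one h2
  have h4 : orderOf c ∣ 2 ^ n := by
    have := orderOf_dvd_natCard (⟨c, hc⟩ : zpowers x)
    rw [Nat.card_zpowers, hx] at this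
    have h5 : orderOf (⟨c, hc⟩ : zpowers x) = orderOf c := Subgroup.orderOf_mk c hc
    rwa [h5] at this
  have h5 : 2 ^ (n - 1) - 2 = 2 * (2 ^ (n - 2) - 1) := by
    have : 2 ^ (n - 1) = 2 * 2 ^ (n - 2) := by
      rw [← pow_succ']; congr 1; omega
    omega
  obtain ⟨k, hk, hck⟩ := (Nat.dvd_prime_pow Nat.prime_two).1 h4
  apply orderOf_dvd_iff_pow_eq_one.1
  rw [hck]
  rw [hck, h5] at h3
  -- 2^k ∣ 2 * odd → k ≤ 1
  have hodd : ¬ 2 ∣ (2 ^ (n - 2) - 1) := by
    have : 2 ∣ 2 ^ (n - 2) := dvd_pow_self 2 (by omega)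
    have hpos2 : 0 < 2 ^ (n - 2) := by positivity
    omega
  have hk1 : k ≤ 1 := by
    by_contra hk2
    push Not at hk2
    have h6 : 2 ^ 2 ∣ 2 ^ k := pow_dvd_pow 2 hk2
    have h7 : 2 * 2 ∣ 2 * (2 ^ (n - 2) - 1) := by
      have := dvd_trans h6 h3
      simpa [pow_two] using this
    exact hodd (Nat.dvd_of_mul_dvd_mul_left (by norm_num) h7)
  calc 2 ^ k ∣ 2 ^ 1 := pow_dvd_pow 2 hk1
    _ = 2 := by norm_num

end QD

end Cfsg.Agent.Lib.Helper21
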