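import Mathlib.GroupTheory.Sylow
import Mathlib.GroupTheory.Nilpotent
import Cfsg.Prelude.Def_CaseTheorems

set_option autoImplicit false

namespace Cfsg.Agent.Lib.Helper21

open Subgroup

/-- `PRankLE` pulls back along injective homomorphisms. -/
theorem pRankLE_of_injective {X Y : Type*} [Group X] [Group Y] (p r : ℕ) (f : X →* Y)
    (hf : Function.Injective f) (h : Cfsg.PRankLE p r Y) : Cfsg.PRankLE p r X := by
  intro A hA hexp
  have h1 := h (A.map f) inferInstance (by
    rintro _ ⟨a, ha, rfl⟩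
    rw [← map_pow, hexp a ha, map_one])
  rwa [Nat.card_congr (A.equivMapOfInjective f hf).symm.toEquiv] at h1

/-- rank `> r`, phrased with subgroups of the ambient group. -/
def RankGT {G : Type*} [Group G] (p r : ℕ) (X : Subgroup G) : Prop :=
  ∃ A : Subgroup G, A ≤ X ∧ IsMulCommutative A ∧ (∀ a ∈ A, a ^ p = 1) ∧ p ^ r < Nat.card A

theorem not_pRankLE_iff {G : Type*} [Group G] (p r : ℕ) (X : Subgroup G) :
    ¬ Cfsg.PRankLE p r ↥X ↔ RankGT p r X := by
  constructor
  · intro h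
    unfold Cfsg.PRankLE at h
    push Not at h
    obtain ⟨A, hA, hexp, hcard⟩ := h
    refine ⟨A.map X.subtype, map_subtype_le _, inferInstance, ?_, ?_⟩
    · rintro _ ⟨a, ha, rfl⟩
      rw [← map_pow, hexp a ha, map_one]
    · rwa [Nat.card_congr (A.equivMapOfInjective X.subtype X.subtype_injective).symm.toEquiv]
  · rintro ⟨A, hAX, hA, hexp, hcard⟩ h
    have h1 := h (A.subgroupOf X) inferInstance (by
      intro a ha
      apply Subtype.ext
      rw [SubmonoidClass.coe_pow]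
      exact hexp _ (mem_subgroupOf.1 ha))
    rw [Nat.card_congr (Subgroup.subgroupOfEquivOfLe hAX).toEquiv] at h1
    exact absurd hcard (not_lt.2 h1)

theorem RankGT.mono {G : Type*} [Group G] {p r : ℕ} {X Y : Subgroup G} (h : X ≤ Y)
    (hX : RankGT p r X) : RankGT p r Y := by
  obtain ⟨A, hAX, hA, hexp, hcard⟩ := hX
  exact ⟨A, hAX.trans h, hA, hexp, hcard⟩

theorem RankGT.isPGroup_witness {G : Type*} [Group G] {p r : ℕ} {X : Subgroup G}
    (hX : RankGT p r X) :
    ∃ A : Subgroup G, A ≤ X ∧ IsPGroup p A ∧ RankGT p r A := by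
  obtain ⟨A, hAX, hA, hexp, hcard⟩ := hX
  refine ⟨A, hAX, ?_, A, le_rfl, hA, hexp, hcard⟩
  intro a
  refine ⟨1, ?_⟩
  apply Subtype.ext
  rw [pow_one, SubmonoidClass.coe_pow]
  exact hexp _ a.2

theorem RankGT.conj {G : Type*} [Group G] {p r : ℕ} {X : Subgroup G} (g : G)
    (hX : RankGT p r X) : RankGT p r (X.map (MulAut.conj g).toMonoidHom) := by
  obtain ⟨A, hAX, hA, hexp, hcard⟩ := hX
  refine ⟨A.map (MulAut.conj g).toMonoidHom, map_mono hAX, inferInstance, ?_, ?_⟩
  · rintro _ ⟨a, ha, rfl⟩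
    rw [← map_pow, hexp a ha, map_one]
  · rwa [Nat.card_congr (A.equivMapOfInjective _ (MulAut.conj g).injective).symm.toEquiv]

theorem mem_map_conj_iff {G : Type*} [Group G] {H : Subgroup G} {g y : G} :
    y ∈ H.map (MulAut.conj g).toMonoidHom ↔ g⁻¹ * y * g ∈ H := by
  constructor
  · rintro ⟨x, hx, rfl⟩
    simpa [mul_assoc] using hx
  · intro h
    exact ⟨g⁻¹ * y * g, h, by simp [mul_assoc]⟩

/-- A Sylow subgroup of a subgroup `H`, viewed in `G`, is maximal among the `p`-subgroups of `H`. -/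
theorem sylow_map_subtype_maximal {G : Type*} [Group G] {p : ℕ} {H : Subgroup G} (P : Sylow p ↥H)
    {P' : Subgroup G} (hp : IsPGroup p P') (hle : P' ≤ H)
    (h : (P : Subgroup ↥H).map H.subtype ≤ P') : P' = (P : Subgroup ↥H).map H.subtype := by
  have h1 : IsPGroup p (P'.subgroupOf H) := hp.comap_subtype
  have h2 : (P : Subgroup ↥H) ≤ P'.subgroupOf H := by
    intro x hx
    rw [mem_subgroupOf]
    exact h ⟨x, hx, rfl⟩
  have h3 := P.is_maximal' h1 h2
  rw [← h3, map_subgroupOf_eq_of_le hle]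

/-- Every `p`-subgroup of `H` is `H`-conjugate into a given Sylow `p`-subgroup of `H`. -/
theorem exists_conj_le_sylow_of_le {G : Type*} [Group G] [Finite G] {p : ℕ} [Fact p.Prime]
    {H : Subgroup G} (P : Sylow p ↥H) {Q : Subgroup G} (hQ : IsPGroup p Q) (hQH : Q ≤ H) :
    ∃ h ∈ H, ∀ x ∈ Q, h * x * h⁻¹ ∈ (P : Subgroup ↥H).map H.subtype := by
  have hp₂ : IsPGroup p (Q.subgroupOf H) := hQ.comap_subtype
  obtain ⟨Q', hQ'⟩ := hp₂.exists_le_sylow
  obtain ⟨c, hc⟩ := MulAction.exists_smul_eq H Q' P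
  refine ⟨c, c.2, fun x hx => ?_⟩
  have hxQ : (⟨x, hQH hx⟩ : H) ∈ (Q' : Subgroup H) := hQ' (mem_subgroupOf.2 hx)
  have : c * ⟨x, hQH hx⟩ * c⁻¹ ∈ (P : Subgroup H) := by
    rw [← hc, Sylow.coe_subgroup_smul, Subgroup.mem_pointwise_smul_iff_inv_smul_mem]
    simpa [MulAut.smul_def, mul_assoc] using hxQ
  exact ⟨_, this, rfl⟩

/-- Normalizers grow in `p`-groups. -/
theorem exists_normalizer_not_mem {G : Type*} [Group G] [Finite G] {p : ℕ} [Fact p.Prime]
    {Q P' : Subgroup G} (hP' : IsPGroup p P') (hlt : Q < P') :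
    ∃ n ∈ P', n ∈ normalizer (Q : Set G) ∧ n ∉ Q := by
  have hnil : Group.IsNilpotent ↥P' := hP'.isNilpotent
  have hnc : NormalizerCondition ↥P' := Group.normalizerCondition_of_isNilpotent
  have hQ' : Q.subgroupOf P' < ⊤ := by
    rw [lt_top_iff_ne_top, Ne, subgroupOf_eq_top]
    exact not_le_of_gt hlt
  have h1 := hnc _ hQ'
  obtain ⟨n', hn', hnQ⟩ := SetLike.exists_of_lt h1
  refine ⟨n', n'.2, ?_, fun h => hnQ (mem_subgroupOf.2 h)⟩
  rw [mem_normalizer_iff] at hn' ⊢
  intro x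
  constructor
  · intro hx
    have := (hn' ⟨x, hlt.le hx⟩).1 (mem_subgroupOf.2 hx)
    exact mem_subgroupOf.1 this
  · intro hx
    have hxP : x ∈ P' := by
      have : x = (n' : G)⁻¹ * (n' * x * (n' : G)⁻¹) * n' := by group
      rw [this]
      exact P'.mul_mem (P'.mul_mem (P'.inv_mem n'.2) (hlt.le hx)) n'.2
    have := (hn' ⟨x, hxP⟩).2 (mem_subgroupOf.2 hx)
    exact mem_subgroupOf.1 this

/-- In a finite group, an element conjugating a subgroup into itself normalizes it. -/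
theorem mem_normalizer_of_conj_le {G : Type*} [Group G] [Finite G] {K : Subgroup G} {g : G}
    (h : ∀ x ∈ K, g * x * g⁻¹ ∈ K) : g ∈ normalizer (K : Set G) := by
  let f : K → K := fun x => ⟨g * x * g⁻¹, h x x.2⟩
  have hf : Function.Injective f := by
    intro a b hab
    have := congrArg Subtype.val hab
    simp only [f] at this
    exact Subtype.ext (mul_left_cancel (mul_right_cancel this))
  have hs : Function.Surjective f := Finite.surjective_of_injective hf
  rw [mem_normalizer_iff]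
  intro y
  refine ⟨h y, fun hy => ?_⟩
  obtain ⟨x, hx⟩ := hs ⟨g * y * g⁻¹, hy⟩
  have : g * x * g⁻¹ = g * y * g⁻¹ := congrArg Subtype.val hx
  have : (x : G) = y := mul_left_cancel (mul_right_cancel this)
  rw [← this]; exact x.2

end Cfsg.Agent.Lib.Helper21
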