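import Cfsg.Statements.S1378

set_option autoImplicit false

/-!
# Bender–Glauberman Theorem 13.9 (the `σ(M)` partition the primes): the configuration

`Cfg M N p P`: two non-conjugate maximal subgroups `M`, `N` of `G` sharing a Sylow `p`-subgroup `P`
of `G`, with `p ∈ σ(M) ∩ σ(N)`.  The theorem says that this configuration does not exist.
`Stmt1428` (BG 13.4) and `Stmt131a` (BG 13.1(a), in the strong form without commutator hypothesis)
are the two statements of §13 that the proof uses as hypotheses.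
-/

namespace Cfsg.Agent.Lib.Helper21.BG139

open Subgroup Cfsg

universe u

variable {G : Type u} [Group G] [Finite G]

/-- Two non-conjugate maximal subgroups `M`, `N` sharing a Sylow `p`-subgroup `P` of `G`,
with `p ∈ σ(M) ∩ σ(N)`. -/
structure Cfg (M N : Subgroup G) (p : ℕ) [Fact p.Prime] (P : Sylow p G) : Prop where
  hM : IsCoatom M
  hN : IsCoatom N
  hnc : ∀ g : G, N ≠ M.map (MulAut.conj g).toMonoidHom
  hpM : p ∈ sigma M
  hpN : p ∈ sigma N
  hPM : (P : Subgroup G) ≤ M
  hPN : (P : Subgroup G) ≤ N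

/-- S1428 = BG 13.4 as a hypothesis. -/
def Stmt1428 (G : Type u) [Group G] [Finite G] : Prop :=
  ∀ (M : Subgroup G), IsCoatom M → ∀ E : Subgroup G, IsComplIn E (sigmaCore M) M →
    ∀ p : ℕ, p ∈ tau1 M → ∀ P : Subgroup G, P ≤ E → Nat.card P = p →
    ∀ R : Subgroup G, R ≤ E ⊓ centralizer (P : Set G) → (Nat.card R).Prime →
      sigmaCore M ⊓ centralizer (P : Set G) ≤ sigmaCore M ⊓ centralizer (R : Set G)

/-- BG Lemma 13.1(a) in the strong form (no commutator hypothesis): for non-conjugate maximal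
subgroups `M`, `H` and a prime `r ∉ σ(M)`, `r ∉ τ₁(H)`, every `r`-subgroup of `M ∩ H` centralizes
`M_σ ∩ H`. -/
def Stmt131a (G : Type u) [Group G] [Finite G] : Prop :=
  ∀ M H : Subgroup G, IsCoatom M → IsCoatom H →
    (∀ g : G, H ≠ M.map (MulAut.conj g).toMonoidHom) →
    ∀ r : ℕ, r.Prime → r ∉ sigma M → r ∉ tau1 H → ∀ R : Subgroup G, IsPGroup r R → R ≤ M ⊓ H →
      sigmaCore M ⊓ H ≤ centralizer (R : Set G)

variable {M N : Subgroup G} {p : ℕ} [Fact p.Prime] {P : Sylow p G}

theorem map_conj_inv_map_conj (g : G) (S : Subgroup G) :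
    (S.map (MulAut.conj g).toMonoidHom).map (MulAut.conj g⁻¹).toMonoidHom = S := by
  ext x
  simp only [Subgroup.mem_map, MulEquiv.coe_toMonoidHom, MulAut.conj_apply]
  constructor
  · rintro ⟨y, ⟨z, hz, rfl⟩, rfl⟩
    have : g⁻¹ * (g * z * g⁻¹) * g⁻¹⁻¹ = z := by group
    rw [this]; exact hz
  · intro hx
    exact ⟨g * x * g⁻¹, ⟨x, hx, rfl⟩, by group⟩

/-- the configuration is symmetric in `M` and `N` -/
theorem Cfg.symm (c : Cfg M N p P) : Cfg N M p P where
  hM := c.hN
  hN := c.hM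
  hnc := by
    intro g h
    apply c.hnc g⁻¹
    rw [h, map_conj_inv_map_conj]
  hpM := c.hpN
  hpN := c.hpM
  hPM := c.hPN
  hPN := c.hPM

end Cfsg.Agent.Lib.Helper21.BG139
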