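import Cfsg.Agent.Lib.Helper19.HallRel
import Cfsg.Prelude.Def_OddOrderLocal

set_option autoImplicit false
set_option linter.unusedSectionVars false

/-!
# Hall subgroups of solvable subgroups, in the vocabulary of the statements
-/

namespace Cfsg.Agent.Lib.Helper21

open Subgroup Cfsg

universe u

variable {G : Type u} [Group G] [Finite G]

/-- In a solvable subgroup `D`, every `π`-subgroup lies in a Hall `π`-subgroup of `D`. -/
theorem exists_isPiHallOf_ge (π : Set ℕ) (D : Subgroup G) (hs : Group.IsSolvable ↥D)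
    (U : Subgroup G) (hUD : U ≤ D) (hU : ∀ q : ℕ, q.Prime → q ∣ Nat.card U → q ∈ π) :
    ∃ T : Subgroup G, IsPiHallOf π T D ∧ U ≤ T := by
  obtain ⟨m, n, hN, hmn, hm, hn⟩ :=
    Cfsg.Agent.Lib.Helper19.HallRel.pi_factorization π (Nat.card D) Nat.card_pos
  have hX : Nat.card (⊤ : Subgroup ↥D) = m * n := by rw [Subgroup.card_top, hN]
  have hcardU : Nat.card (U.subgroupOf D) = Nat.card U :=
    Nat.card_congr (Subgroup.subgroupOfEquivOfLe hUD).toEquiv
  have hUcop : (Nat.card (U.subgroupOf D)).Coprime n := by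
    rw [hcardU]
    apply Nat.coprime_of_dvd
    intro k hk hkU hkn
    exact hn k hk hkn (hU k hk hkU)
  obtain ⟨H₂, -, hH₂, hUH⟩ := Cfsg.Agent.Lib.Helper19.HallRel.exists_hall_ge (S := ↥D)
    (⊤ : Subgroup ↥D) m n hX hmn (U.subgroupOf D) le_top hUcop
  have hcardT : Nat.card (H₂.map D.subtype) = m := by
    rw [Subgroup.card_map_of_injective D.subtype_injective, hH₂]
  have hTD : H₂.map D.subtype ≤ D := Subgroup.map_subtype_le _
  have hmpos : 0 < m := by
    rcases Nat.eq_zero_or_pos m with h | h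
    · rw [h, zero_mul] at hN
      exact absurd hN (Nat.card_pos).ne'
    · exact h
  have hrel : (H₂.map D.subtype).relIndex D = n := by
    have h1 := Subgroup.relIndex_mul_relIndex (⊥ : Subgroup G) (H₂.map D.subtype) D bot_le hTD
    rw [Subgroup.relIndex_bot_left, Subgroup.relIndex_bot_left, hcardT, hN] at h1
    exact Nat.eq_of_mul_eq_mul_left hmpos h1
  refine ⟨H₂.map D.subtype, ⟨hTD, ?_, ?_⟩, ?_⟩
  · intro q hq hqd
    rw [hcardT] at hqd
    exact hm q hq hqd
  · intro q hq hqπ hqd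
    rw [hrel] at hqd
    exact hn q hq hqd hqπ
  · intro u hu
    exact ⟨⟨u, hUD hu⟩, hUH (Subgroup.mem_subgroupOf.mpr hu), rfl⟩

/-- A solvable subgroup has Hall `π`-subgroups. -/
theorem exists_isPiHallOf (π : Set ℕ) (D : Subgroup G) (hs : Group.IsSolvable ↥D) :
    ∃ T : Subgroup G, IsPiHallOf π T D := by
  obtain ⟨T, hT, -⟩ := exists_isPiHallOf_ge π D hs ⊥ bot_le (by
    intro q hq hqd
    rw [Subgroup.card_bot] at hqd
    exact absurd (Nat.dvd_one.mp hqd) hq.one_lt.ne')
  exact ⟨T, hT⟩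

end Cfsg.Agent.Lib.Helper21
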