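import Mathlib.Topology.Compactification.OnePoint.ProjectiveLine
import Mathlib.LinearAlgebra.Matrix.ProjectiveSpecialLinearGroup
import Mathlib.GroupTheory.QuotientGroup.Basic

set_option autoImplicit false

namespace Cfsg.Agent.Lib.Helper21

open Matrix OnePoint

section
variable {K : Type*} [Field K] [DecidableEq K]

/-- the Moebius action of `SL(2,K)` on the projective line `K ∪ {∞}` -/
def slSmul (A : SpecialLinearGroup (Fin 2) K) (p : OnePoint K) : OnePoint K :=
  (SpecialLinearGroup.toGL A) • p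

theorem slSmul_one (p : OnePoint K) : slSmul (1 : SpecialLinearGroup (Fin 2) K) p = p := by
  unfold slSmul; rw [map_one, one_smul]

theorem slSmul_mul (A B : SpecialLinearGroup (Fin 2) K) (p : OnePoint K) :
    slSmul (A * B) p = slSmul A (slSmul B p) := by
  unfold slSmul; rw [map_mul, mul_smul]

theorem slSmul_infty (A : SpecialLinearGroup (Fin 2) K) :
    slSmul A (∞ : OnePoint K) = if A 1 0 = 0 then ∞ else ((A 0 0 / A 1 0 : K) : OnePoint K) := by
  unfold slSmul
  rw [smul_infty_eq_ite]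
  rfl

theorem slSmul_coe (A : SpecialLinearGroup (Fin 2) K) (k : K) :
    slSmul A (k : OnePoint K) = if A 1 0 * k + A 1 1 = 0 then ∞ else
      (((A 0 0 * k + A 0 1) / (A 1 0 * k + A 1 1) : K) : OnePoint K) := by
  unfold slSmul
  rw [smul_some_eq_ite]
  rfl

theorem slSmul_mk_infty (a b c d : K) (h : det !![a, b; c, d] = 1) :
    slSmul ⟨!![a, b; c, d], h⟩ (∞ : OnePoint K) =
      if c = 0 then ∞ else ((a / c : K) : OnePoint K) := by
  have := slSmul_infty (⟨!![a, b; c, d], h⟩ : SpecialLinearGroup (Fin 2) K)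
  simpa using this

theorem slSmul_mk_coe (a b c d : K) (h : det !![a, b; c, d] = 1) (k : K) :
    slSmul ⟨!![a, b; c, d], h⟩ (k : OnePoint K) =
      if c * k + d = 0 then ∞ else (((a * k + b) / (c * k + d) : K) : OnePoint K) := by
  have := slSmul_coe (⟨!![a, b; c, d], h⟩ : SpecialLinearGroup (Fin 2) K) k
  simpa using this

theorem slSmul_injective (A : SpecialLinearGroup (Fin 2) K) : Function.Injective (slSmul A) := by
  intro p q h
  have := congrArg (slSmul A⁻¹) h
  rwa [← slSmul_mul, ← slSmul_mul, inv_mul_cancel, slSmul_one, slSmul_one] at this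

omit [DecidableEq K] in
/-- in characteristic two, a square root of one is one -/
theorem eq_one_of_sq_eq_one_of_two_eq_zero (h2 : (2 : K) = 0) {r : K} (hr : r ^ 2 = 1) : r = 1 := by
  have h : (r - 1) ^ 2 = 0 := by
    have : (r - 1) ^ 2 = r ^ 2 + 1 - 2 * r := by ring
    rw [this, hr, h2, zero_mul, sub_zero]
    have : (1 : K) + 1 = 2 := by norm_num
    rw [this, h2]
  have := pow_eq_zero_iff (two_ne_zero) |>.1 h
  exact sub_eq_zero.1 this

/-- an element of `SL(2,K)`, `char K = 2`, fixing `∞`, `0` and `1` is the identity -/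
theorem sl_eq_one_of_fix3 (h2 : (2 : K) = 0) {A : SpecialLinearGroup (Fin 2) K}
    (hinf : slSmul A (∞ : OnePoint K) = ∞) (h0 : slSmul A ((0 : K) : OnePoint K) = ((0 : K) : OnePoint K))
    (h1 : slSmul A ((1 : K) : OnePoint K) = ((1 : K) : OnePoint K)) : A = 1 := by
  have h10 : A 1 0 = 0 := by
    rw [slSmul_infty] at hinf
    by_contra h
    rw [if_neg h] at hinf
    exact coe_ne_infty _ hinf
  rw [slSmul_coe, h10] at h0 h1
  simp only [zero_add, mul_zero, mul_one] at h0 h1
  have h11 : A 1 1 ≠ 0 := by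
    intro h
    rw [if_pos h] at h0
    exact infty_ne_coe _ h0
  rw [if_neg h11] at h0 h1
  rw [coe_eq_coe] at h0 h1
  have h01 : A 0 1 = 0 := by
    rcases div_eq_zero_iff.1 h0 with h | h
    · exact h
    · exact absurd h h11
  rw [h01, add_zero, div_eq_one_iff_eq h11] at h1
  have hdet : A 0 0 * A 1 1 - A 0 1 * A 1 0 = 1 := by
    have := A.det_coe
    rwa [det_fin_two] at this
  rw [h01, zero_mul, sub_zero, h1, ← sq] at hdet
  have h11' := eq_one_of_sq_eq_one_of_two_eq_zero h2 hdet
  ext i j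
  fin_cases i <;> fin_cases j
  · simpa [h11'] using h1
  · simpa using h01
  · simpa using h10
  · simpa using h11'

omit [DecidableEq K] in
/-- in characteristic two the centre of `SL(2,K)` is trivial -/
theorem sl_center_eq_bot (h2 : (2 : K) = 0) :
    Subgroup.center (SpecialLinearGroup (Fin 2) K) = ⊥ := by
  rw [eq_bot_iff]
  intro A hA
  rw [Matrix.SpecialLinearGroup.mem_center_iff] at hA
  obtain ⟨r, hr, hA⟩ := hA
  rw [Fintype.card_fin] at hr
  have hr1 := eq_one_of_sq_eq_one_of_two_eq_zero h2 hr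
  rw [Subgroup.mem_bot]
  ext i j
  rw [← hA, hr1]
  simp

omit [DecidableEq K] in
/-- in characteristic two `SL(2,K) ≅ PSL(2,K)` -/
theorem sl_equiv_psl (h2 : (2 : K) = 0) :
    Nonempty (SpecialLinearGroup (Fin 2) K ≃* ProjectiveSpecialLinearGroup (Fin 2) K) :=
  ⟨((QuotientGroup.quotientMulEquivOfEq (sl_center_eq_bot h2)).trans
    QuotientGroup.quotientBot).symm⟩

/-- Recognition of `SL(2,K)`, `char K = 2`, as a sharply triply transitive group on the projective
line all of whose elements act as Moebius transformations. -/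
theorem sl2_recognize {G X : Type*} [Group G] [MulAction G X] (h2 : (2 : K) = 0)
    (Ψ : OnePoint K ≃ X)
    (hrep : ∀ g : G, ∃ A : SpecialLinearGroup (Fin 2) K, ∀ p, g • Ψ p = Ψ (slSmul A p))
    (hfaith : ∀ g : G, (∀ x : X, g • x = x) → g = 1)
    (h3 : ∀ x₁ x₂ x₃ y₁ y₂ y₃ : X, x₁ ≠ x₂ → x₁ ≠ x₃ → x₂ ≠ x₃ → y₁ ≠ y₂ → y₁ ≠ y₃ → y₂ ≠ y₃ →
      ∃ g : G, g • x₁ = y₁ ∧ g • x₂ = y₂ ∧ g • x₃ = y₃) :
    Nonempty (G ≃* SpecialLinearGroup (Fin 2) K) := by
  -- uniqueness of the representing matrix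
  have huniq : ∀ A B : SpecialLinearGroup (Fin 2) K,
      slSmul A (∞ : OnePoint K) = slSmul B ∞ →
      slSmul A ((0 : K) : OnePoint K) = slSmul B ((0 : K) : OnePoint K) →
      slSmul A ((1 : K) : OnePoint K) = slSmul B ((1 : K) : OnePoint K) → A = B := by
    intro A B hi h0 h1
    have key : B⁻¹ * A = 1 := by
      apply sl_eq_one_of_fix3 h2
      · rw [slSmul_mul, hi, ← slSmul_mul, inv_mul_cancel, slSmul_one]
      · rw [slSmul_mul, h0, ← slSmul_mul, inv_mul_cancel, slSmul_one]
      · rw [slSmul_mul, h1, ← slSmul_mul, inv_mul_cancel, slSmul_one]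
    calc A = B * (B⁻¹ * A) := by group
      _ = B := by rw [key, mul_one]
  choose f hf using hrep
  have hfeq : ∀ (g : G) (B : SpecialLinearGroup (Fin 2) K),
      (∀ p, g • Ψ p = Ψ (slSmul B p)) → f g = B := by
    intro g B hB
    apply huniq
    · exact Ψ.injective ((hf g ∞).symm.trans (hB ∞))
    · exact Ψ.injective ((hf g _).symm.trans (hB _))
    · exact Ψ.injective ((hf g _).symm.trans (hB _))
  have hmul : ∀ g h : G, f (g * h) = f g * f h := by
    intro g h
    apply hfeq
    intro p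
    rw [mul_smul, hf h, hf g, slSmul_mul]
  let φ : G →* SpecialLinearGroup (Fin 2) K := MonoidHom.mk' f hmul
  have hinj : Function.Injective φ := by
    rw [injective_iff_map_eq_one]
    intro g hg
    apply hfaith
    intro x
    obtain ⟨p, rfl⟩ := Ψ.surjective x
    have : f g = 1 := hg
    rw [hf g p, this, slSmul_one]
  have hsurj : Function.Surjective φ := by
    intro A
    have d1 : (∞ : OnePoint K) ≠ ((0 : K) : OnePoint K) := infty_ne_coe _
    have d2 : (∞ : OnePoint K) ≠ ((1 : K) : OnePoint K) := infty_ne_coe _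
    have d3 : ((0 : K) : OnePoint K) ≠ ((1 : K) : OnePoint K) := by
      rw [Ne, coe_eq_coe]; exact zero_ne_one
    obtain ⟨g, hg1, hg2, hg3⟩ := h3 (Ψ ∞) (Ψ ((0 : K) : OnePoint K)) (Ψ ((1 : K) : OnePoint K))
      (Ψ (slSmul A ∞)) (Ψ (slSmul A ((0 : K) : OnePoint K))) (Ψ (slSmul A ((1 : K) : OnePoint K)))
      (fun h => d1 (Ψ.injective h)) (fun h => d2 (Ψ.injective h)) (fun h => d3 (Ψ.injective h))
      (fun h => d1 (slSmul_injective A (Ψ.injective h)))
      (fun h => d2 (slSmul_injective A (Ψ.injective h)))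
      (fun h => d3 (slSmul_injective A (Ψ.injective h)))
    refine ⟨g, ?_⟩
    show f g = A
    apply huniq
    · exact Ψ.injective ((hf g ∞).symm.trans hg1)
    · exact Ψ.injective ((hf g _).symm.trans hg2)
    · exact Ψ.injective ((hf g _).symm.trans hg3)
  exact ⟨MulEquiv.ofBijective φ ⟨hinj, hsurj⟩⟩

end

end Cfsg.Agent.Lib.Helper21
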