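import Mathlib.GroupTheory.Transfer
import Mathlib.GroupTheory.Focal
import Mathlib.Data.ZMod.QuotientGroup

set_option autoImplicit false

namespace Cfsg.Agent.Lib.Helper21

open Subgroup

/-- Computation of the transfer on an element all of whose relevant conjugate powers are controlled. -/
theorem transfer_eq_pow_of_key {G : Type*} [Group G] {H : Subgroup G} [H.FiniteIndex] {A : Type*}
    [CommGroup A] (ϕ : H →* A) (g : G) (hg : g ∈ H)
    (key : ∀ (k : ℕ) (g₀ : G) (hk : g₀⁻¹ * g ^ k * g₀ ∈ H),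
      ϕ ⟨g₀⁻¹ * g ^ k * g₀, hk⟩ = ϕ ⟨g, hg⟩ ^ k) :
    MonoidHom.transfer ϕ g = ϕ ⟨g, hg⟩ ^ H.index := by
  classical
  have : Fintype (Quotient (MulAction.orbitRel (zpowers g) (G ⧸ H))) := Fintype.ofFinite _
  rw [index_eq_sum_minimalPeriod H g, ← Finset.prod_pow_eq_pow_sum,
    MonoidHom.transfer_eq_prod_quotient_orbitRel_zpowers_quot]
  apply Finset.prod_congr rfl
  intro q _
  exact key _ _ _

end Cfsg.Agent.Lib.Helper21
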