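import Mathlib.Algebra.Field.MinimalAxioms
import Mathlib.Algebra.Group.End
import Mathlib.Logic.ExistsUnique

set_option autoImplicit false

namespace Cfsg.Agent.Lib.Helper21

/-- A group `D` with commuting elements acting by automorphisms on a group `A`, regularly on the
non-identity elements (with base point `e`).  Then `A` carries a field structure whose addition is
the group law of `A` and whose multiplicative group is `D`. -/
structure RegData (A D : Type*) [Group A] [Group D] where
  /-- the action -/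
  act : D →* MulAut A
  /-- the base point, which becomes the unit of the field -/
  e : A
  he : e ≠ 1
  comm : ∀ d d' : D, d * d' = d' * d
  reg : ∀ a : A, a ≠ 1 → ∃! d : D, act d e = a

namespace RegData

variable {A D : Type*} [Group A] [Group D] (R : RegData A D)

/-- the field carried by `A` (a type synonym) -/
def F (_R : RegData A D) : Type _ := A

/-- the identity map `A → F` -/
def toF (a : A) : R.F := a

/-- the identity map `F → A` -/
def ofF (x : R.F) : A := x

@[simp] theorem ofF_toF (a : A) : R.ofF (R.toF a) = a := rfl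
@[simp] theorem toF_ofF (x : R.F) : R.toF (R.ofF x) = x := rfl

theorem ofF_injective : Function.Injective R.ofF := fun _ _ h => h

open Classical in
/-- the element of `D` moving the base point to `a` -/
noncomputable def δ (a : A) : D := if h : a = 1 then 1 else (R.reg a h).choose

theorem act_δ {a : A} (h : a ≠ 1) : R.act (R.δ a) R.e = a := by
  unfold δ; rw [dif_neg h]; exact (R.reg a h).choose_spec.1

theorem δ_unique {a : A} (h : a ≠ 1) {d : D} (hd : R.act d R.e = a) : d = R.δ a := by
  unfold δ; rw [dif_neg h]; exact (R.reg a h).choose_spec.2 d hd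

open Classical in
/-- multiplication -/
noncomputable def mul' (a b : A) : A := if a = 1 then 1 else R.act (R.δ a) b

open Classical in
/-- inversion -/
noncomputable def inv' (a : A) : A := if a = 1 then 1 else R.act (R.δ a)⁻¹ R.e

theorem act_eq_one_iff (d : D) (b : A) : R.act d b = 1 ↔ b = 1 :=
  (R.act d).map_eq_one_iff

theorem act_e_ne_one (d : D) : R.act d R.e ≠ 1 := fun h => R.he ((R.act_eq_one_iff d _).1 h)

theorem δ_act_e (d : D) : R.δ (R.act d R.e) = d := (R.δ_unique (R.act_e_ne_one d) rfl).symm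

theorem mul'_one_left (b : A) : R.mul' 1 b = 1 := if_pos rfl

theorem mul'_of_ne {a : A} (h : a ≠ 1) (b : A) : R.mul' a b = R.act (R.δ a) b := if_neg h

theorem mul'_one_right (a : A) : R.mul' a 1 = 1 := by
  by_cases h : a = 1
  · subst h; exact R.mul'_one_left 1
  · rw [R.mul'_of_ne h, map_one]

theorem mul'_ne_one {a b : A} (ha : a ≠ 1) (hb : b ≠ 1) : R.mul' a b ≠ 1 := by
  rw [R.mul'_of_ne ha]
  intro h
  exact hb ((R.act_eq_one_iff _ _).1 h)

theorem δ_mul' {a b : A} (ha : a ≠ 1) (hb : b ≠ 1) : R.δ (R.mul' a b) = R.δ a * R.δ b := by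
  symm
  apply R.δ_unique (R.mul'_ne_one ha hb)
  rw [map_mul, MulAut.mul_apply, R.act_δ hb, R.mul'_of_ne ha]

theorem mul'_assoc (a b c : A) : R.mul' (R.mul' a b) c = R.mul' a (R.mul' b c) := by
  by_cases ha : a = 1
  · subst ha; rw [mul'_one_left, mul'_one_left, mul'_one_left]
  by_cases hb : b = 1
  · subst hb; rw [mul'_one_right, mul'_one_left, mul'_one_right]
  rw [R.mul'_of_ne (R.mul'_ne_one ha hb), R.δ_mul' ha hb, map_mul, MulAut.mul_apply,
    R.mul'_of_ne ha, R.mul'_of_ne hb]

theorem mul'_comm (a b : A) : R.mul' a b = R.mul' b a := by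
  by_cases ha : a = 1
  · subst ha; rw [mul'_one_left, mul'_one_right]
  by_cases hb : b = 1
  · subst hb; rw [mul'_one_left, mul'_one_right]
  rw [R.mul'_of_ne ha, R.mul'_of_ne hb]
  conv_lhs => rw [← R.act_δ hb]
  conv_rhs => rw [← R.act_δ ha]
  rw [← MulAut.mul_apply, ← MulAut.mul_apply, ← map_mul, ← map_mul, R.comm]

theorem δ_e : R.δ R.e = 1 := (R.δ_unique R.he (by simp)).symm

theorem one_mul' (a : A) : R.mul' R.e a = a := by
  rw [R.mul'_of_ne R.he, δ_e, map_one, MulAut.one_apply]

theorem mul'_inv' {a : A} (ha : a ≠ 1) : R.mul' a (R.inv' a) = R.e := by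
  rw [R.mul'_of_ne ha, inv', if_neg ha, map_inv, MulAut.apply_inv_self]

theorem inv'_one : R.inv' 1 = 1 := if_pos rfl

theorem mul'_mul (a b c : A) : R.mul' a (b * c) = R.mul' a b * R.mul' a c := by
  by_cases ha : a = 1
  · subst ha; simp [mul'_one_left]
  · rw [R.mul'_of_ne ha, R.mul'_of_ne ha, R.mul'_of_ne ha, map_mul]

/-- the field structure -/
noncomputable instance instFieldF : Field R.F :=
  @Field.ofMinimalAxioms R.F ⟨fun a b => R.toF (R.ofF a * R.ofF b)⟩
    ⟨fun a b => R.toF (R.mul' (R.ofF a) (R.ofF b))⟩ ⟨fun a => R.toF (R.ofF a)⁻¹⟩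
    ⟨fun a => R.toF (R.inv' (R.ofF a))⟩ ⟨R.toF 1⟩ ⟨R.toF R.e⟩
    (fun a b c => mul_assoc (R.ofF a) (R.ofF b) (R.ofF c))
    (fun a => one_mul (R.ofF a))
    (fun a => inv_mul_cancel (R.ofF a))
    (fun a b c => R.mul'_assoc (R.ofF a) (R.ofF b) (R.ofF c))
    (fun a b => R.mul'_comm (R.ofF a) (R.ofF b))
    (fun a => R.one_mul' (R.ofF a))
    (fun a ha => R.mul'_inv' (a := R.ofF a) ha)
    R.inv'_one
    (fun a b c => R.mul'_mul (R.ofF a) (R.ofF b) (R.ofF c))
    ⟨R.toF 1, R.toF R.e, fun h => R.he h.symm⟩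

theorem ofF_add (x y : R.F) : R.ofF (x + y) = R.ofF x * R.ofF y := rfl

theorem ofF_zero : R.ofF 0 = 1 := rfl

theorem ofF_one : R.ofF 1 = R.e := rfl

theorem ofF_eq_one_iff {x : R.F} : R.ofF x = 1 ↔ x = 0 := Iff.rfl

theorem ofF_mul (x y : R.F) : R.ofF (x * y) = R.mul' (R.ofF x) (R.ofF y) := rfl

theorem ofF_mul_of_ne {x : R.F} (hx : x ≠ 0) (y : R.F) :
    R.ofF (x * y) = R.act (R.δ (R.ofF x)) (R.ofF y) := by
  rw [ofF_mul, R.mul'_of_ne]
  exact hx

/-- the action of `d ∈ D` is multiplication by the field element `d • e` -/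
theorem act_ofF (d : D) (y : R.F) :
    R.act d (R.ofF y) = R.ofF (R.toF (R.act d R.e) * y) := by
  rw [ofF_mul, ofF_toF, R.mul'_of_ne (R.act_e_ne_one d), R.δ_act_e]

theorem toF_act_e_ne_zero (d : D) : R.toF (R.act d R.e) ≠ 0 := R.act_e_ne_one d

end RegData

end Cfsg.Agent.Lib.Helper21
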