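import Cfsg.Agent.Lib.Helper21.ElemInvCent5
import Cfsg.Agent.Lib.Helper21.RegField
import Mathlib.Algebra.Field.TransferInstance
import Mathlib.Algebra.Ring.TransferInstance

set_option autoImplicit false

namespace Cfsg.Agent.Lib.Helper21

open Subgroup Matrix OnePoint

/-- a copy of `Fin n` without any algebraic structure -/
structure FinCopy (n : ℕ) : Type where
  /-- the underlying element of `Fin n` -/
  val : Fin n
deriving DecidableEq

/-- `FinCopy n ≃ Fin n` -/
def FinCopy.equiv (n : ℕ) : FinCopy n ≃ Fin n := ⟨FinCopy.val, FinCopy.mk, fun _ => rfl, fun _ => rfl⟩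

instance (n : ℕ) : Fintype (FinCopy n) := Fintype.ofEquiv (Fin n) (FinCopy.equiv n).symm

theorem FinCopy.card (n : ℕ) : Fintype.card (FinCopy n) = n := by
  rw [Fintype.card_congr (FinCopy.equiv n), Fintype.card_fin]

section
variable {G : Type*} [Group G] [Finite G] (T : Sylow 2 G)
variable (hnc : ¬ IsCyclic (T : Subgroup G)) (hnn : ¬ (T : Subgroup G).Normal)
variable (hC : ∀ t : G, orderOf t = 2 → IsMulCommutative (Subgroup.centralizer ({t} : Set G)) ∧
  ∀ c ∈ Subgroup.centralizer ({t} : Set G), c ^ 2 = 1)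
variable {u : G} (hu : orderOf u = 2) (huH : u ∉ Subgroup.normalizer ((T : Subgroup G) : Set G))

/-- the conjugation action of `D` on `T` -/
def eicAct (u : G) : ↥(eicD T u) →* MulAut ↥(T : Subgroup G) :=
  (T : Subgroup G).normalizerMonoidHom.comp (Subgroup.inclusion inf_le_left)

omit [Finite G] in
theorem eicAct_coe (d : ↥(eicD T u)) (t : ↥(T : Subgroup G)) :
    ((eicAct T u d t : ↥(T : Subgroup G)) : G) = (d : G) * t * (d : G)⁻¹ := rfl

/-- the regular action of `D` on `T` -/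
noncomputable def eicRegData {s : G} (hs : orderOf s = 2) (hsT : s ∈ (T : Subgroup G)) :
    RegData ↥(T : Subgroup G) ↥(eicD T u) where
  act := eicAct T u
  e := ⟨s, hsT⟩
  he := by
    intro h
    have h1 : s = 1 := congrArg Subtype.val h
    rw [h1, orderOf_one] at hs
    norm_num at hs
  comm := fun d d' => Subtype.ext (eic_D_comm T hnc hnn hC hu huH d.2 d'.2)
  reg := by
    intro a ha
    have hao : orderOf (a : G) = 2 :=
      eic_orderOf_T T hnc hC a.2 (fun h => ha (Subtype.ext h))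
    obtain ⟨d, hd, hds⟩ := eic_D_transitive T hnc hnn hC hu huH hs hsT hao a.2
    refine ⟨⟨d, hd⟩, Subtype.ext ?_, ?_⟩
    · rw [eicAct_coe]; exact hds
    · intro d' hd'
      have h1 : (d' : G) * s * (d' : G)⁻¹ = a := by
        have := congrArg Subtype.val hd'
        rwa [eicAct_coe] at this
      apply Subtype.ext
      have hcz : d⁻¹ * (d' : G) ∈ centralizer {s} := by
        rw [mem_centralizer_singleton_iff]
        have h2 : (d' : G) * s * (d' : G)⁻¹ = d * s * d⁻¹ := by rw [h1, hds]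
        calc d⁻¹ * (d' : G) * s = d⁻¹ * ((d' : G) * s * (d' : G)⁻¹) * (d' : G) := by group
          _ = d⁻¹ * (d * s * d⁻¹) * (d' : G) := by rw [h2]
          _ = s * (d⁻¹ * (d' : G)) := by group
      have hsq := (hC s hs).2 _ hcz
      have h3 := eic_D_sq T hnc hnn hC huH (mul_mem (inv_mem hd) d'.2) hsq
      exact (inv_mul_eq_one.1 h3).symm

include hnc hnn hC hu huH in
/-- coordinates: a field of type `Type` on `T` -/
theorem eic_exists_field : ∃ (F : Type) (_ : Field F) (_ : Fintype F) (_ : DecidableEq F),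
    Fintype.card F = Nat.card ↥(T : Subgroup G) ∧ ∃ ι : F ≃ ↥(T : Subgroup G),
      (∀ a b : F, ι (a + b) = ι a * ι b) ∧
      (∀ d ∈ eicD T u, ∃ m : F, ∀ a : F,
        ((ι (m * a) : ↥(T : Subgroup G)) : G) = d * ι a * d⁻¹) ∧
      (∀ a : F, a ≠ 0 → ∃ d ∈ eicD T u,
        ∀ b : F, ((ι (a * b) : ↥(T : Subgroup G)) : G) = d * ι b * d⁻¹) := by
  obtain ⟨s, hs, hsT, -⟩ := exists_central_invol T (eic_T_ne_bot T hnc)
  let R := eicRegData T hnc hnn hC hu huH hs hsT
  let e₀ : FinCopy (Nat.card ↥(T : Subgroup G)) ≃ R.F :=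
    (FinCopy.equiv _).trans (Finite.equivFin ↥(T : Subgroup G)).symm
  let _ : Field (FinCopy (Nat.card ↥(T : Subgroup G))) := e₀.field
  let ρ : FinCopy (Nat.card ↥(T : Subgroup G)) ≃+* R.F := e₀.ringEquiv
  let ι : FinCopy (Nat.card ↥(T : Subgroup G)) ≃ ↥(T : Subgroup G) :=
    ⟨fun a => R.ofF (ρ a), fun t => ρ.symm (R.toF t), fun a => by simp, fun t => by simp⟩
  have hι : ∀ a, ι a = R.ofF (ρ a) := fun _ => rfl
  refine ⟨FinCopy (Nat.card ↥(T : Subgroup G)), e₀.field, inferInstance, inferInstance,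
    FinCopy.card _, ι, ?_, ?_, ?_⟩
  · intro a b
    rw [hι, hι, hι, map_add, R.ofF_add]
  · intro d hd
    refine ⟨ρ.symm (R.toF (R.act ⟨d, hd⟩ R.e)), ?_⟩
    intro a
    rw [hι, hι, map_mul, RingEquiv.apply_symm_apply, ← R.act_ofF]
    rfl
  · intro a ha
    have hρa : ρ a ≠ 0 := by
      intro h
      apply ha
      have := congrArg ρ.symm h
      rwa [RingEquiv.symm_apply_apply, map_zero] at this
    refine ⟨(R.δ (R.ofF (ρ a)) : ↥(eicD T u)), (R.δ (R.ofF (ρ a))).2, ?_⟩
    intro b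
    rw [hι, hι, map_mul, R.ofF_mul_of_ne hρa]
    rfl

end

end Cfsg.Agent.Lib.Helper21
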