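import Cfsg.Agent.Lib.Helper21.ElemInvCent3

set_option autoImplicit false

namespace Cfsg.Agent.Lib.Helper21

open Subgroup

section
variable {G : Type*} [Group G] [Finite G] (T : Sylow 2 G)
variable (hnc : ¬ IsCyclic (T : Subgroup G)) (hnn : ¬ (T : Subgroup G).Normal)
variable (hC : ∀ t : G, orderOf t = 2 → IsMulCommutative (Subgroup.centralizer ({t} : Set G)) ∧
  ∀ c ∈ Subgroup.centralizer ({t} : Set G), c ^ 2 = 1)
variable {u : G} (hu : orderOf u = 2) (huH : u ∉ Subgroup.normalizer ((T : Subgroup G) : Set G))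

include hnc hnn hC hu huH in
/-- `D` is abelian (it is inverted by `u`). -/
theorem eic_D_comm {a b : G} (ha : a ∈ eicD T u) (hb : b ∈ eicD T u) : a * b = b * a := by
  have h1 := eic_u_inverts T hnc hnn hC hu huH a ha
  have h2 := eic_u_inverts T hnc hnn hC hu huH b hb
  have h3 := eic_u_inverts T hnc hnn hC hu huH (a * b) (mul_mem ha hb)
  have h4 : u * (a * b) * u⁻¹ = (u * a * u⁻¹) * (u * b * u⁻¹) := by group
  rw [h4, h1, h2, mul_inv_rev] at h3
  -- a⁻¹ * b⁻¹ = b⁻¹ * a⁻¹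
  have h5 : (a⁻¹ * b⁻¹)⁻¹ = (b⁻¹ * a⁻¹)⁻¹ := by rw [h3]
  simpa [mul_inv_rev] using h5.symm

include hnc hC in
/-- a nonidentity element of `T` is an involution -/
theorem eic_orderOf_T {t : G} (ht : t ∈ (T : Subgroup G)) (ht1 : t ≠ 1) : orderOf t = 2 := by
  have hT2 := sylow_sq_eq_one T hC (eic_T_ne_bot T hnc)
  have : Fact (Nat.Prime 2) := ⟨Nat.prime_two⟩
  exact orderOf_eq_prime (hT2 t ht) ht1

include hnc hnn hC in
/-- an element fixing `H` and two further distinct cosets is trivial -/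
theorem eic_three_fixed_aux {g a b : G}
    (ha1 : (QuotientGroup.mk a : G ⧸ eicH T) ≠ QuotientGroup.mk 1)
    (hb1 : (QuotientGroup.mk b : G ⧸ eicH T) ≠ QuotientGroup.mk 1)
    (hab : (QuotientGroup.mk a : G ⧸ eicH T) ≠ QuotientGroup.mk b)
    (hg1 : g • (QuotientGroup.mk 1 : G ⧸ eicH T) = QuotientGroup.mk 1)
    (hga : g • (QuotientGroup.mk a : G ⧸ eicH T) = QuotientGroup.mk a)
    (hgb : g • (QuotientGroup.mk b : G ⧸ eicH T) = QuotientGroup.mk b) : g = 1 := by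
  have hse := normalizer_stronglyEmbedded T hC hnc hnn
  obtain ⟨w₁, hw₁, hw₁a⟩ := se_exists_invol_smul hse (Ne.symm ha1)
  rw [MulAction.Quotient.smul_mk, smul_eq_mul, mul_one] at hw₁a
  obtain ⟨w₃, hw₃, hw₃b⟩ := se_exists_invol_smul hse (Ne.symm hb1)
  rw [MulAction.Quotient.smul_mk, smul_eq_mul, mul_one] at hw₃b
  rw [← hw₁a] at ha1 hab hga
  rw [← hw₃b] at hb1 hab hgb
  have hw₁H : w₁ ∉ Subgroup.normalizer ((T : Subgroup G) : Set G) := fun h =>
    ha1 (mk_eq_mk_one_iff.2 h)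
  have hw₃H : w₃ ∉ Subgroup.normalizer ((T : Subgroup G) : Set G) := fun h =>
    hb1 (mk_eq_mk_one_iff.2 h)
  have hg₁ : g ∈ eicD T w₁ := (eic_mem_D_iff T).2 ⟨hg1, hga⟩
  have hg₃ : g ∈ eicD T w₃ := (eic_mem_D_iff T).2 ⟨hg1, hgb⟩
  -- `D₃` is not contained in `D₁`
  have hnle : ¬ eicD T w₃ ≤ eicD T w₁ := by
    intro hle
    have heq : eicD T w₃ = eicD T w₁ := by
      apply Subgroup.eq_of_le_of_card_ge hle
      rw [eic_card_D T hnc hnn hC hw₁ hw₁H, eic_card_D T hnc hnn hC hw₃ hw₃H]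
    have hfix : ∀ d ∈ eicD T w₁, d • (QuotientGroup.mk w₃ : G ⧸ eicH T) = QuotientGroup.mk w₃ := by
      intro d hd
      rw [← heq] at hd
      exact ((eic_mem_D_iff T).1 hd).2
    rcases (eic_fixed_iff T hnc hnn hC hw₁ hw₁H w₃).1 hfix with h | h
    · exact hb1 h
    · exact hab h.symm
  obtain ⟨d₃, hd₃, hd₃n⟩ := SetLike.not_le_iff_exists.1 hnle
  obtain ⟨d₁, hd₁, t, ht, hdt⟩ := eic_H_eq_mul T hnc hnn hC hw₁ hw₁H (mem_inf.1 hd₃).1
  have ht1 : t ≠ 1 := by
    intro h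
    rw [h, mul_one] at hdt
    rw [hdt] at hd₃n
    exact hd₃n hd₁
  have hto := eic_orderOf_T T hnc hC ht ht1
  have hc₃ := eic_D_comm T hnc hnn hC hw₃ hw₃H hg₃ hd₃
  have hc₁ := eic_D_comm T hnc hnn hC hw₁ hw₁H hg₁ hd₁
  have htd : t = d₁⁻¹ * d₃ := by rw [hdt]; group
  apply eic_D_sq T hnc hnn hC hw₁H hg₁
  apply (hC t hto).2
  rw [mem_centralizer_singleton_iff, htd]
  calc g * (d₁⁻¹ * d₃) = d₁⁻¹ * (d₁ * g) * d₁⁻¹ * d₃ := by group
    _ = d₁⁻¹ * (g * d₁) * d₁⁻¹ * d₃ := by rw [hc₁]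
    _ = d₁⁻¹ * (g * d₃) := by group
    _ = d₁⁻¹ * (d₃ * g) := by rw [hc₃]
    _ = d₁⁻¹ * d₃ * g := by group

include hnc hnn hC in
/-- an element fixing three distinct cosets of `H = N_G(T)` is trivial -/
theorem eic_three_fixed {g : G} {x₁ x₂ x₃ : G ⧸ eicH T} (h12 : x₁ ≠ x₂) (h13 : x₁ ≠ x₃)
    (h23 : x₂ ≠ x₃) (h1 : g • x₁ = x₁) (h2 : g • x₂ = x₂) (h3 : g • x₃ = x₃) : g = 1 := by
  induction x₁ using QuotientGroup.induction_on with
  | H k =>
  induction x₂ using QuotientGroup.induction_on with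
  | H a =>
  induction x₃ using QuotientGroup.induction_on with
  | H b =>
  have hk : ∀ c : G, k⁻¹ • (QuotientGroup.mk c : G ⧸ eicH T) = QuotientGroup.mk (k⁻¹ * c) := by
    intro c; rfl
  have key : k⁻¹ * g * k = 1 := by
    apply eic_three_fixed_aux T hnc hnn hC (a := k⁻¹ * a) (b := k⁻¹ * b)
    · intro h
      apply h12
      have : k • (QuotientGroup.mk (k⁻¹ * a) : G ⧸ eicH T) = k • QuotientGroup.mk 1 := by rw [h]
      rw [MulAction.Quotient.smul_mk, MulAction.Quotient.smul_mk, smul_eq_mul, smul_eq_mul] at this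
      rw [mul_one, mul_inv_cancel_left] at this
      exact this.symm
    · intro h
      apply h13
      have : k • (QuotientGroup.mk (k⁻¹ * b) : G ⧸ eicH T) = k • QuotientGroup.mk 1 := by rw [h]
      rw [MulAction.Quotient.smul_mk, MulAction.Quotient.smul_mk, smul_eq_mul, smul_eq_mul] at this
      rw [mul_one, mul_inv_cancel_left] at this
      exact this.symm
    · intro h
      apply h23
      have : k • (QuotientGroup.mk (k⁻¹ * a) : G ⧸ eicH T) = k • QuotientGroup.mk (k⁻¹ * b) := by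
        rw [h]
      rw [MulAction.Quotient.smul_mk, MulAction.Quotient.smul_mk, smul_eq_mul, smul_eq_mul] at this
      rw [mul_inv_cancel_left, mul_inv_cancel_left] at this
      exact this
    · rw [smul_mk_eq_iff]
      rw [smul_mk_eq_iff] at h1
      simpa using h1
    · rw [smul_mk_eq_iff]
      rw [smul_mk_eq_iff] at h2
      have e : (k⁻¹ * a)⁻¹ * (k⁻¹ * g * k) * (k⁻¹ * a) = a⁻¹ * g * a := by group
      rw [e]; exact h2
    · rw [smul_mk_eq_iff]
      rw [smul_mk_eq_iff] at h3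
      have e : (k⁻¹ * b)⁻¹ * (k⁻¹ * g * k) * (k⁻¹ * b) = b⁻¹ * g * b := by group
      rw [e]; exact h3
  calc g = k * (k⁻¹ * g * k) * k⁻¹ := by group
    _ = 1 := by rw [key]; group

include hnc hnn hC hu huH in
/-- `T` is transitive on the cosets different from `H`. -/
theorem eic_T_transitive {a : G}
    (ha1 : (QuotientGroup.mk a : G ⧸ eicH T) ≠ QuotientGroup.mk 1) :
    ∃ s ∈ (T : Subgroup G), s • (QuotientGroup.mk u : G ⧸ eicH T) = QuotientGroup.mk a := by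
  have hse := normalizer_stronglyEmbedded T hC hnc hnn
  obtain ⟨w, hw, hwa⟩ := se_exists_invol_smul hse (Ne.symm ha1)
  rw [MulAction.Quotient.smul_mk, smul_eq_mul, mul_one] at hwa
  rw [← hwa] at ha1 ⊢
  have hwH : w ∉ Subgroup.normalizer ((T : Subgroup G) : Set G) := fun h =>
    ha1 (mk_eq_mk_one_iff.2 h)
  obtain ⟨d, hd, hd1⟩ := eic_exists_D_ne_one T hnc hnn hC hw hwH
  obtain ⟨d', hd', t, ht, hdt⟩ := eic_H_eq_mul T hnc hnn hC hu huH (mem_inf.1 hd).1
  have hd'1 : d' ≠ 1 := by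
    intro h
    rw [h, one_mul] at hdt
    apply hd1
    have : d ∈ eicD T w ⊓ (T : Subgroup G) := mem_inf.2 ⟨hd, by rw [hdt]; exact ht⟩
    rw [eic_D_inf_T T hnc hnn hC hwH, mem_bot] at this
    exact this
  have hd'H : d' ∈ eicH T := (mem_inf.1 hd').1
  have hcomm := sylow_commutative T hC (eic_T_ne_bot T hnc)
  -- the map `s ↦ (d'⁻¹ s d') s⁻¹` on `T`
  let φ : ↥(T : Subgroup G) → ↥(T : Subgroup G) := fun s =>
    ⟨(d'⁻¹ * s * d') * (s : G)⁻¹, mul_mem (by
      have := (mem_normalizer_iff.1 (inv_mem hd'H) (s : G)).1 s.2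
      simpa using this) (inv_mem s.2)⟩
  have hφ : Function.Injective φ := by
    intro s s' hss
    have h0 : (d'⁻¹ * (s : G) * d') * (s : G)⁻¹ = (d'⁻¹ * (s' : G) * d') * (s' : G)⁻¹ :=
      congrArg Subtype.val hss
    -- r = s'⁻¹ s is centralized by d'
    by_contra hne
    have hr1 : (s' : G)⁻¹ * (s : G) ≠ 1 := by
      intro h
      apply hne
      apply Subtype.ext
      have := inv_mul_eq_one.1 h
      exact this.symm
    have hrT : (s' : G)⁻¹ * (s : G) ∈ (T : Subgroup G) := mul_mem (inv_mem s'.2) s.2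
    have hro := eic_orderOf_T T hnc hC hrT hr1
    have hsT : d'⁻¹ * (s : G) * d' ∈ (T : Subgroup G) := by
      have := (mem_normalizer_iff.1 (inv_mem hd'H) (s : G)).1 s.2
      simpa using this
    have hs'T : d'⁻¹ * (s' : G) * d' ∈ (T : Subgroup G) := by
      have := (mem_normalizer_iff.1 (inv_mem hd'H) (s' : G)).1 s'.2
      simpa using this
    have hTc : ∀ x ∈ (T : Subgroup G), ∀ y ∈ (T : Subgroup G), x * y = y * x := by
      intro x hx y hy
      have := hcomm.is_comm.comm ⟨x, hx⟩ ⟨y, hy⟩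
      exact congrArg Subtype.val this
    -- d'⁻¹ r d' = r
    have hcr : d'⁻¹ * ((s' : G)⁻¹ * (s : G)) * d' = (s' : G)⁻¹ * (s : G) := by
      have e1 : d'⁻¹ * ((s' : G)⁻¹ * (s : G)) * d' =
          (d'⁻¹ * (s' : G) * d')⁻¹ * (d'⁻¹ * (s : G) * d') := by group
      rw [e1]
      -- from h0 : A s⁻¹ = B s'⁻¹ with A,B,s,s' in abelian T: B⁻¹ A = s'⁻¹ s
      have h1 : d'⁻¹ * (s : G) * d' = (d'⁻¹ * (s' : G) * d') * (s' : G)⁻¹ * (s : G) := by
        calc d'⁻¹ * (s : G) * d' = ((d'⁻¹ * (s : G) * d') * (s : G)⁻¹) * (s : G) := by group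
          _ = _ := by rw [h0]
      rw [h1]; group
    apply hd'1
    apply eic_D_sq T hnc hnn hC huH hd'
    apply (hC _ hro).2
    rw [mem_centralizer_singleton_iff]
    calc d' * ((s' : G)⁻¹ * (s : G)) = d' * (d'⁻¹ * ((s' : G)⁻¹ * (s : G)) * d') := by rw [hcr]
      _ = (s' : G)⁻¹ * (s : G) * d' := by group
  obtain ⟨s, hs⟩ := Finite.surjective_of_injective hφ ⟨t, ht⟩
  have hs' : (d'⁻¹ * (s : G) * d') * (s : G)⁻¹ = t := congrArg Subtype.val hs
  have hconj : (s : G) * d' * (s : G)⁻¹ = d := by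
    rw [hdt, ← hs']; group
  refine ⟨s, s.2, ?_⟩
  rw [MulAction.Quotient.smul_mk, smul_eq_mul]
  -- `d` fixes `H`, `wH`, `suH`
  have hdfix1 := ((eic_mem_D_iff T).1 hd).1
  have hdfixw := ((eic_mem_D_iff T).1 hd).2
  have hdfixs : d • (QuotientGroup.mk ((s : G) * u) : G ⧸ eicH T) = QuotientGroup.mk ((s : G) * u) := by
    rw [smul_mk_eq_iff, ← hconj]
    have e : ((s : G) * u)⁻¹ * ((s : G) * d' * (s : G)⁻¹) * ((s : G) * u) = u⁻¹ * d' * u := by group
    rw [e]
    have := (mem_inf.1 hd').2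
    rwa [mem_map_conj_iff'] at this
  have hsu1 : (QuotientGroup.mk ((s : G) * u) : G ⧸ eicH T) ≠ QuotientGroup.mk 1 := by
    intro h
    rw [mk_eq_mk_one_iff] at h
    apply huH
    have hsH : (s : G) ∈ eicH T := le_normalizer s.2
    have h2 := mul_mem (inv_mem hsH) h
    rw [inv_mul_cancel_left] at h2
    exact h2
  by_contra hne
  exact hd1 (eic_three_fixed_aux T hnc hnn hC hsu1 ha1 hne hdfix1 hdfixs hdfixw)

include hnc hnn hC in
/-- `T` acts semiregularly off the coset `H`. -/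
theorem eic_T_free {t : G} (ht : t ∈ (T : Subgroup G)) {x : G ⧸ eicH T}
    (hx : x ≠ QuotientGroup.mk 1) (htx : t • x = x) : t = 1 := by
  by_contra ht1
  have hse := normalizer_stronglyEmbedded T hC hnc hnn
  have hto := eic_orderOf_T T hnc hC ht ht1
  have h1 : t • (QuotientGroup.mk 1 : G ⧸ eicH T) = QuotientGroup.mk 1 := by
    rw [smul_mk_eq_iff]
    have : t ∈ eicH T := le_normalizer ht
    simpa using this
  exact hx (se_fixed_unique hse hto htx h1)

end

end Cfsg.Agent.Lib.Helper21
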