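import Mathlib.GroupTheory.Sylow

set_option autoImplicit false

namespace Cfsg.Agent.Lib.Helper21

open Subgroup MulAction

/-- Two `p`-subgroups of a subgroup `C` of a finite group can be brought into a common `p`-subgroup of
`C` after conjugating the second by an element of `C`. -/
theorem exists_conj_le_pgroup {G : Type*} [Group G] [Finite G] {p : ℕ} [Fact p.Prime]
    (C R₁ R₂ : Subgroup G) (h₁ : R₁ ≤ C) (h₂ : R₂ ≤ C) (hp₁ : IsPGroup p R₁) (hp₂ : IsPGroup p R₂) :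
    ∃ c ∈ C, ∃ P : Subgroup G, IsPGroup p P ∧ P ≤ C ∧ R₁ ≤ P ∧
      ∀ x ∈ R₂, c * x * c⁻¹ ∈ P := by
  have hp₁' : IsPGroup p (R₁.subgroupOf C) := hp₁.comap_subtype
  have hp₂' : IsPGroup p (R₂.subgroupOf C) := hp₂.comap_subtype
  obtain ⟨P', hP'⟩ := hp₁'.exists_le_sylow
  obtain ⟨Q', hQ'⟩ := hp₂'.exists_le_sylow
  obtain ⟨c, hc⟩ := MulAction.exists_smul_eq C Q' P'
  refine ⟨c, c.2, (P' : Subgroup C).map C.subtype, P'.2.map _, ?_, ?_, ?_⟩
  · rintro _ ⟨x, _, rfl⟩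
    exact x.2
  · intro x hx
    exact ⟨⟨x, h₁ hx⟩, hP' (mem_subgroupOf.2 hx), rfl⟩
  · intro x hx
    have hxQ : (⟨x, h₂ hx⟩ : C) ∈ (Q' : Subgroup C) := hQ' (mem_subgroupOf.2 hx)
    have : c * ⟨x, h₂ hx⟩ * c⁻¹ ∈ (P' : Subgroup C) := by
      rw [← hc, Sylow.coe_subgroup_smul, Subgroup.mem_pointwise_smul_iff_inv_smul_mem]
      simpa [MulAut.smul_def, mul_assoc] using hxQ
    exact ⟨_, this, rfl⟩

end Cfsg.Agent.Lib.Helper21
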