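import Mathlib

/-!
# S3911 hive (S11): minimal supplements of a normal subgroup over an abelian subgroup of the quotient
-/

set_option autoImplicit false

namespace Cfsg.Agent.Lib.Helper21.S11

variable {G : Type*} [Group G]

/-- `X` is a minimal subgroup of `G` whose image in `G ⧸ M` is `Ab`. -/
def IsMinSupp (M : Subgroup G) [M.Normal] (Ab : Subgroup (G ⧸ M)) (X : Subgroup G) : Prop :=
  X.map (QuotientGroup.mk' M) = Ab ∧
    ∀ Y : Subgroup G, Y ≤ X → Y.map (QuotientGroup.mk' M) = Ab → Y = X

end Cfsg.Agent.Lib.Helper21.S11
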