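import Cfsg.Agent.Lib.Helper12.D3Defs

/-! # D3 hive (S2183, helper12): leaf D3-H90 — explicit additive Hilbert 90 for the twisted trace form -/

set_option autoImplicit false

namespace Cfsg.Agent.Lib.Helper12.D3

open Cfsg Cfsg.Lie Cfsg.Agent.Lib.Helper36 Cfsg.Agent.Lib.Helper75.D4g

variable (K : Type*) [Field K] (φ : K →+* K)

/-- D3-H90 (additive Hilbert 90, explicit: `σ = s * φ (c / (s * φ s))`) -/
theorem h90 [CharP K 2] (h3 : ∀ x : K, φ (φ (φ x)) = x) (s c : K) (hs : s ≠ 0) (h : tr3 K φ c s = 0) :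
    ∃ σ : K, c + φ s * σ + s * φ σ = 0 := by
  have hs1 : φ s ≠ 0 := (map_ne_zero φ).2 hs
  have hs2 : φ (φ s) ≠ 0 := (map_ne_zero φ).2 hs1
  refine ⟨s * φ c / (φ s * φ (φ s)), ?_⟩
  rw [map_div₀, map_mul, map_mul, h3]
  unfold tr3 at h
  field_simp
  linear_combination h

end Cfsg.Agent.Lib.Helper12.D3
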