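import Cfsg.Agent.Lib.Helper37.D4O8Defs

/-! # Do hive (S1082, helper37), sub-hive Do-RED (helper13), leaf DO-RED-S3A: an isometry scaling
`e₁, f₁, e₂, f₂` is moved by `EE F` to one that also scales `e₃`. -/

set_option autoImplicit false
set_option linter.unusedSectionVars false
set_option linter.unusedVariables false

namespace Cfsg.Agent.Lib.Helper37.D4O8

open Matrix Module QuadraticMap
open Cfsg.Agent.Lib.Helper8 Cfsg.Agent.Lib.Helper13 Cfsg.Agent.Lib.Helper37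

variable {F : Type*} [Field F]

/-- `h` fixes every vector supported on the coordinates `1, 2`. -/
def s3a_Fx (h : OG F) : Prop :=
  ∀ x : I8 → F, ca3 x = 0 → ca4 x = 0 → cb3 x = 0 → cb4 x = 0 → act (Q8 F) h x = x

theorem s3a_Fx_mul {h k : OG F} (hh : s3a_Fx h) (hk : s3a_Fx k) : s3a_Fx (h * k) := by
  intro x h3 h4 h7 h8
  rw [act_mul, hk x h3 h4 h7 h8, hh x h3 h4 h7 h8]

theorem s3a_Fx_X10 (t : F) : s3a_Fx (X 10 t) := by
  intro x h3 h4 h7 h8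
  rw [act_X10]; apply ext8 <;> simp [h3, h4, h7, h8]

theorem s3a_Fx_X11 (t : F) : s3a_Fx (X 11 t) := by
  intro x h3 h4 h7 h8
  rw [act_X11]; apply ext8 <;> simp [h3, h4, h7, h8]

theorem s3a_Fx_X12 (t : F) : s3a_Fx (X 12 t) := by
  intro x h3 h4 h7 h8
  rw [act_X12]; apply ext8 <;> simp [h3, h4, h7, h8]

theorem s3a_Fx_X13 (t : F) : s3a_Fx (X 13 t) := by
  intro x h3 h4 h7 h8
  rw [act_X13]; apply ext8 <;> simp [h3, h4, h7, h8]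

theorem s3a_polar_ve1 (x : I8 → F) : polar ⇑(Q8 F) x ve1 = cb1 x := by
  rw [polar_Q8]; simp [ve1]

theorem s3a_polar_vf1 (x : I8 → F) : polar ⇑(Q8 F) x vf1 = ca1 x := by
  rw [polar_Q8]; simp [vf1]

theorem s3a_polar_ve2 (x : I8 → F) : polar ⇑(Q8 F) x ve2 = cb2 x := by
  rw [polar_Q8]; simp [ve2]

theorem s3a_polar_vf2 (x : I8 → F) : polar ⇑(Q8 F) x vf2 = ca2 x := by
  rw [polar_Q8]; simp [vf2]

/-- if `g y = c • y` with `c ≠ 0` and `polar x y = 0`, then `polar (g x) y = 0`. -/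
theorem s3a_polar_zero (g : OG F) (x y : I8 → F) (c : F) (hc : c ≠ 0)
    (hy : act (Q8 F) g y = c • y) (hxy : polar ⇑(Q8 F) x y = 0) :
    polar ⇑(Q8 F) (act (Q8 F) g x) y = 0 := by
  have e : polar ⇑(Q8 F) (act (Q8 F) g x) (act (Q8 F) g y) = 0 := by
    rw [polar_act]; exact hxy
  rw [hy, polar_smul_right, smul_eq_mul] at e
  rcases mul_eq_zero.mp e with h | h
  · exact absurd h hc
  · exact h

/-- the pivot step: `ca3 w ≠ 0`. -/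
theorem s3a_key (w : I8 → F) (h1 : ca1 w = 0) (h2 : cb1 w = 0) (h3 : ca2 w = 0) (h4 : cb2 w = 0)
    (hQ : Q8 F w = 0) (ha : ca3 w ≠ 0) :
    act (Q8 F) (X 11 (-(cb4 w) / ca3 w) * X 10 (-(ca4 w) / ca3 w)) w = ca3 w • ve3 := by
  have hq := hQ
  rw [Q8_apply, h1, h2, h3, h4] at hq
  have hb : cb3 w = -(ca4 w * cb4 w) / ca3 w := by
    field_simp
    linear_combination hq
  rw [act_mul, act_X10, act_X11]
  apply ext8 <;> simp only [ca1_mk8, ca2_mk8, ca3_mk8, ca4_mk8, cb1_mk8, cb2_mk8, cb3_mk8, cb4_mk8,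
    ca1_smul, ca2_smul, ca3_smul, ca4_smul, cb1_smul, cb2_smul, cb3_smul, cb4_smul, ve3, mul_zero,
    mul_one, h1, h2, h3, h4]
  · field_simp; ring
  · rw [hb]; field_simp; ring
  · field_simp; ring

/-- the moving step. -/
theorem s3a_move (w : I8 → F) (hw : w ≠ 0) (h1 : ca1 w = 0) (h2 : cb1 w = 0) (h3 : ca2 w = 0)
    (h4 : cb2 w = 0) (hQ : Q8 F w = 0) :
    ∃ h ∈ EE F, s3a_Fx h ∧ ∃ a : F, a ≠ 0 ∧ act (Q8 F) h w = a • ve3 := by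
  -- it suffices to find `h0` with `ca3 (h0 w) ≠ 0`
  suffices H : ∃ h0 ∈ EE F, s3a_Fx h0 ∧ ca1 (act (Q8 F) h0 w) = 0 ∧ cb1 (act (Q8 F) h0 w) = 0 ∧
      ca2 (act (Q8 F) h0 w) = 0 ∧ cb2 (act (Q8 F) h0 w) = 0 ∧ ca3 (act (Q8 F) h0 w) ≠ 0 by
    obtain ⟨h0, hh0, hF0, e1, e2, e3, e4, e5⟩ := H
    have hQ' : Q8 F (act (Q8 F) h0 w) = 0 := by rw [Q_act]; exact hQ
    refine ⟨X 11 (-(cb4 (act (Q8 F) h0 w)) / ca3 (act (Q8 F) h0 w)) *
      X 10 (-(ca4 (act (Q8 F) h0 w)) / ca3 (act (Q8 F) h0 w)) * h0,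
      mul_mem (mul_mem (X_mem_EE _ _) (X_mem_EE _ _)) hh0,
      s3a_Fx_mul (s3a_Fx_mul (s3a_Fx_X11 _) (s3a_Fx_X10 _)) hF0,
      ca3 (act (Q8 F) h0 w), e5, ?_⟩
    rw [act_mul]
    exact s3a_key _ e1 e2 e3 e4 hQ' e5
  by_cases ha3 : ca3 w = 0
  · by_cases ha4 : ca4 w = 0
    · by_cases hb4 : cb4 w = 0
      · -- `w = b • f₃`
        have hb3 : cb3 w ≠ 0 := by
          intro h7
          apply hw
          apply ext8 <;> simp [h1, h2, h3, h4, ha3, ha4, hb4, h7]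
        refine ⟨X 13 1 * X 12 1, mul_mem (X_mem_EE _ _) (X_mem_EE _ _),
          s3a_Fx_mul (s3a_Fx_X13 _) (s3a_Fx_X12 _), ?_, ?_, ?_, ?_, ?_⟩ <;>
          rw [act_mul, act_X12, act_X13] <;>
          simp [h1, h2, h3, h4, ha3, ha4, hb4, hb3]
      · refine ⟨X 12 1, X_mem_EE _ _, s3a_Fx_X12 _, ?_, ?_, ?_, ?_, ?_⟩ <;>
          rw [act_X12] <;> simp [h1, h2, h3, h4, ha3, ha4, hb4]
    · refine ⟨X 13 1, X_mem_EE _ _, s3a_Fx_X13 _, ?_, ?_, ?_, ?_, ?_⟩ <;>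
        rw [act_X13] <;> simp [h1, h2, h3, h4, ha3, ha4]
  · refine ⟨1, one_mem _, ?_, ?_, ?_, ?_, ?_, ?_⟩
    · intro x _ _ _ _; rw [act_one]
    all_goals rw [act_one]; assumption

/-- DO-RED-S3A. -/
theorem red_s3a (g : OG F) (c1 c2 : F) (hc1 : c1 ≠ 0) (hc2 : c2 ≠ 0)
    (h1 : act (Q8 F) g ve1 = c1 • ve1) (h1' : act (Q8 F) g vf1 = c1⁻¹ • vf1)
    (h2 : act (Q8 F) g ve2 = c2 • ve2) (h2' : act (Q8 F) g vf2 = c2⁻¹ • vf2) :
    ∃ h ∈ EE F, ∃ c3 : F, c3 ≠ 0 ∧ act (Q8 F) (h * g) ve1 = c1 • ve1 ∧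
      act (Q8 F) (h * g) vf1 = c1⁻¹ • vf1 ∧ act (Q8 F) (h * g) ve2 = c2 • ve2 ∧
      act (Q8 F) (h * g) vf2 = c2⁻¹ • vf2 ∧ act (Q8 F) (h * g) ve3 = c3 • ve3 := by
  have hc1' : c1⁻¹ ≠ 0 := inv_ne_zero hc1
  have hc2' : c2⁻¹ ≠ 0 := inv_ne_zero hc2
  have hw0 : act (Q8 F) g ve3 ≠ 0 := by
    intro h0
    have := act_eq_zero (Q8 F) g _ h0
    have := congrArg ca3 this
    simp [ve3] at this
  have hw1 : ca1 (act (Q8 F) g ve3) = 0 := by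
    rw [← s3a_polar_vf1]
    apply s3a_polar_zero g _ _ _ hc1' h1'
    rw [polar_Q8]; simp [ve3, vf1]
  have hw2 : cb1 (act (Q8 F) g ve3) = 0 := by
    rw [← s3a_polar_ve1]
    apply s3a_polar_zero g _ _ _ hc1 h1
    rw [polar_Q8]; simp [ve3, ve1]
  have hw3 : ca2 (act (Q8 F) g ve3) = 0 := by
    rw [← s3a_polar_vf2]
    apply s3a_polar_zero g _ _ _ hc2' h2'
    rw [polar_Q8]; simp [ve3, vf2]
  have hw4 : cb2 (act (Q8 F) g ve3) = 0 := by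
    rw [← s3a_polar_ve2]
    apply s3a_polar_zero g _ _ _ hc2 h2
    rw [polar_Q8]; simp [ve3, ve2]
  have hwQ : Q8 F (act (Q8 F) g ve3) = 0 := by
    rw [Q_act, Q8_apply]; simp [ve3]
  obtain ⟨k, hk, hF, a, ha, k3⟩ := s3a_move _ hw0 hw1 hw2 hw3 hw4 hwQ
  refine ⟨k, hk, a, ha, ?_, ?_, ?_, ?_, ?_⟩
  · rw [act_mul, h1]; apply hF <;> simp [ve1]
  · rw [act_mul, h1']; apply hF <;> simp [vf1]
  · rw [act_mul, h2]; apply hF <;> simp [ve2]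
  · rw [act_mul, h2']; apply hF <;> simp [vf2]
  · rw [act_mul]; exact k3

end Cfsg.Agent.Lib.Helper37.D4O8
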