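import Mathlib
import Cfsg.Agent.Lib.Helper14.P4Defs
import Cfsg.Agent.Lib.Helper14.Es3Group

/-!
# S6000 hive (helper14): leaf P4-I2B `gCZ_mem_normalizer` (helper21), and the shared machinery for
the explicit normalizing elements (leaves I3B, I5B)
-/

set_option autoImplicit false

namespace Cfsg.Agent.Lib.Helper14.P4

open Matrix

variable {F : Type*} [Field F]

theorem i2b_gI_mem (i : F) (hi : i * i = -1) : gI i hi ∈ R0 i hi :=
  Subgroup.subset_closure (by simp)
theorem i2b_gX1_mem (i : F) (hi : i * i = -1) : (gX1 : GL (Fin 4) F) ∈ R0 i hi :=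
  Subgroup.subset_closure (by simp)
theorem i2b_gZ1_mem (i : F) (hi : i * i = -1) : (gZ1 : GL (Fin 4) F) ∈ R0 i hi :=
  Subgroup.subset_closure (by simp)
theorem i2b_gX2_mem (i : F) (hi : i * i = -1) : (gX2 : GL (Fin 4) F) ∈ R0 i hi :=
  Subgroup.subset_closure (by simp)
theorem i2b_gZ2_mem (i : F) (hi : i * i = -1) : (gZ2 : GL (Fin 4) F) ∈ R0 i hi :=
  Subgroup.subset_closure (by simp)

/-- `n g = w n` on matrices gives `n g n⁻¹ = w` -/
theorem i2b_conj_eq {n g w : GL (Fin 4) F}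
    (h : (n : Matrix (Fin 4) (Fin 4) F) * (g : Matrix (Fin 4) (Fin 4) F)
      = (w : Matrix (Fin 4) (Fin 4) F) * (n : Matrix (Fin 4) (Fin 4) F)) :
    n * g * n⁻¹ = w := by
  have h' : n * g = w * n := Units.ext h
  rw [mul_inv_eq_iff_eq_mul, h']

/-- scalars are central -/
theorem i2b_conj_scal (c : F) (hc : c ≠ 0) (n : GL (Fin 4) F) :
    n * gScal c hc * n⁻¹ = gScal c hc := by
  apply i2b_conj_eq
  rw [coe_gScal, Matrix.mul_smul, Matrix.smul_mul, mul_one, one_mul]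

/-- an element mapping the five generators of `R0` into `R0` normalizes `R0` -/
theorem i2b_mem_normalizer_of_gens [Fintype F] (i : F) (hi : i * i = -1) (n : GL (Fin 4) F)
    (hX1 : n * gX1 * n⁻¹ ∈ R0 i hi) (hZ1 : n * gZ1 * n⁻¹ ∈ R0 i hi)
    (hX2 : n * gX2 * n⁻¹ ∈ R0 i hi) (hZ2 : n * gZ2 * n⁻¹ ∈ R0 i hi) :
    n ∈ Subgroup.normalizer (R0 i hi : Set (GL (Fin 4) F)) := by
  classical
  have : Finite (GL (Fin 4) F) := inferInstance
  apply Cfsg.Agent.Lib.Helper14.Es3.mem_normalizer_of_forall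
  intro g hg
  unfold R0 at hg
  induction hg using Subgroup.closure_induction with
  | mem x hx =>
    rcases hx with rfl | rfl | rfl | rfl | rfl
    · rw [gI, i2b_conj_scal]
      exact i2b_gI_mem i hi
    · exact hX1
    · exact hZ1
    · exact hX2
    · exact hZ2
  | one => simp
  | mul x y _ _ hx hy =>
    have : n * (x * y) * n⁻¹ = (n * x * n⁻¹) * (n * y * n⁻¹) := by group
    rw [this]
    exact (R0 i hi).mul_mem hx hy
  | inv x _ hx =>
    have : n * x⁻¹ * n⁻¹ = (n * x * n⁻¹)⁻¹ := by group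
    rw [this]
    exact (R0 i hi).inv_mem hx

section leaf

variable [Fintype F]

/-- P4-I2B.  `diag(1,1,1,-1)` normalizes `R0`. -/
theorem gCZ_mem_normalizer (h2 : (2 : F) ≠ 0) (i : F) (hi : i * i = -1) :
    (gCZ : GL (Fin 4) F) ∈ Subgroup.normalizer (R0 i hi : Set (GL (Fin 4) F)) := by
  apply i2b_mem_normalizer_of_gens
  · have : (gCZ : GL (Fin 4) F) * gX1 * gCZ⁻¹ = gX1 * gZ2 := by
      apply i2b_conj_eq
      show mCZ * mX1 = mX1 * mZ2 * mCZ
      ext a b
      fin_cases a <;> fin_cases b <;>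
        simp [mCZ, mX1, mZ2, Matrix.mul_apply, Fin.sum_univ_four]
    rw [this]
    exact (R0 i hi).mul_mem (i2b_gX1_mem i hi) (i2b_gZ2_mem i hi)
  · have : (gCZ : GL (Fin 4) F) * gZ1 * gCZ⁻¹ = gZ1 := by
      apply i2b_conj_eq
      show mCZ * mZ1 = mZ1 * mCZ
      ext a b
      fin_cases a <;> fin_cases b <;>
        simp [mCZ, mZ1, Matrix.mul_apply, Fin.sum_univ_four]
    rw [this]
    exact i2b_gZ1_mem i hi
  · have : (gCZ : GL (Fin 4) F) * gX2 * gCZ⁻¹ = gX2 * gZ1 := by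
      apply i2b_conj_eq
      show mCZ * mX2 = mX2 * mZ1 * mCZ
      ext a b
      fin_cases a <;> fin_cases b <;>
        simp [mCZ, mX2, mZ1, Matrix.mul_apply, Fin.sum_univ_four]
    rw [this]
    exact (R0 i hi).mul_mem (i2b_gX2_mem i hi) (i2b_gZ1_mem i hi)
  · have : (gCZ : GL (Fin 4) F) * gZ2 * gCZ⁻¹ = gZ2 := by
      apply i2b_conj_eq
      show mCZ * mZ2 = mZ2 * mCZ
      ext a b
      fin_cases a <;> fin_cases b <;>
        simp [mCZ, mZ2, Matrix.mul_apply, Fin.sum_univ_four]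
    rw [this]
    exact i2b_gZ2_mem i hi

end leaf

end Cfsg.Agent.Lib.Helper14.P4
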