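import Mathlib
import Cfsg.Agent.Lib.Helper14.P4Defs
import Cfsg.Agent.Lib.Helper21.P4I2B

/-!
# S6000 hive (helper14): leaf P4-I3B `exists_order_three` (helper21)
-/

set_option autoImplicit false

namespace Cfsg.Agent.Lib.Helper14.P4

open Matrix

variable {F : Type*} [Field F]

/-- `2 • mYA` -/
def i3b_A (i : F) : Matrix (Fin 4) (Fin 4) F :=
  !![-1-i,0,-1-i,0; 0,-1-i,0,-1-i; 1-i,0,-1+i,0; 0,1-i,0,-1+i]
/-- `2 • mYAi` -/
def i3b_Ai (i : F) : Matrix (Fin 4) (Fin 4) F :=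
  !![-1+i,0,1+i,0; 0,-1+i,0,1+i; -1+i,0,-1-i,0; 0,-1+i,0,-1-i]
/-- `2 • mYB` -/
def i3b_B (i : F) : Matrix (Fin 4) (Fin 4) F :=
  !![i,i,i,i; -1,1,-1,1; -1,-1,1,1; -i,i,i,-i]
/-- `2 • mYBi` -/
def i3b_Bi (i : F) : Matrix (Fin 4) (Fin 4) F :=
  !![-i,-1,-1,i; -i,1,-1,-i; -i,-1,1,-i; -i,1,1,i]

theorem i3b_mYA (i : F) : mYA i = (2 : F)⁻¹ • i3b_A i := rfl
theorem i3b_mYAi (i : F) : mYAi i = (2 : F)⁻¹ • i3b_Ai i := rfl
theorem i3b_mYB (i : F) : mYB i = (2 : F)⁻¹ • i3b_B i := rfl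
theorem i3b_mYBi (i : F) : mYBi i = (2 : F)⁻¹ • i3b_Bi i := rfl

/-- `(A/2)(B/2) = 1` when `A B = 4` -/
theorem i3b_half_mul_half (h2 : (2 : F) ≠ 0) (A B : Matrix (Fin 4) (Fin 4) F)
    (h : A * B = (4 : F) • 1) : ((2 : F)⁻¹ • A) * ((2 : F)⁻¹ • B) = 1 := by
  rw [Matrix.smul_mul, Matrix.mul_smul, smul_smul, h, smul_smul]
  have : (2 : F)⁻¹ * (2 : F)⁻¹ * 4 = 1 := by
    field_simp
    norm_num
  rw [this, one_smul]

/-- `(A/2)(A/2) = B/2` when `A A = 2 B` -/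
theorem i3b_half_sq (h2 : (2 : F) ≠ 0) (A B : Matrix (Fin 4) (Fin 4) F)
    (h : A * A = (2 : F) • B) : ((2 : F)⁻¹ • A) * ((2 : F)⁻¹ • A) = (2 : F)⁻¹ • B := by
  rw [Matrix.smul_mul, Matrix.mul_smul, smul_smul, h, smul_smul]
  have : (2 : F)⁻¹ * (2 : F)⁻¹ * 2 = (2 : F)⁻¹ := by
    field_simp
  rw [this]

/-- `(A/2) G = W (A/2)` when `A G = W A` -/
theorem i3b_half_conj (A G W : Matrix (Fin 4) (Fin 4) F) (h : A * G = W * A) :
    ((2 : F)⁻¹ • A) * G = W * ((2 : F)⁻¹ • A) := by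
  rw [Matrix.smul_mul, Matrix.mul_smul, h]

theorem i3b_A_mul_Ai (i : F) (hi : i * i = -1) : i3b_A i * i3b_Ai i = (4 : F) • 1 := by
  have hi2 : i ^ 2 = -1 := by rw [pow_two, hi]
  ext a b
  fin_cases a <;> fin_cases b <;>
    simp [i3b_A, i3b_Ai, Matrix.mul_apply, Fin.sum_univ_four]
  all_goals try ring_nf
  all_goals try simp only [hi2]
  all_goals try ring_nf

theorem i3b_Ai_mul_A (i : F) (hi : i * i = -1) : i3b_Ai i * i3b_A i = (4 : F) • 1 := by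
  have hi2 : i ^ 2 = -1 := by rw [pow_two, hi]
  ext a b
  fin_cases a <;> fin_cases b <;>
    simp [i3b_A, i3b_Ai, Matrix.mul_apply, Fin.sum_univ_four]
  all_goals try ring_nf
  all_goals try simp only [hi2]
  all_goals try ring_nf

theorem i3b_B_mul_Bi (i : F) (hi : i * i = -1) : i3b_B i * i3b_Bi i = (4 : F) • 1 := by
  have hi2 : i ^ 2 = -1 := by rw [pow_two, hi]
  ext a b
  fin_cases a <;> fin_cases b <;>
    simp [i3b_B, i3b_Bi, Matrix.mul_apply, Fin.sum_univ_four]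
  all_goals try ring_nf
  all_goals try simp only [hi2]
  all_goals try ring_nf

theorem i3b_Bi_mul_B (i : F) (hi : i * i = -1) : i3b_Bi i * i3b_B i = (4 : F) • 1 := by
  have hi2 : i ^ 2 = -1 := by rw [pow_two, hi]
  ext a b
  fin_cases a <;> fin_cases b <;>
    simp [i3b_B, i3b_Bi, Matrix.mul_apply, Fin.sum_univ_four]
  all_goals try ring_nf
  all_goals try simp only [hi2]
  all_goals try ring_nf

theorem i3b_A_sq (i : F) (hi : i * i = -1) : i3b_A i * i3b_A i = (2 : F) • i3b_Ai i := by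
  have hi2 : i ^ 2 = -1 := by rw [pow_two, hi]
  ext a b
  fin_cases a <;> fin_cases b <;>
    simp [i3b_A, i3b_Ai, Matrix.mul_apply, Fin.sum_univ_four]
  all_goals try ring_nf
  all_goals try simp only [hi2]
  all_goals try ring_nf

theorem i3b_B_sq (i : F) (hi : i * i = -1) : i3b_B i * i3b_B i = (2 : F) • i3b_Bi i := by
  have hi2 : i ^ 2 = -1 := by rw [pow_two, hi]
  ext a b
  fin_cases a <;> fin_cases b <;>
    simp [i3b_B, i3b_Bi, Matrix.mul_apply, Fin.sum_univ_four]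
  all_goals try ring_nf
  all_goals try simp only [hi2]
  all_goals try ring_nf

/-- the element `YA` of `GL 4 F` -/
def i3b_gYA (h2 : (2 : F) ≠ 0) (i : F) (hi : i * i = -1) : GL (Fin 4) F :=
  ⟨mYA i, mYAi i, i3b_half_mul_half h2 _ _ (i3b_A_mul_Ai i hi),
    i3b_half_mul_half h2 _ _ (i3b_Ai_mul_A i hi)⟩

/-- the element `YB` of `GL 4 F` -/
def i3b_gYB (h2 : (2 : F) ≠ 0) (i : F) (hi : i * i = -1) : GL (Fin 4) F :=
  ⟨mYB i, mYBi i, i3b_half_mul_half h2 _ _ (i3b_B_mul_Bi i hi),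
    i3b_half_mul_half h2 _ _ (i3b_Bi_mul_B i hi)⟩

theorem i3b_gYA_sq (h2 : (2 : F) ≠ 0) (i : F) (hi : i * i = -1) :
    i3b_gYA h2 i hi * i3b_gYA h2 i hi = (i3b_gYA h2 i hi)⁻¹ := by
  apply Units.ext
  show mYA i * mYA i = mYAi i
  exact i3b_half_sq h2 _ _ (i3b_A_sq i hi)

theorem i3b_gYB_sq (h2 : (2 : F) ≠ 0) (i : F) (hi : i * i = -1) :
    i3b_gYB h2 i hi * i3b_gYB h2 i hi = (i3b_gYB h2 i hi)⁻¹ := by
  apply Units.ext
  show mYB i * mYB i = mYBi i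
  exact i3b_half_sq h2 _ _ (i3b_B_sq i hi)

/-! conjugation action on the generators -/

theorem i3b_A_X1 (i : F) : i3b_A i * mX1 = mZ1 * i3b_A i := by
  ext a b
  fin_cases a <;> fin_cases b <;>
    simp [i3b_A, mX1, mZ1, Matrix.mul_apply, Fin.sum_univ_four]
  all_goals try ring_nf

theorem i3b_A_Z1 (i : F) (hi : i * i = -1) :
    i3b_A i * mZ1 = ((i • (1 : Matrix (Fin 4) (Fin 4) F)) * mX1 * mZ1) * i3b_A i := by
  have hi2 : i ^ 2 = -1 := by rw [pow_two, hi]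
  ext a b
  fin_cases a <;> fin_cases b <;>
    simp [i3b_A, mX1, mZ1, Matrix.mul_apply, Fin.sum_univ_four]
  all_goals try ring_nf
  all_goals try simp only [hi2]
  all_goals try ring_nf

theorem i3b_A_X2 (i : F) : i3b_A i * mX2 = mX2 * i3b_A i := by
  ext a b
  fin_cases a <;> fin_cases b <;>
    simp [i3b_A, mX2, Matrix.mul_apply, Fin.sum_univ_four]
  all_goals try ring_nf

theorem i3b_A_Z2 (i : F) : i3b_A i * mZ2 = mZ2 * i3b_A i := by
  ext a b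
  fin_cases a <;> fin_cases b <;>
    simp [i3b_A, mZ2, Matrix.mul_apply, Fin.sum_univ_four]
  all_goals try ring_nf

theorem i3b_B_X1 (i : F) : i3b_B i * mX1 = mZ1 * i3b_B i := by
  ext a b
  fin_cases a <;> fin_cases b <;>
    simp [i3b_B, mX1, mZ1, Matrix.mul_apply, Fin.sum_univ_four]
  all_goals try ring_nf

theorem i3b_B_X2 (i : F) : i3b_B i * mX2 = mZ2 * i3b_B i := by
  ext a b
  fin_cases a <;> fin_cases b <;>
    simp [i3b_B, mX2, mZ2, Matrix.mul_apply, Fin.sum_univ_four]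
  all_goals try ring_nf

theorem i3b_B_Z1 (i : F) (hi : i * i = -1) :
    i3b_B i * mZ1 = ((i • (1 : Matrix (Fin 4) (Fin 4) F)) * mX1 * mZ1) * i3b_B i := by
  have hi2 : i ^ 2 = -1 := by rw [pow_two, hi]
  ext a b
  fin_cases a <;> fin_cases b <;>
    simp [i3b_B, mX1, mZ1, Matrix.mul_apply, Fin.sum_univ_four]
  all_goals try ring_nf
  all_goals try simp only [hi2]
  all_goals try ring_nf

theorem i3b_B_Z2 (i : F) (hi : i * i = -1) :
    i3b_B i * mZ2 = ((i • (1 : Matrix (Fin 4) (Fin 4) F)) * mX2 * mZ2) * i3b_B i := by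
  have hi2 : i ^ 2 = -1 := by rw [pow_two, hi]
  ext a b
  fin_cases a <;> fin_cases b <;>
    simp [i3b_B, mX2, mZ2, Matrix.mul_apply, Fin.sum_univ_four]
  all_goals try ring_nf
  all_goals try simp only [hi2]
  all_goals try ring_nf

section leaf

variable [Fintype F]

theorem i3b_gYA_mem (h2 : (2 : F) ≠ 0) (i : F) (hi : i * i = -1) :
    i3b_gYA h2 i hi ∈ Subgroup.normalizer (R0 i hi : Set (GL (Fin 4) F)) := by
  apply i2b_mem_normalizer_of_gens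
  · have : i3b_gYA h2 i hi * gX1 * (i3b_gYA h2 i hi)⁻¹ = gZ1 := by
      apply i2b_conj_eq
      show mYA i * mX1 = mZ1 * mYA i
      exact i3b_half_conj _ _ _ (i3b_A_X1 i)
    rw [this]
    exact i2b_gZ1_mem i hi
  · have : i3b_gYA h2 i hi * gZ1 * (i3b_gYA h2 i hi)⁻¹ = gI i hi * gX1 * gZ1 := by
      apply i2b_conj_eq
      show mYA i * mZ1 = ((i • (1 : Matrix (Fin 4) (Fin 4) F)) * mX1 * mZ1) * mYA i
      exact i3b_half_conj _ _ _ (i3b_A_Z1 i hi)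
    rw [this]
    exact (R0 i hi).mul_mem ((R0 i hi).mul_mem (i2b_gI_mem i hi) (i2b_gX1_mem i hi))
      (i2b_gZ1_mem i hi)
  · have : i3b_gYA h2 i hi * gX2 * (i3b_gYA h2 i hi)⁻¹ = gX2 := by
      apply i2b_conj_eq
      show mYA i * mX2 = mX2 * mYA i
      exact i3b_half_conj _ _ _ (i3b_A_X2 i)
    rw [this]
    exact i2b_gX2_mem i hi
  · have : i3b_gYA h2 i hi * gZ2 * (i3b_gYA h2 i hi)⁻¹ = gZ2 := by
      apply i2b_conj_eq
      show mYA i * mZ2 = mZ2 * mYA i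
      exact i3b_half_conj _ _ _ (i3b_A_Z2 i)
    rw [this]
    exact i2b_gZ2_mem i hi

theorem i3b_gYB_mem (h2 : (2 : F) ≠ 0) (i : F) (hi : i * i = -1) :
    i3b_gYB h2 i hi ∈ Subgroup.normalizer (R0 i hi : Set (GL (Fin 4) F)) := by
  apply i2b_mem_normalizer_of_gens
  · have : i3b_gYB h2 i hi * gX1 * (i3b_gYB h2 i hi)⁻¹ = gZ1 := by
      apply i2b_conj_eq
      show mYB i * mX1 = mZ1 * mYB i
      exact i3b_half_conj _ _ _ (i3b_B_X1 i)
    rw [this]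
    exact i2b_gZ1_mem i hi
  · have : i3b_gYB h2 i hi * gZ1 * (i3b_gYB h2 i hi)⁻¹ = gI i hi * gX1 * gZ1 := by
      apply i2b_conj_eq
      show mYB i * mZ1 = ((i • (1 : Matrix (Fin 4) (Fin 4) F)) * mX1 * mZ1) * mYB i
      exact i3b_half_conj _ _ _ (i3b_B_Z1 i hi)
    rw [this]
    exact (R0 i hi).mul_mem ((R0 i hi).mul_mem (i2b_gI_mem i hi) (i2b_gX1_mem i hi))
      (i2b_gZ1_mem i hi)
  · have : i3b_gYB h2 i hi * gX2 * (i3b_gYB h2 i hi)⁻¹ = gZ2 := by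
      apply i2b_conj_eq
      show mYB i * mX2 = mZ2 * mYB i
      exact i3b_half_conj _ _ _ (i3b_B_X2 i)
    rw [this]
    exact i2b_gZ2_mem i hi
  · have : i3b_gYB h2 i hi * gZ2 * (i3b_gYB h2 i hi)⁻¹ = gI i hi * gX2 * gZ2 := by
      apply i2b_conj_eq
      show mYB i * mZ2 = ((i • (1 : Matrix (Fin 4) (Fin 4) F)) * mX2 * mZ2) * mYB i
      exact i3b_half_conj _ _ _ (i3b_B_Z2 i hi)
    rw [this]
    exact (R0 i hi).mul_mem ((R0 i hi).mul_mem (i2b_gI_mem i hi) (i2b_gX2_mem i hi))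
      (i2b_gZ2_mem i hi)

/-- P4-I3B.  Elements of order 3 in `N(R0)` of both types. -/
theorem exists_order_three (h2 : (2 : F) ≠ 0) (i : F) (hi : i * i = -1) :
    ∃ yA yB : GL (Fin 4) F,
      yA ∈ Subgroup.normalizer (R0 i hi : Set (GL (Fin 4) F)) ∧
      yB ∈ Subgroup.normalizer (R0 i hi : Set (GL (Fin 4) F)) ∧
      yA ^ 3 = 1 ∧ yB ^ 3 = 1 ∧ yA ≠ 1 ∧ yB ≠ 1 ∧
      (yA : Matrix (Fin 4) (Fin 4) F) * (yA : Matrix (Fin 4) (Fin 4) F) +
        (yA : Matrix (Fin 4) (Fin 4) F) + 1 = 0 ∧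
      (yB : Matrix (Fin 4) (Fin 4) F) * (yB : Matrix (Fin 4) (Fin 4) F) +
        (yB : Matrix (Fin 4) (Fin 4) F) + 1 ≠ 0 := by
  have hi0 : i ≠ 0 := ne_zero_of_sq i hi
  have hi1 : -1 - i ≠ 0 := by
    intro h
    have h1 : i = -1 := by linear_combination -h
    rw [h1] at hi
    apply h2
    linear_combination hi
  refine ⟨i3b_gYA h2 i hi, i3b_gYB h2 i hi, i3b_gYA_mem h2 i hi, i3b_gYB_mem h2 i hi,
    ?_, ?_, ?_, ?_, ?_, ?_⟩
  · rw [pow_succ, pow_two, i3b_gYA_sq, inv_mul_cancel]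
  · rw [pow_succ, pow_two, i3b_gYB_sq, inv_mul_cancel]
  · intro h
    have h1 : mYA i = 1 := congrArg Units.val h
    have h3 := congrFun (congrFun h1 0) 2
    simp [mYA] at h3
    rcases h3 with h3 | h3
    · exact h2 h3
    · exact hi1 h3
  · intro h
    have h1 : mYB i = 1 := congrArg Units.val h
    have h3 := congrFun (congrFun h1 0) 1
    simp [mYB] at h3
    rcases h3 with h3 | h3
    · exact h2 h3
    · exact hi0 h3
  · show mYA i * mYA i + mYA i + 1 = 0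
    rw [i3b_mYA, i3b_half_sq h2 _ _ (i3b_A_sq i hi)]
    ext a b
    fin_cases a <;> fin_cases b <;> simp [i3b_A, i3b_Ai]
    all_goals field_simp
    all_goals ring_nf
  · show mYB i * mYB i + mYB i + 1 ≠ 0
    rw [i3b_mYB, i3b_half_sq h2 _ _ (i3b_B_sq i hi)]
    intro h
    have h3 := congrFun (congrFun h 0) 0
    simp [i3b_B, i3b_Bi] at h3

end leaf

end Cfsg.Agent.Lib.Helper14.P4
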