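import Mathlib
import Cfsg.Agent.Lib.Helper14.P4Defs
import Cfsg.Agent.Lib.Helper21.P4I2B
import Cfsg.Agent.Lib.Helper21.P4I3B

/-!
# S6000 hive (helper14): leaf P4-I5B `exists_order_five` (helper21)
-/

set_option autoImplicit false

namespace Cfsg.Agent.Lib.Helper14.P4

open Matrix

variable {F : Type*} [Field F]

/-- `2 • mY5` -/
def i5b_A (i : F) : Matrix (Fin 4) (Fin 4) F :=
  !![-i,-i,1,-1; -i,i,1,1; -i,-i,-1,1; -i,i,-1,-1]
/-- `2 • mY5i` -/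
def i5b_Ai (i : F) : Matrix (Fin 4) (Fin 4) F :=
  !![i,i,i,i; i,-i,i,-i; 1,1,-1,-1; -1,1,1,-1]
/-- `2 • mY5 ^ 2` -/
def i5b_C (i : F) : Matrix (Fin 4) (Fin 4) F :=
  !![-1,-i,-i,1; -i,-1,-1,i; -1,i,-i,-1; i,-1,1,i]

theorem i5b_mY5 (i : F) : mY5 i = (2 : F)⁻¹ • i5b_A i := rfl
theorem i5b_mY5i (i : F) : mY5i i = (2 : F)⁻¹ • i5b_Ai i := rfl

theorem i5b_A_mul_Ai (i : F) (hi : i * i = -1) : i5b_A i * i5b_Ai i = (4 : F) • 1 := by
  have hi2 : i ^ 2 = -1 := by rw [pow_two, hi]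
  ext a b
  fin_cases a <;> fin_cases b <;>
    simp [i5b_A, i5b_Ai, Matrix.mul_apply, Fin.sum_univ_four]
  all_goals try ring_nf
  all_goals try simp only [hi2]
  all_goals try ring_nf

theorem i5b_Ai_mul_A (i : F) (hi : i * i = -1) : i5b_Ai i * i5b_A i = (4 : F) • 1 := by
  have hi2 : i ^ 2 = -1 := by rw [pow_two, hi]
  ext a b
  fin_cases a <;> fin_cases b <;>
    simp [i5b_A, i5b_Ai, Matrix.mul_apply, Fin.sum_univ_four]
  all_goals try ring_nf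
  all_goals try simp only [hi2]
  all_goals try ring_nf

theorem i5b_A_sq (i : F) (hi : i * i = -1) : i5b_A i * i5b_A i = (2 : F) • i5b_C i := by
  have hi2 : i ^ 2 = -1 := by rw [pow_two, hi]
  ext a b
  fin_cases a <;> fin_cases b <;>
    simp [i5b_A, i5b_C, Matrix.mul_apply, Fin.sum_univ_four]
  all_goals try ring_nf
  all_goals try simp only [hi2]
  all_goals try ring_nf

theorem i5b_C_sq (i : F) (hi : i * i = -1) : i5b_C i * i5b_C i = (2 : F) • i5b_Ai i := by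
  have hi2 : i ^ 2 = -1 := by rw [pow_two, hi]
  ext a b
  fin_cases a <;> fin_cases b <;>
    simp [i5b_C, i5b_Ai, Matrix.mul_apply, Fin.sum_univ_four]
  all_goals try ring_nf
  all_goals try simp only [hi2]
  all_goals try ring_nf

/-- the element `Y5` of `GL 4 F` -/
def i5b_gY5 (h2 : (2 : F) ≠ 0) (i : F) (hi : i * i = -1) : GL (Fin 4) F :=
  ⟨mY5 i, mY5i i, i3b_half_mul_half h2 _ _ (i5b_A_mul_Ai i hi),
    i3b_half_mul_half h2 _ _ (i5b_Ai_mul_A i hi)⟩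

theorem i5b_gY5_pow_four (h2 : (2 : F) ≠ 0) (i : F) (hi : i * i = -1) :
    (i5b_gY5 h2 i hi * i5b_gY5 h2 i hi) * (i5b_gY5 h2 i hi * i5b_gY5 h2 i hi)
      = (i5b_gY5 h2 i hi)⁻¹ := by
  apply Units.ext
  show (mY5 i * mY5 i) * (mY5 i * mY5 i) = mY5i i
  rw [i5b_mY5, i3b_half_sq h2 _ _ (i5b_A_sq i hi), i3b_half_sq h2 _ _ (i5b_C_sq i hi)]
  rfl

/-! conjugation action on the generators -/

theorem i5b_A_X1 (i : F) (hi : i * i = -1) :
    i5b_A i * mX1 = ((i⁻¹ • (1 : Matrix (Fin 4) (Fin 4) F)) * mX1 * mX2 * mZ1) * i5b_A i := by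
  have hi2 : i ^ 2 = -1 := by rw [pow_two, hi]
  have hinv : i⁻¹ = -i := by
    apply inv_eq_of_mul_eq_one_right
    linear_combination -hi
  rw [hinv]
  ext a b
  fin_cases a <;> fin_cases b <;>
    simp [i5b_A, mX1, mX2, mZ1, Matrix.mul_apply, Fin.sum_univ_four]
  all_goals try ring_nf
  all_goals try simp only [hi2]
  all_goals try ring_nf

theorem i5b_A_X2 (i : F) : i5b_A i * mX2 = (mX1 * mZ2) * i5b_A i := by
  ext a b
  fin_cases a <;> fin_cases b <;>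
    simp [i5b_A, mX1, mX2, mZ2, Matrix.mul_apply, Fin.sum_univ_four]
  all_goals try ring_nf

theorem i5b_A_Z1 (i : F) : i5b_A i * mZ1 = mX1 * i5b_A i := by
  ext a b
  fin_cases a <;> fin_cases b <;>
    simp [i5b_A, mX1, mZ1, Matrix.mul_apply, Fin.sum_univ_four]
  all_goals try ring_nf

theorem i5b_A_Z2 (i : F) : i5b_A i * mZ2 = mX2 * i5b_A i := by
  ext a b
  fin_cases a <;> fin_cases b <;>
    simp [i5b_A, mX2, mZ2, Matrix.mul_apply, Fin.sum_univ_four]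
  all_goals try ring_nf

section leaf

variable [Fintype F]

theorem i5b_gY5_mem (h2 : (2 : F) ≠ 0) (i : F) (hi : i * i = -1) :
    i5b_gY5 h2 i hi ∈ Subgroup.normalizer (R0 i hi : Set (GL (Fin 4) F)) := by
  apply i2b_mem_normalizer_of_gens
  · have : i5b_gY5 h2 i hi * gX1 * (i5b_gY5 h2 i hi)⁻¹ = (gI i hi)⁻¹ * gX1 * gX2 * gZ1 := by
      apply i2b_conj_eq
      show mY5 i * mX1 = ((i⁻¹ • (1 : Matrix (Fin 4) (Fin 4) F)) * mX1 * mX2 * mZ1) * mY5 i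
      exact i3b_half_conj _ _ _ (i5b_A_X1 i hi)
    rw [this]
    exact (R0 i hi).mul_mem ((R0 i hi).mul_mem ((R0 i hi).mul_mem
      ((R0 i hi).inv_mem (i2b_gI_mem i hi)) (i2b_gX1_mem i hi)) (i2b_gX2_mem i hi))
      (i2b_gZ1_mem i hi)
  · have : i5b_gY5 h2 i hi * gZ1 * (i5b_gY5 h2 i hi)⁻¹ = gX1 := by
      apply i2b_conj_eq
      show mY5 i * mZ1 = mX1 * mY5 i
      exact i3b_half_conj _ _ _ (i5b_A_Z1 i)
    rw [this]
    exact i2b_gX1_mem i hi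
  · have : i5b_gY5 h2 i hi * gX2 * (i5b_gY5 h2 i hi)⁻¹ = gX1 * gZ2 := by
      apply i2b_conj_eq
      show mY5 i * mX2 = (mX1 * mZ2) * mY5 i
      exact i3b_half_conj _ _ _ (i5b_A_X2 i)
    rw [this]
    exact (R0 i hi).mul_mem (i2b_gX1_mem i hi) (i2b_gZ2_mem i hi)
  · have : i5b_gY5 h2 i hi * gZ2 * (i5b_gY5 h2 i hi)⁻¹ = gX2 := by
      apply i2b_conj_eq
      show mY5 i * mZ2 = mX2 * mY5 i
      exact i3b_half_conj _ _ _ (i5b_A_Z2 i)
    rw [this]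
    exact i2b_gX2_mem i hi

/-- P4-I5B.  An element of order 5 in `N(R0)`. -/
theorem exists_order_five (h2 : (2 : F) ≠ 0) (i : F) (hi : i * i = -1) :
    ∃ y : GL (Fin 4) F, y ∈ Subgroup.normalizer (R0 i hi : Set (GL (Fin 4) F)) ∧
      y ^ 5 = 1 ∧ y ≠ 1 := by
  have hi0 : i ≠ 0 := ne_zero_of_sq i hi
  refine ⟨i5b_gY5 h2 i hi, i5b_gY5_mem h2 i hi, ?_, ?_⟩
  · have : (i5b_gY5 h2 i hi) ^ 5 = ((i5b_gY5 h2 i hi * i5b_gY5 h2 i hi) *
        (i5b_gY5 h2 i hi * i5b_gY5 h2 i hi)) * i5b_gY5 h2 i hi := by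
      rw [show (5 : ℕ) = 2 + 2 + 1 from rfl, pow_add, pow_add, pow_one, pow_two]
    rw [this, i5b_gY5_pow_four, inv_mul_cancel]
  · intro h
    have h1 : mY5 i = 1 := congrArg Units.val h
    have h3 := congrFun (congrFun h1 0) 1
    simp [mY5] at h3
    rcases h3 with h3 | h3
    · exact h2 h3
    · exact hi0 h3

end leaf

end Cfsg.Agent.Lib.Helper14.P4
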