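import Mathlib
import Cfsg.Prelude.Def_ClassicalGeometry
import Cfsg.Prelude.Def_GeometricClasses
import Cfsg.Agent.Lib.Helper39.EqDefs

/-! # EQ-CONG (helper21, for helper39's generic Eq layer of Hq/Qe/Qm): fixed-point congruence on families
of subspaces, for an endomorphism of prime order (abstract `Module.End` twin of helper64's HY-CONG) -/

set_option autoImplicit false

namespace Cfsg.Agent.Lib.Helper39.Eq

open Module
open Cfsg.Agent.Lib.Helper2.BG Cfsg.Agent.Lib.Helper99 Cfsg.Agent.Lib.Helper48.Ti
open Cfsg.Agent.Lib.Helper5.Hy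

section abstract

variable {F V : Type*} [Field F] [Fintype F] [AddCommGroup V] [Module F V] [FiniteDimensional F V]
variable {Q : QuadraticForm F V}

set_option linter.unusedSectionVars false

theorem congq_map_pow (f : Module.End F V) (k : ℕ) (W : Submodule F V) :
    W.map (f ^ k) = (fun U : Submodule F V => U.map f)^[k] W := by
  induction k generalizing W with
  | zero => simp [Module.End.one_eq_id]
  | succ k ih =>
    rw [Function.iterate_succ_apply', ← ih, pow_succ', Module.End.mul_eq_comp, Submodule.map_comp]

theorem congq_iterate_le (f : Module.End F V) (W : Submodule F V) (h : W.map f ≤ W) (k : ℕ) :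
    (fun U : Submodule F V => U.map f)^[k] W ≤ W := by
  induction k with
  | zero => simp
  | succ k ih =>
    rw [Function.iterate_succ_apply']
    exact le_trans (Submodule.map_mono ih) h

theorem congq_eq_of_le (f : Module.End F V) (r : ℕ) (hr : 0 < r) (hf : f ^ r = 1)
    (W : Submodule F V) (h : W.map f ≤ W) : W.map f = W := by
  refine le_antisymm h ?_
  obtain ⟨k, rfl⟩ : ∃ k, r = k + 1 := ⟨r - 1, by omega⟩
  have h1 : W.map (f ^ (k + 1)) = W := by
    rw [hf]; simp [Module.End.one_eq_id]
  rw [congq_map_pow, Function.iterate_succ_apply'] at h1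
  calc W = _ := h1.symm
    _ ≤ _ := Submodule.map_mono (congq_iterate_le f W h k)

theorem congq_end_pow {α : Type*} (g : α → α) (n : ℕ) :
    ((show Function.End α from g) ^ n) = (show Function.End α from g^[n]) := rfl

theorem congq_end_eq_one {α : Type*} (g : α → α) (n : ℕ) (h : ∀ a, g^[n] a = a) :
    ((show Function.End α from g) ^ n) = 1 := by
  rw [congq_end_pow]
  exact funext h

theorem congq_inv_iff (f : Module.End F V) (W : Submodule F V) : Inv f W ↔ W.map f ≤ W := by
  constructor
  · rintro h _ ⟨v, hv, rfl⟩
    exact h v hv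
  · intro h v hv
    exact h ⟨v, hv, rfl⟩

/-- EQ-CONG: fixed point congruence for an endomorphism of prime order acting on a family of subspaces
closed under the action. -/
theorem card_modEq_fixedQ (f : Module.End F V) (r : ℕ) [Fact r.Prime] (hfr : f ^ r = 1)
    (P : Submodule F V → Prop) (hP : ∀ W, P W → P (W.map f)) :
    Nat.card {W : Submodule F V // P W} ≡
      Nat.card {W : Submodule F V // P W ∧ Inv f W} [MOD r] := by
  classical
  have : Finite V := Module.finite_of_finite F
  have : Finite (Submodule F V) := Finite.of_injective (fun W => (W : Set V))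
    SetLike.coe_injective
  haveI : Fintype {W : Submodule F V // P W} := Fintype.ofFinite _
  let g : {W : Submodule F V // P W} → {W : Submodule F V // P W} :=
    fun W => ⟨W.1.map f, hP W.1 W.2⟩
  have hiter : ∀ (k : ℕ) (W : {W : Submodule F V // P W}),
      ((g^[k]) W).1 = (fun U : Submodule F V => U.map f)^[k] W.1 := by
    intro k
    induction k with
    | zero => intro W; rfl
    | succ k ih =>
      intro W
      rw [Function.iterate_succ_apply', Function.iterate_succ_apply', ← ih]
  let e : Function.End {W : Submodule F V // P W} := g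
  have he : e ^ r ^ 1 = 1 := by
    rw [pow_one]
    apply congq_end_eq_one
    intro W
    apply Subtype.ext
    rw [hiter, ← congq_map_pow, hfr]
    simp [Module.End.one_eq_id]
  have key := Equiv.Perm.card_fixedPoints_modEq (p := r) (n := 1) he
  rw [Nat.card_eq_fintype_card]
  refine key.trans ?_
  rw [← Nat.card_eq_fintype_card]
  refine (congrArg (· % r) (Nat.card_congr ?_) : _)
  refine
    { toFun := fun W => ⟨W.1.1, W.1.2, ?_⟩
      invFun := fun W => ⟨⟨W.1, W.2.1⟩, ?_⟩
      left_inv := fun W => rfl
      right_inv := fun W => rfl }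
  · have h : g W.1 = W.1 := W.2
    have h' : (g W.1).1 = W.1.1 := congrArg Subtype.val h
    exact (congq_inv_iff f _).2 (le_of_eq h')
  · show g ⟨W.1, W.2.1⟩ = ⟨W.1, W.2.1⟩
    apply Subtype.ext
    exact congq_eq_of_le f r (Fact.out : r.Prime).pos hfr W.1 ((congq_inv_iff f _).1 W.2.2)

end abstract

end Cfsg.Agent.Lib.Helper39.Eq
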