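import Cfsg.Agent.Lib.Helper21.BG139Cfg
import Cfsg.Agent.Lib.Helper47.BG11e
import Cfsg.Agent.Lib.Helper63.BG13a
import Cfsg.Agent.Lib.Helper30.BG1213D
import Cfsg.Agent.Lib.Helper24.SylowInv
import Cfsg.Agent.S1417
import Cfsg.Agent.S1422

set_option autoImplicit false
set_option linter.unusedSectionVars false

/-!
# Bender–Glauberman Theorem 13.9: first consequences of the configuration

`τ₂(M) = ∅`, `P` abelian, `P ≤ M_σ`, and `M ∩ N = N_G(P)` (the last one from the nilpotency of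
`M_σ ∩ N_σ`, taken as a hypothesis here).
-/

namespace Cfsg.Agent.Lib.Helper21.BG139

open Subgroup Cfsg

universe u

variable {G : Type u} [Group G] [Finite G]
variable {M N : Subgroup G} {p : ℕ} [Fact p.Prime] {P : Sylow p G}

theorem Cfg.ne (c : Cfg M N p P) : N ≠ M := by
  intro h
  apply c.hnc 1
  rw [h]
  ext x
  simp [Subgroup.mem_map]

theorem Cfg.not_le (c : Cfg M N p P) : ¬ M ≤ N := by
  intro h
  rcases eq_or_lt_of_le h with h1 | h1
  · exact c.ne h1.symm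
  · exact c.hN.1 (c.hM.2 N h1)

theorem Cfg.isPGroup (_c : Cfg M N p P) : IsPGroup p (P : Subgroup G) := P.isPGroup'

theorem Cfg.not_dvd_index (_c : Cfg M N p P) : ¬ p ∣ (P : Subgroup G).index :=
  P.not_dvd_index

theorem Cfg.normalizer_le_left (c : Cfg M N p P) :
    normalizer ((P : Subgroup G) : Set G) ≤ M :=
  Cfsg.Agent.Lib.Helper30.BG1213.normalizer_le_of_mem_sigma c.hpM c.hPM c.isPGroup c.not_dvd_index

theorem Cfg.normalizer_le_right (c : Cfg M N p P) :
    normalizer ((P : Subgroup G) : Set G) ≤ N := c.symm.normalizer_le_left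

/-- `P ≤ M_σ` -/
theorem Cfg.le_sigmaCore (hG : IsMinSimpleOddOrder G) (c : Cfg M N p P) :
    (P : Subgroup G) ≤ sigmaCore M :=
  Cfsg.Agent.Lib.Helper47.BG11.le_sigmaCore_of_sigma
    (Cfsg.Agent.Lib.Helper47.BG11.sigmaHallIn_of_coatom hG c.hM) c.hpM c.hPM c.isPGroup

/-- `P` is abelian: a nonabelian `p`-subgroup lies in only one maximal subgroup (S1422). -/
theorem Cfg.abelian (hG : IsMinSimpleOddOrder G) (c : Cfg M N p P) :
    ∀ a ∈ (P : Subgroup G), ∀ b ∈ (P : Subgroup G), a * b = b * a := by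
  by_contra h
  have hna : ¬ IsMulCommutative ↥(P : Subgroup G) := by
    intro hc
    apply h
    intro a ha b hb
    have := hc.is_comm.comm (⟨a, ha⟩ : (P : Subgroup G)) ⟨b, hb⟩
    exact congrArg Subtype.val this
  obtain ⟨L, -, hL⟩ := Cfsg.Agent.S1422.result hG p (P : Subgroup G) c.isPGroup hna
  have h1 : M = L := hL M ⟨c.hM, c.hPM⟩
  have h2 : N = L := hL N ⟨c.hN, c.hPN⟩
  exact c.ne (h2.trans h1.symm)

/-- `τ₂(M) = ∅`: otherwise `M_σ` is nilpotent (S1417 (a)), `P` is normal in `M` and `M ≤ N`. -/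
theorem Cfg.tau2_empty (hG : IsMinSimpleOddOrder G) (c : Cfg M N p P) : tau2 M = ∅ := by
  by_contra hne
  obtain ⟨r, hr⟩ := Set.nonempty_iff_ne_empty.mpr hne
  haveI : Fact r.Prime := ⟨hr.1⟩
  obtain ⟨A, hAM, hAe, hAc⟩ := Cfsg.Agent.Lib.Helper63.BG10.exists_elemAb_sq_le (M := M) hr.2.2.2
  have hnil := (Cfsg.Agent.S1417.result hG M c.hM r hr A ⟨hAM, hAe, hAc⟩).1
  obtain ⟨Q, hQp, -, hQi, hMQ, hQall⟩ :=
    Cfsg.Agent.Lib.Helper47.BG11.Exc.exists_normal_sylow
      (Cfsg.Agent.Lib.Helper47.BG11.sigmaHallIn_of_coatom hG c.hM) hnil c.hpM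
  have hPQ : (P : Subgroup G) ≤ Q := hQall _ c.hPM c.isPGroup
  have hQP : Q = (P : Subgroup G) := by
    have := P.is_maximal' hQp hPQ
    exact this
  rw [hQP] at hMQ
  exact c.not_le (hMQ.trans c.normalizer_le_right)

/-- `M ∩ N = N_G(P)`, given that `M_σ ∩ N_σ` is nilpotent. -/
theorem Cfg.inf_eq_of_nil (hG : IsMinSimpleOddOrder G) (c : Cfg M N p P)
    (hJ : Group.IsNilpotent ↥(sigmaCore M ⊓ sigmaCore N)) :
    M ⊓ N = normalizer ((P : Subgroup G) : Set G) := by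
  apply le_antisymm
  · have hPJ : (P : Subgroup G) ≤ sigmaCore M ⊓ sigmaCore N :=
      le_inf (c.le_sigmaCore hG) (c.symm.le_sigmaCore hG)
    have hidx : ¬ p ∣ (P : Subgroup G).relIndex (sigmaCore M ⊓ sigmaCore N) := by
      intro h
      exact c.not_dvd_index (h.trans (Subgroup.relIndex_dvd_index_of_le hPJ))
    obtain ⟨P', hP'⟩ := Cfsg.Agent.Lib.Helper24.exists_sylow_map_eq
      (sigmaCore M ⊓ sigmaCore N) (P : Subgroup G) hPJ c.isPGroup hidx
    have hD : M ⊓ N ≤ normalizer ((sigmaCore M ⊓ sigmaCore N : Subgroup G) : Set G) := by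
      intro d hd
      have h1 := Cfsg.Agent.Lib.Helper24.BG.le_normalizer_sigmaCore M hd.1
      have h2 := Cfsg.Agent.Lib.Helper24.BG.le_normalizer_sigmaCore N hd.2
      rw [mem_normalizer_iff] at h1 h2 ⊢
      intro x
      rw [Subgroup.mem_inf, Subgroup.mem_inf, h1 x, h2 x]
    have := Cfsg.Agent.Lib.Helper63.BG13.le_normalizer_sylow_of_nilpotent hD hJ P'
    rwa [hP'] at this
  · exact le_inf c.normalizer_le_left c.normalizer_le_right

end Cfsg.Agent.Lib.Helper21.BG139
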