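import Cfsg.Agent.Lib.Helper24.RelSZ
import Cfsg.Agent.Lib.Helper24.InvCompl
import Cfsg.Agent.Lib.Helper33.Conj
import Cfsg.Agent.Lib.Helper23.TypeP

set_option autoImplicit false
set_option linter.unusedSectionVars false

/-!
# Relative Schur–Zassenhaus: a complement containing a given subgroup of coprime order
-/

namespace Cfsg.Agent.Lib.Helper21

open Subgroup Cfsg Cfsg.Agent.Lib.Helper33 Cfsg.Agent.Lib.Helper24

universe u

variable {G : Type u} [Group G] [Finite G]

/-- `N ⊴ D` a Hall subgroup (`N` solvable), `T ≤ D` of order prime to `|N|`: some complement of `N`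
in `D` contains `T`. -/
theorem exists_compl_ge_of_coprime {N D T : Subgroup G} (hND : N ≤ D)
    (hDN : D ≤ normalizer (N : Set G)) (hcopN : (Nat.card N).Coprime (N.relIndex D))
    (hsolv : Group.IsSolvable ↥N ∨ Group.IsSolvable ↥T) (hTD : T ≤ D)
    (hcop : (Nat.card T).Coprime (Nat.card N)) :
    ∃ E : Subgroup G, IsComplIn E N D ∧ T ≤ E := by
  obtain ⟨E, hED, -, hEN, hEsup⟩ := rel_sz_exists N D hND hDN hcopN
  have hprod : ∀ m ∈ D, ∃ a ∈ E, ∃ b ∈ N, m = a * b := by
    intro m hm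
    exact exists_mul_of_mem_sup_of_le_normalizer E N (hED.trans hDN) m (hEsup ▸ hm)
  set Y := T ⊔ N with hY
  set H₂ := E ⊓ Y with hH₂
  have h₁ : T ≤ normalizer (N : Set G) := hTD.trans hDN
  have hYD : Y ≤ D := sup_le hTD hND
  have hc1 : IsComplIn T N Y := by
    refine ⟨le_sup_left, le_sup_right, (Subgroup.disjoint_of_coprime_natCard hcop).eq_bot, ?_⟩
    intro y hy
    exact exists_mul_of_mem_sup_of_le_normalizer T N h₁ y hy
  have hc2 : IsComplIn H₂ N Y := by
    refine ⟨inf_le_right, le_sup_right, ?_, ?_⟩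
    · rw [eq_bot_iff, ← hEN]
      exact inf_le_inf_right _ inf_le_left
    · intro y hy
      obtain ⟨e, he, s, hs, rfl⟩ := hprod y (hYD hy)
      refine ⟨e, ⟨he, ?_⟩, s, hs, rfl⟩
      have : e = (e * s) * s⁻¹ := by group
      rw [this]
      exact Y.mul_mem hy (Y.inv_mem ((le_sup_right : N ≤ Y) hs))
  have hcard : Nat.card H₂ = Nat.card T := by
    have e1 := Cfsg.Agent.Lib.Helper23.card_isComplIn hc1
    have e2 := Cfsg.Agent.Lib.Helper23.card_isComplIn hc2
    have hpos : 0 < Nat.card N := Nat.card_pos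
    exact Nat.eq_of_mul_eq_mul_right hpos (e2.trans e1.symm)
  obtain ⟨n, hn, hconj⟩ := rel_sz_conj N T H₂ h₁ hcop hsolv inf_le_right hcard
  have hnD : n ∈ D := hND hn
  have hTE : cj n T ≤ E := by rw [hconj]; exact inf_le_left
  refine ⟨cj n⁻¹ E, ⟨?_, hND, ?_, ?_⟩, ?_⟩
  · rw [cj_le_iff, inv_inv, cj_eq_self_of_mem hnD]
    exact hED
  · have hNn : cj n⁻¹ N = N := cj_eq_self_of_mem (N.inv_mem hn)
    rw [← hNn, ← cj_inf, hEN, cj_bot]
  · intro m hm
    obtain ⟨e, he, s, hs, hes⟩ := hprod (n * m * n⁻¹) (D.mul_mem (D.mul_mem hnD hm) (D.inv_mem hnD))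
    refine ⟨n⁻¹ * e * n, ?_, n⁻¹ * s * n, ?_, ?_⟩
    · rw [mem_cj, inv_inv]
      have : n * (n⁻¹ * e * n) * n⁻¹ = e := by group
      rw [this]; exact he
    · have h1 := (mem_normalizer_iff.mp (hDN (D.inv_mem hnD)) s).mp hs
      simpa using h1
    · have : m = n⁻¹ * (n * m * n⁻¹) * n := by group
      rw [this, hes]; group
  · rw [le_cj_iff, inv_inv]
    exact hTE

end Cfsg.Agent.Lib.Helper21
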