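import Cfsg.Agent.Lib.Helper21.BG139A
import Cfsg.Agent.Lib.Helper21.RelCompl
import Cfsg.Agent.Lib.Helper32.BG123
import Cfsg.Agent.Lib.Helper24.CoprimeAbelian
import Cfsg.Agent.Lib.Helper23.BadTau2
import Cfsg.Agent.Lib.Helper23.TransCore
import Cfsg.Agent.Lib.Helper23.FitUniqueB
import Cfsg.Agent.Lib.Helper76.BGSigU
import Cfsg.Agent.S1350
import Cfsg.Agent.S1405
import Cfsg.Agent.S1411
import Cfsg.Agent.S1414
import Cfsg.Agent.S1415

set_option autoImplicit false
set_option linter.unusedSectionVars false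
set_option linter.style.haveILetI false

/-!
# Bender–Glauberman Theorem 13.9: the Hall `τ₁(M)`-subgroups of `M ∩ N = N_G(P)`

`Cfg.frattini`: `M = M_σ N_G(P)`.  `Cfg.exists_compl`: a complement of `M_σ` in `M` inside `N_G(P)`
containing a given `σ(M)'`-subgroup of `N_G(P)`.  `Cfg.hallT_of`: a Hall `τ₁(M)`-subgroup `T` of
`N_G(P)` is a cyclic Hall subgroup of `M` and `C_P(T) = 1`.
-/

namespace Cfsg.Agent.Lib.Helper21.BG139

open Subgroup Cfsg Cfsg.Agent.Lib.Helper33 Cfsg.Agent.Lib.Helper24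

universe u

variable {G : Type u} [Group G] [Finite G]
variable {M N : Subgroup G} {p : ℕ} [Fact p.Prime] {P : Sylow p G}

theorem isComplIn_symm {A B D : Subgroup G} (h : IsComplIn A B D) : IsComplIn B A D := by
  obtain ⟨hA, hB, hAB, hprod⟩ := h
  refine ⟨hB, hA, by rw [inf_comm]; exact hAB, ?_⟩
  intro m hm
  obtain ⟨a, ha, b, hb, hab⟩ := hprod m⁻¹ (D.inv_mem hm)
  refine ⟨b⁻¹, B.inv_mem hb, a⁻¹, A.inv_mem ha, ?_⟩
  have : m = (m⁻¹)⁻¹ := by group
  rw [this, hab]; group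

theorem Cfg.sigmaHall (hG : IsMinSimpleOddOrder G) (c : Cfg M N p P) :
    IsPiHallOf (sigma M) (sigmaCore M) M :=
  (Cfsg.Agent.S1350.result hG M c.hM).1

theorem Cfg.ne_top (c : Cfg M N p P) : M ≠ ⊤ := c.hM.1

/-- `p ∉ α(M)` -/
theorem Cfg.not_alpha (hG : IsMinSimpleOddOrder G) (c : Cfg M N p P) : p ∉ alpha M := by
  intro h
  obtain ⟨g, hg⟩ := Cfsg.Agent.Lib.Helper32.BG12.exists_cj_eq_of_rank hG c.hN c.hM c.hpN h.2
  exact c.symm.hnc g (by rw [hg, cj_def])

theorem Cfg.not_beta (hG : IsMinSimpleOddOrder G) (c : Cfg M N p P) : p ∉ beta M :=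
  fun h => c.not_alpha hG h.1

/-- Frattini: `M = M_σ N_G(P)`. -/
theorem Cfg.frattini (hG : IsMinSimpleOddOrder G) (c : Cfg M N p P) :
    ∀ m ∈ M, ∃ s ∈ sigmaCore M, ∃ d ∈ normalizer ((P : Subgroup G) : Set G), m = s * d := by
  intro m hm
  have hσn : cj m (sigmaCore M) = sigmaCore M :=
    cj_eq_self_iff.mpr (Cfsg.Agent.Lib.Helper24.BG.le_normalizer_sigmaCore M hm)
  have hPσ := c.le_sigmaCore hG
  have h1 : cj m (P : Subgroup G) ≤ sigmaCore M := by rw [← hσn]; exact cj_mono hPσ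
  have hidx : ¬ p ∣ (P : Subgroup G).relIndex (sigmaCore M) := fun h =>
    c.not_dvd_index (h.trans (Subgroup.relIndex_dvd_index_of_le hPσ))
  have hpg : IsPGroup p (cj m (P : Subgroup G)) := by
    rw [cj_def]; exact c.isPGroup.map _
  obtain ⟨k, hk, hkeq⟩ := sylow_cj_of_facts (sigmaCore M) (P : Subgroup G) (cj m (P : Subgroup G))
    hPσ c.isPGroup hidx h1 hpg (card_cj m _)
  refine ⟨k, hk, k⁻¹ * m, ?_, by group⟩
  rw [← cj_eq_self_iff, cj_mul, hkeq, cj_inv_cj]

theorem Cfg.le_normalizer_inf (c : Cfg M N p P) :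
    normalizer ((P : Subgroup G) : Set G) ≤
      normalizer ((sigmaCore M ⊓ normalizer ((P : Subgroup G) : Set G) : Subgroup G) : Set G) := by
  intro d hd
  have h1 := Cfsg.Agent.Lib.Helper24.BG.le_normalizer_sigmaCore M (c.normalizer_le_left hd)
  have h2 : d ∈ normalizer ((normalizer ((P : Subgroup G) : Set G) : Subgroup G) : Set G) :=
    Subgroup.le_normalizer hd
  rw [mem_normalizer_iff] at h1 h2 ⊢
  intro x
  rw [Subgroup.mem_inf, Subgroup.mem_inf, h1 x, h2 x]

/-- a complement of `M_σ ∩ N_G(P)` in `N_G(P)` is a complement of `M_σ` in `M` -/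
theorem Cfg.isComplIn_of_normalizer (hG : IsMinSimpleOddOrder G) (c : Cfg M N p P) {E : Subgroup G}
    (hE : IsComplIn E (sigmaCore M ⊓ normalizer ((P : Subgroup G) : Set G))
      (normalizer ((P : Subgroup G) : Set G))) :
    IsComplIn E (sigmaCore M) M := by
  obtain ⟨hED, -, hEY, hprod⟩ := hE
  have hEM : E ≤ M := hED.trans c.normalizer_le_left
  refine ⟨hEM, Cfsg.Agent.Lib.Helper47.BG11.sigmaCore_le M, ?_, ?_⟩
  · rw [eq_bot_iff]
    intro x hx
    rw [← hEY]
    exact ⟨hx.1, hx.2, hED hx.1⟩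
  · intro m hm
    obtain ⟨s, hs, d, hd, rfl⟩ := c.frattini hG m hm
    obtain ⟨e, he, y, hy, rfl⟩ := hprod d hd
    refine ⟨e, he, e⁻¹ * s * e * y, ?_, by group⟩
    have hn := Cfsg.Agent.Lib.Helper24.BG.le_normalizer_sigmaCore M (M.inv_mem (hEM he))
    have h1 := (mem_normalizer_iff.mp hn s).mp hs
    rw [inv_inv] at h1
    exact (sigmaCore M).mul_mem h1 hy.1

theorem Cfg.relIndex_dvd (c : Cfg M N p P) :
    (sigmaCore M ⊓ normalizer ((P : Subgroup G) : Set G)).relIndex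
      (normalizer ((P : Subgroup G) : Set G)) ∣ (piCore (sigma M) ↥M).index := by
  rw [Subgroup.inf_relIndex_right]
  have hsub : (sigmaCore M).subgroupOf M = piCore (sigma M) ↥M :=
    comap_map_eq_self_of_injective M.subtype_injective _
  rw [← Subgroup.relIndex_subgroupOf (H := sigmaCore M)
    (K := normalizer ((P : Subgroup G) : Set G)) (L := M) c.normalizer_le_left, hsub]
  exact Subgroup.relIndex_dvd_index_of_normal _ _

/-- a complement of `M_σ` in `M` inside `N_G(P)` containing a given `σ(M)'`-subgroup -/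
theorem Cfg.exists_compl (hG : IsMinSimpleOddOrder G) (c : Cfg M N p P) {T : Subgroup G}
    (hTD : T ≤ normalizer ((P : Subgroup G) : Set G))
    (hTcop : (Nat.card T).Coprime (Nat.card (sigmaCore M))) :
    ∃ E : Subgroup G, IsComplIn E (sigmaCore M) M ∧ E ≤ normalizer ((P : Subgroup G) : Set G) ∧
      T ≤ E := by
  have hσ := Cfsg.Agent.Lib.Helper47.BG11.sigmaHallIn_of_coatom hG c.hM
  set D := normalizer ((P : Subgroup G) : Set G) with hD
  set Y := sigmaCore M ⊓ D with hY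
  have hYtop : Y ≠ ⊤ := by
    intro h
    apply c.ne_top
    rw [eq_top_iff, ← h]
    exact inf_le_left.trans (Cfsg.Agent.Lib.Helper47.BG11.sigmaCore_le M)
  have hsolv : Group.IsSolvable ↥Y := Cfsg.Agent.Lib.Helper23.isSolvable_of_ne_top hG hYtop
  have hcopY : (Nat.card Y).Coprime (Y.relIndex D) := by
    apply Nat.coprime_of_dvd
    intro k hk hkY hkr
    have hkσ : k ∈ sigma M := hσ.2.1 k hk (hkY.trans (Subgroup.card_dvd_of_le inf_le_left))
    exact Cfsg.Agent.Lib.Helper47.BG11.not_dvd_index_piCore_sigma hσ hk hkσ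
      (hkr.trans c.relIndex_dvd)
  have hcop' : (Nat.card T).Coprime (Nat.card Y) :=
    Nat.Coprime.coprime_dvd_right (Subgroup.card_dvd_of_le inf_le_left) hTcop
  obtain ⟨E, hE, hTE⟩ := exists_compl_ge_of_coprime (N := Y) (D := D) (T := T) inf_le_right
    c.le_normalizer_inf hcopY (Or.inl hsolv) hTD hcop'
  exact ⟨E, c.isComplIn_of_normalizer hG hE, hE.1, hTE⟩

end Cfsg.Agent.Lib.Helper21.BG139
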