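import Cfsg.Agent.Lib.Helper21.BG139Cfg

set_option autoImplicit false

/-!
# Bender–Glauberman Theorem 13.9: the statements used as hypotheses

The pieces of the proof that are written by other helpers (or armed on statements not yet on
`main`) enter the assembly through the structure `Hyps G`.
-/

namespace Cfsg.Agent.Lib.Helper21.BG139

open Subgroup Cfsg

universe u

/-- BG Lemma 13.1(a) in the strong form, for subgroups `T` of prime order (this is the form
available on `main`: helper63's `BG13b.cent_of_not_tau1`). -/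
def Stmt131p (G : Type u) [Group G] [Finite G] : Prop :=
  ∀ M H : Subgroup G, IsCoatom M → IsCoatom H →
    (∀ g : G, H ≠ M.map (MulAut.conj g).toMonoidHom) →
    ∀ t : ℕ, t.Prime → t ∉ sigma M → t ∉ tau1 H → ∀ T C : Subgroup G, Nat.card T = t →
      T ≤ H → C ≤ H → C ≤ sigmaCore M → T ≤ normalizer (C : Set G) →
      C ≤ centralizer (T : Set G)

/-- (T1) `M_σ ∩ N_σ` is nilpotent for non-conjugate maximal subgroups. -/
def NilStmt (G : Type u) [Group G] [Finite G] : Prop :=
  ∀ M N : Subgroup G, IsCoatom M → IsCoatom N →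
    (∀ g : G, N ≠ M.map (MulAut.conj g).toMonoidHom) →
    Group.IsNilpotent ↥(sigmaCore M ⊓ sigmaCore N)

/-- (T2) a Hall `τ₁(M)`-subgroup of a complement of `M_σ` acts semiprimely on `M_σ`. -/
def SemiprimeStmt (G : Type u) [Group G] [Finite G] : Prop :=
  ∀ M E T : Subgroup G, IsCoatom M → IsComplIn E (sigmaCore M) M → IsPiHallOf (tau1 M) T E →
    ∀ x ∈ T, x ≠ 1 →
      sigmaCore M ⊓ centralizer ({x} : Set G) = sigmaCore M ⊓ centralizer (T : Set G)

/-- (T4) = BG 12.14 (d): consequences of the configuration. -/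
def T4Stmt (G : Type u) [Group G] [Finite G] : Prop :=
  ∀ (M N : Subgroup G) (p : ℕ) [Fact p.Prime] (P : Sylow p G), Cfg M N p P →
    tau1 N ⊆ tau1 M ∪ alpha M ∧
    (∀ m ∈ M, ∃ a ∈ alphaCore M, ∃ d ∈ M ⊓ N, m = a * d) ∧
    alpha M = beta M ∧ alphaCore M ≠ ⊥

/-- all the external inputs of the proof of BG 13.9 -/
structure Hyps (G : Type u) [Group G] [Finite G] : Prop where
  hG : IsMinSimpleOddOrder G
  h28 : Stmt1428 G
  h31 : Stmt131p G
  hnil : NilStmt G
  hsp : SemiprimeStmt G
  h4 : T4Stmt G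

end Cfsg.Agent.Lib.Helper21.BG139
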