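import Cfsg.Agent.Lib.Helper21.BG139B
import Cfsg.Agent.Lib.Helper21.BG139Hyp
import Cfsg.Agent.Lib.Helper63.BG13b
import Cfsg.Agent.S1427

set_option autoImplicit false
set_option linter.unusedSectionVars false
set_option linter.style.haveILetI false

/-!
# Bender–Glauberman Theorem 13.9: `T` is a cyclic Hall subgroup of `M` and `C_P(T) = 1`
-/

namespace Cfsg.Agent.Lib.Helper21.BG139

open Subgroup Cfsg Cfsg.Agent.Lib.Helper33 Cfsg.Agent.Lib.Helper24
open scoped commutatorElement

universe u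

variable {G : Type u} [Group G] [Finite G]
variable {M N : Subgroup G} {p : ℕ} [Fact p.Prime] {P : Sylow p G}

theorem Cfg.alpha_subset_sigma (hG : IsMinSimpleOddOrder G) (c : Cfg M N p P) {q : ℕ}
    (hq : q ∈ alpha M) : q ∈ sigma M := by
  have h5 := Cfsg.Agent.S1405.result hG M c.hM
  exact Cfsg.Agent.Lib.Helper76.BGSigU.alpha_subset_sigma (c.sigmaHall hG) h5.1 h5.2.2.1 hq

/-- every `r`-subgroup of `N_G(P)` with `r ∉ τ₁(M)`, `r ≠ p`, centralizes `P` -/
theorem Cfg.le_centralizer_of_not_tau1 (hG : IsMinSimpleOddOrder G) (h31 : Stmt131p G)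
    (c : Cfg M N p P) (h4 : tau1 N ⊆ tau1 M ∪ alpha M) {r : ℕ} [hr : Fact r.Prime] (hrp : r ≠ p)
    (hrτ : r ∉ tau1 M) {R : Subgroup G} (hR : IsPGroup r R)
    (hRD : R ≤ normalizer ((P : Subgroup G) : Set G)) :
    R ≤ centralizer ((P : Subgroup G) : Set G) := by
  have hp : p.Prime := Fact.out
  have hσ := Cfsg.Agent.Lib.Helper47.BG11.sigmaHallIn_of_coatom hG c.hM
  by_cases hrσ : r ∈ sigma M
  · have hRσ : R ≤ sigmaCore M :=
      Cfsg.Agent.Lib.Helper47.BG11.le_sigmaCore_of_sigma hσ hrσ (hRD.trans c.normalizer_le_left) hR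
    have hnpc : HasNormalPComplement p ↥(sigmaCore M) :=
      ((Cfsg.Agent.S1414.result hG M c.hM).2.2.2.2 p hp c.hpM.2.1 (c.not_beta hG)).2.1
    have hpR : ¬ p ∣ Nat.card R := by
      obtain ⟨k, hk⟩ := hR.exists_card_eq
      rw [hk]
      intro h
      exact hrp ((Nat.prime_dvd_prime_iff_eq hp hr.out).mp (hp.dvd_of_dvd_pow h)).symm
    have h1 := Cfsg.Agent.Lib.Helper32.BG12.commutator_eq_bot_of_npc hnpc hRσ hpR
      (c.le_sigmaCore hG) c.isPGroup hRD
    have h2 : (P : Subgroup G) ≤ centralizer (R : Set G) :=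
      Subgroup.commutator_eq_bot_iff_le_centralizer.mp h1
    exact Subgroup.le_centralizer_iff.mp h2
  · have hrN : r ∉ tau1 N := by
      intro h
      rcases h4 h with h | h
      · exact hrτ h
      · exact hrσ (c.alpha_subset_sigma hG h)
    by_cases hR1 : R = ⊥
    · rw [hR1]; exact bot_le
    -- `M` has `r`-rank one
    have hr1 : PRankLE r 1 ↥M := by
      by_contra h1
      have h2 : PRankLE r 2 ↥M := by
        by_contra h2
        exact hrσ (c.alpha_subset_sigma hG ⟨hr.out, h2⟩)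
      have h3 : r ∈ tau2 M := ⟨hr.out, hrσ, h2, h1⟩
      rw [c.tau2_empty hG] at h3
      exact h3
    obtain ⟨k, hk⟩ := hR.exists_card_eq
    have hRcop : (Nat.card R).Coprime (Nat.card (sigmaCore M)) := by
      rw [hk]
      apply Nat.Coprime.pow_left
      rw [Nat.Prime.coprime_iff_not_dvd hr.out]
      intro h
      exact hrσ (hσ.2.1 r hr.out h)
    obtain ⟨E, hE, hED, hRE⟩ := c.exists_compl hG hRD hRcop
    -- a Sylow `r`-subgroup `S` of `E` containing `R`
    have hRE' : IsPGroup r ↥(R.subgroupOf E) := hR.comap_subtype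
    obtain ⟨S, hS⟩ := hRE'.exists_le_sylow
    have hRS : R ≤ (S : Subgroup E).map E.subtype := by
      intro y hy
      exact ⟨⟨y, hRE hy⟩, hS (Subgroup.mem_subgroupOf.mpr hy), rfl⟩
    obtain ⟨hSE, hSr, -⟩ := sylow_map_facts E S
    have hkpos : k ≠ 0 := by
      intro h0
      rw [h0, pow_zero] at hk
      exact hR1 (Subgroup.card_eq_one.mp hk)
    have hdvdR : r ∣ Nat.card R := by
      rw [hk]; exact dvd_pow_self r hkpos
    have hr2 : r ≠ 2 := Cfsg.Agent.Lib.Helper63.BG13.ne_two_of_dvd_card hG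
      (hdvdR.trans (Subgroup.card_subgroup_dvd_card R))
    have hScyc' : IsCyclic ↥((S : Subgroup E).map E.subtype) :=
      Cfsg.Agent.Lib.Helper63.BG13.isCyclic_of_le_of_pRankLE_one hr2 hSr (hSE.trans hE.1) hr1
    have hScyc : IsCyclic ↥(S : Subgroup E) := by
      haveI := hScyc'
      exact isCyclic_of_surjective
        ((S : Subgroup E).equivMapOfInjective E.subtype E.subtype_injective).symm.toMonoidHom
        ((S : Subgroup E).equivMapOfInjective E.subtype E.subtype_injective).symm.surjective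
    -- an element of order `r` of `R`
    obtain ⟨y, hy⟩ := exists_prime_orderOf_dvd_card' r hdvdR
    have hyo : orderOf (y : G) = r := by rw [Subgroup.orderOf_coe]; exact hy
    have hy1 : (y : G) ≠ 1 := by
      intro h
      rw [h, orderOf_one] at hyo
      exact hr.out.one_lt.ne hyo
    have hS1 : (S : Subgroup E) ≠ ⊥ := by
      intro h
      obtain ⟨z, hz, hzy⟩ := hRS y.2
      have hz' : z ∈ (S : Subgroup E) := hz
      rw [h, Subgroup.mem_bot] at hz'
      rw [hz'] at hzy
      exact hy1 (by simpa using hzy.symm)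
    have hT0c : Nat.card (zpowers (y : G)) = r := by rw [Nat.card_zpowers, hyo]
    have hT0D : zpowers (y : G) ≤ normalizer ((P : Subgroup G) : Set G) := by
      rw [Subgroup.zpowers_le]; exact hRD y.2
    have hPc : (P : Subgroup G) ≤ centralizer ((zpowers (y : G) : Subgroup G) : Set G) :=
      h31 M N c.hM c.hN c.hnc r hr.out hrσ hrN (zpowers (y : G)) (P : Subgroup G) hT0c
        (hT0D.trans c.normalizer_le_right) c.hPN (c.le_sigmaCore hG) hT0D
    have h27 := Cfsg.Agent.S1427.result hG M c.hM E hE r S hS1 hScyc (y : G) (hRS y.2) hy1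
    have hP2 : (P : Subgroup G) ≤
        centralizer ((((S : Subgroup E).map E.subtype : Subgroup G)) : Set G) := by
      intro z hz
      have h1 : z ∈ sigmaCore M ⊓ centralizer ({(y : G)} : Set G) := by
        refine ⟨c.le_sigmaCore hG hz, ?_⟩
        show z ∈ centralizer ({(y : G)} : Set G)
        rw [Subgroup.mem_centralizer_iff]
        intro w hw
        rw [Set.mem_singleton_iff] at hw
        subst hw
        exact (Subgroup.mem_centralizer_iff.mp (hPc hz)) _ (Subgroup.mem_zpowers _)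
      rw [h27] at h1
      exact h1.2
    exact hRS.trans (Subgroup.le_centralizer_iff.mp hP2)

/-- **T6.** A Hall `τ₁(M)`-subgroup `T` of `M ∩ N = N_G(P)` is a cyclic Hall subgroup of `M`,
`C_P(T) = 1`, and `T` lies in a complement of `M_σ` in `M` contained in `M ∩ N`. -/
theorem Cfg.hallT_of (hG : IsMinSimpleOddOrder G) (h31 : Stmt131p G) (c : Cfg M N p P)
    (hD : M ⊓ N = normalizer ((P : Subgroup G) : Set G)) (h4 : tau1 N ⊆ tau1 M ∪ alpha M)
    {T : Subgroup G} (hT : IsPiHallOf (tau1 M) T (M ⊓ N)) :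
    IsPiHallOf (tau1 M) T M ∧ IsCyclic T ∧
      (P : Subgroup G) ⊓ centralizer (T : Set G) = ⊥ ∧
      ∃ E : Subgroup G, IsComplIn E (sigmaCore M) M ∧ E ≤ M ⊓ N ∧ T ≤ E := by
  have hp : p.Prime := Fact.out
  rw [hD] at hT ⊢
  obtain ⟨hTD, hTπ, hTi⟩ := hT
  have hσ := Cfsg.Agent.Lib.Helper47.BG11.sigmaHallIn_of_coatom hG c.hM
  have hTcop : (Nat.card T).Coprime (Nat.card (sigmaCore M)) := by
    apply Nat.coprime_of_dvd
    intro k hk hkT hkσ
    exact (hTπ k hk hkT).2.1 (hσ.2.1 k hk hkσ)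
  obtain ⟨E, hE, hED, hTE⟩ := c.exists_compl hG hTD hTcop
  have hTE_idx : ∀ q : ℕ, q.Prime → q ∈ tau1 M → ¬ q ∣ T.relIndex E := by
    intro q hq hqτ h
    apply hTi q hq hqτ
    rw [← Subgroup.relIndex_mul_relIndex T E _ hTE hED]
    exact dvd_mul_of_dvd_left h _
  have hTHallE : IsPiHallOf (tau1 M) T E := ⟨hTE, hTπ, hTE_idx⟩
  have hcyc : IsCyclic T := (Cfsg.Agent.S1415.result hG M c.hM E hE).2.1 T hTHallE
  have hTHallM : IsPiHallOf (tau1 M) T M := by
    refine ⟨hTE.trans hE.1, hTπ, ?_⟩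
    intro q hq hqτ
    haveI : Fact q.Prime := ⟨hq⟩
    exact Cfsg.Agent.Lib.Helper23.Bad.not_dvd_relIndex_of_compl (c.sigmaHall hG) hE hqτ.2.1 hTE
      (hTE_idx q hq hqτ)
  refine ⟨hTHallM, hcyc, ?_, E, hE, hED, hTE⟩
  -- `C_P(T) = 1`
  set D := normalizer ((P : Subgroup G) : Set G) with hDdef
  have hPD : (P : Subgroup G) ≤ D := Subgroup.le_normalizer
  have hPtop : (P : Subgroup G) ≠ ⊤ := fun h => c.ne_top (top_le_iff.mp (h ▸ c.hPM))
  have hPsolv : Group.IsSolvable ↥(P : Subgroup G) :=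
    Cfsg.Agent.Lib.Helper23.isSolvable_of_ne_top hG hPtop
  obtain ⟨n, hn⟩ := c.isPGroup.exists_card_eq
  have hpidx : ¬ p ∣ (P : Subgroup G).relIndex D := fun h =>
    c.not_dvd_index (h.trans (Subgroup.relIndex_dvd_index_of_le hPD))
  have hcopP : (Nat.card (P : Subgroup G)).Coprime ((P : Subgroup G).relIndex D) := by
    rw [hn]
    apply Nat.Coprime.pow_left
    exact (Nat.Prime.coprime_iff_not_dvd hp).mpr hpidx
  have hTP : (Nat.card T).Coprime (Nat.card (P : Subgroup G)) :=
    Nat.Coprime.coprime_dvd_right (Subgroup.card_dvd_of_le (c.le_sigmaCore hG)) hTcop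
  obtain ⟨V, hV, hTV⟩ := exists_compl_ge_of_coprime (N := (P : Subgroup G)) (D := D) (T := T)
    hPD le_rfl hcopP (Or.inl hPsolv) hTD hTP
  have h11 := (Cfsg.Agent.S1411.result hG p P V (isComplIn_symm hV)).1
  have hpV : ¬ p ∣ Nat.card V := by
    have h1 := Cfsg.Agent.Lib.Helper23.card_isComplIn hV
    have h2 := Subgroup.relIndex_mul_relIndex (⊥ : Subgroup G) (P : Subgroup G) D bot_le hPD
    rw [Subgroup.relIndex_bot_left, Subgroup.relIndex_bot_left] at h2
    have h3 : Nat.card V = (P : Subgroup G).relIndex D := by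
      have hpos : 0 < Nat.card (P : Subgroup G) := Nat.card_pos
      have : Nat.card (P : Subgroup G) * Nat.card V =
          Nat.card (P : Subgroup G) * (P : Subgroup G).relIndex D := by
        rw [h2, ← h1, mul_comm]
      exact Nat.eq_of_mul_eq_mul_left hpos this
    rw [h3]
    exact hpidx
  set C := centralizer ((P : Subgroup G) : Set G) with hC
  have hVCT : V ≤ C ⊔ T := by
    rw [← Subgroup.relIndex_eq_one]
    by_contra hne
    obtain ⟨r, hr, hrd⟩ := Nat.exists_prime_and_dvd hne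
    haveI : Fact r.Prime := ⟨hr⟩
    by_cases hrτ : r ∈ tau1 M
    · have h1 : (C ⊔ T).relIndex V ∣ T.relIndex V :=
        Subgroup.relIndex_dvd_of_le_left V le_sup_right
      have h2 : T.relIndex V ∣ T.relIndex D := by
        rw [← Subgroup.relIndex_mul_relIndex T V D hTV hV.1]
        exact dvd_mul_right _ _
      exact hTi r hr hrτ (hrd.trans (h1.trans h2))
    · by_cases hrp : r = p
      · rw [hrp] at hrd
        exact hpV (hrd.trans (Subgroup.relIndex_dvd_card _ _))
      · obtain ⟨R⟩ : Nonempty (Sylow r V) := inferInstance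
        obtain ⟨hRV, hRr, hRi⟩ := sylow_map_facts V R
        have hRC : (R : Subgroup V).map V.subtype ≤ C :=
          c.le_centralizer_of_not_tau1 hG h31 h4 hrp hrτ hRr (hRV.trans hV.1)
        have h1 : (C ⊔ T).relIndex V ∣ ((R : Subgroup V).map V.subtype).relIndex V :=
          Subgroup.relIndex_dvd_of_le_left V (hRC.trans le_sup_left)
        exact hRi (hrd.trans h1)
  have hTC : T ≤ normalizer ((C : Subgroup G) : Set G) :=
    Cfsg.Agent.Lib.Helper23.le_normalizer_centralizer' hTD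
  have hPT : ⁅(P : Subgroup G), V⁆ ≤ ⁅(P : Subgroup G), T⁆ := by
    rw [Subgroup.commutator_le]
    intro x hx v hv
    obtain ⟨t, ht, c', hc', rfl⟩ := exists_mul_of_mem_sup_of_le_normalizer T C hTC v
      (by rw [sup_comm]; exact hVCT hv)
    have hcx : c' * x⁻¹ = x⁻¹ * c' :=
      ((Subgroup.mem_centralizer_iff.mp hc') x⁻¹ (inv_mem hx)).symm
    have : ⁅x, t * c'⁆ = ⁅x, t⁆ := by
      rw [commutatorElement_def, commutatorElement_def]
      calc x * (t * c') * x⁻¹ * (t * c')⁻¹ = x * t * (c' * x⁻¹) * c'⁻¹ * t⁻¹ := by group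
        _ = x * t * (x⁻¹ * c') * c'⁻¹ * t⁻¹ := by rw [hcx]
        _ = x * t * x⁻¹ * t⁻¹ := by group
    rw [this]
    exact Subgroup.commutator_mem_commutator hx ht
  have hPTeq : ⁅(P : Subgroup G), T⁆ = (P : Subgroup G) := by
    apply le_antisymm
    · rw [Subgroup.commutator_le]
      intro x hx t ht
      have h1 : t * x⁻¹ * t⁻¹ ∈ (P : Subgroup G) :=
        (mem_normalizer_iff.mp (hTD ht) x⁻¹).mp (inv_mem hx)
      have : ⁅x, t⁆ = x * (t * x⁻¹ * t⁻¹) := by rw [commutatorElement_def]; group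
      rw [this]
      exact mul_mem hx h1
    · exact h11.le.trans hPT
  haveI : IsMulCommutative ↥(P : Subgroup G) :=
    ⟨⟨fun a b => Subtype.ext (c.abelian hG a a.2 b b.2)⟩⟩
  have hbot := commutator_inf_centralizer_eq_bot_of_abelian (P : Subgroup G) T hTD hTP
  rw [hPTeq] at hbot
  exact hbot

end Cfsg.Agent.Lib.Helper21.BG139
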