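import Cfsg.Agent.Lib.Helper21.BG139C
import Cfsg.Agent.Lib.Helper21.BG139Hyp
import Cfsg.Agent.Lib.Helper21.HallSub

set_option autoImplicit false
set_option linter.unusedSectionVars false
set_option linter.style.haveILetI false

/-!
# Bender–Glauberman Theorem 13.9: semiprime action of `T`, the Frobenius group `P T`, `τ₁(M) = τ₁(N)`
-/

namespace Cfsg.Agent.Lib.Helper21.BG139

open Subgroup Cfsg Cfsg.Agent.Lib.Helper33 Cfsg.Agent.Lib.Helper24

universe u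

variable {G : Type u} [Group G] [Finite G]
variable {M N : Subgroup G} {p : ℕ} [Fact p.Prime] {P : Sylow p G}

/-- (T3) `M ∩ N = N_G(P)` -/
theorem Cfg.inf_eq (H : Hyps G) (c : Cfg M N p P) :
    M ⊓ N = normalizer ((P : Subgroup G) : Set G) :=
  c.inf_eq_of_nil H.hG (H.hnil M N c.hM c.hN c.hnc)

theorem Cfg.tau1_subset (H : Hyps G) (c : Cfg M N p P) : tau1 N ⊆ tau1 M ∪ alpha M :=
  (H.h4 M N p P c).1

theorem Cfg.mul_eq (H : Hyps G) (c : Cfg M N p P) :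
    ∀ m ∈ M, ∃ a ∈ alphaCore M, ∃ d ∈ M ⊓ N, m = a * d :=
  (H.h4 M N p P c).2.1

theorem Cfg.alpha_eq_beta (H : Hyps G) (c : Cfg M N p P) : alpha M = beta M :=
  (H.h4 M N p P c).2.2.1

theorem Cfg.alphaCore_ne_bot (H : Hyps G) (c : Cfg M N p P) : alphaCore M ≠ ⊥ :=
  (H.h4 M N p P c).2.2.2

/-- (T6) -/
theorem Cfg.hallT (H : Hyps G) (c : Cfg M N p P) {T : Subgroup G}
    (hT : IsPiHallOf (tau1 M) T (M ⊓ N)) :
    IsPiHallOf (tau1 M) T M ∧ IsCyclic T ∧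
      (P : Subgroup G) ⊓ centralizer (T : Set G) = ⊥ ∧
      ∃ E : Subgroup G, IsComplIn E (sigmaCore M) M ∧ E ≤ M ⊓ N ∧ T ≤ E :=
  c.hallT_of H.hG H.h31 (c.inf_eq H) (c.tau1_subset H) hT

theorem Cfg.solvable_inf (H : Hyps G) (c : Cfg M N p P) : Group.IsSolvable ↥(M ⊓ N) := by
  apply Cfsg.Agent.Lib.Helper23.isSolvable_of_ne_top H.hG
  intro h
  exact c.ne_top (top_le_iff.mp (h ▸ inf_le_left))

/-- Hall `τ₁(M)`-subgroups of `M ∩ N` exist. -/
theorem Cfg.exists_T (H : Hyps G) (c : Cfg M N p P) :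
    ∃ T : Subgroup G, IsPiHallOf (tau1 M) T (M ⊓ N) :=
  exists_isPiHallOf (tau1 M) (M ⊓ N) (c.solvable_inf H)

/-- a Hall `τ₁(M)`-subgroup of `M ∩ N` inside `E ≤ M ∩ N` is a Hall subgroup of `E` -/
theorem isPiHallOf_of_le {π : Set ℕ} {T E D : Subgroup G} (hT : IsPiHallOf π T D) (hTE : T ≤ E)
    (hED : E ≤ D) : IsPiHallOf π T E := by
  refine ⟨hTE, hT.2.1, ?_⟩
  intro q hq hqπ h
  apply hT.2.2 q hq hqπ
  rw [← Subgroup.relIndex_mul_relIndex T E D hTE hED]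
  exact dvd_mul_of_dvd_left h _

/-- (T7) semiprime action of `T` on `M_σ` -/
theorem Cfg.semiprime (H : Hyps G) (c : Cfg M N p P) {T : Subgroup G}
    (hT : IsPiHallOf (tau1 M) T (M ⊓ N)) :
    ∀ x ∈ T, x ≠ 1 →
      sigmaCore M ⊓ centralizer ({x} : Set G) = sigmaCore M ⊓ centralizer (T : Set G) := by
  obtain ⟨-, -, -, E, hE, hED, hTE⟩ := c.hallT H hT
  exact H.hsp M E T c.hM hE (isPiHallOf_of_le hT hTE hED)

/-- (T7) `P T` is a Frobenius group -/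
theorem Cfg.fpf (H : Hyps G) (c : Cfg M N p P) {T : Subgroup G}
    (hT : IsPiHallOf (tau1 M) T (M ⊓ N)) :
    ∀ x ∈ T, x ≠ 1 → (P : Subgroup G) ⊓ centralizer ({x} : Set G) = ⊥ := by
  intro x hx hx1
  have h1 := c.semiprime H hT x hx hx1
  have h2 := (c.hallT H hT).2.2.1
  rw [eq_bot_iff]
  intro y hy
  have h3 : y ∈ sigmaCore M ⊓ centralizer ({x} : Set G) := ⟨c.le_sigmaCore H.hG hy.1, hy.2⟩
  rw [h1] at h3
  rw [← h2]
  exact ⟨hy.1, h3.2⟩

theorem Cfg.P_ne_bot (c : Cfg M N p P) : (P : Subgroup G) ≠ ⊥ := by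
  intro h
  have h1 : p ∣ Nat.card G := c.hpM.2.1.trans (Subgroup.card_subgroup_dvd_card M)
  have h2 := Subgroup.card_mul_index (P : Subgroup G)
  have h3 := c.not_dvd_index
  rw [h, Subgroup.card_bot, one_mul] at h2
  rw [h, h2] at h3
  exact h3 h1

/-- (T7) `τ₁(M) ⊆ τ₁(N)` -/
theorem Cfg.tau1_le (H : Hyps G) (c : Cfg M N p P) : tau1 M ⊆ tau1 N := by
  intro t ht
  by_contra htN
  obtain ⟨T, hT⟩ := c.exists_T H
  obtain ⟨hTM, -, -, -⟩ := c.hallT H hT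
  have htT : t ∣ Nat.card T := by
    have h0 := hTM.2.2 t ht.1 ht
    have h1 := Subgroup.relIndex_mul_relIndex (⊥ : Subgroup G) T M bot_le hTM.1
    rw [Subgroup.relIndex_bot_left, Subgroup.relIndex_bot_left] at h1
    have h2 : t ∣ Nat.card T * T.relIndex M := h1 ▸ ht.2.2.1
    exact ((Nat.Prime.dvd_mul ht.1).mp h2).resolve_right h0
  haveI : Fact t.Prime := ⟨ht.1⟩
  obtain ⟨x, hx⟩ := exists_prime_orderOf_dvd_card' t htT
  have hx1 : (x : G) ≠ 1 := by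
    intro h
    have : x = 1 := Subtype.ext h
    rw [this, orderOf_one] at hx
    exact ht.1.one_lt.ne hx
  have hoG : orderOf (x : G) = t := by rw [Subgroup.orderOf_coe]; exact hx
  have hXD : zpowers (x : G) ≤ M ⊓ N := by
    rw [Subgroup.zpowers_le]
    exact hT.1 x.2
  have hXc : Nat.card (zpowers (x : G)) = t := by rw [Nat.card_zpowers, hoG]
  have hP : (P : Subgroup G) ≤ centralizer ((zpowers (x : G) : Subgroup G) : Set G) :=
    H.h31 M N c.hM c.hN c.hnc t ht.1 ht.2.1 htN (zpowers (x : G)) (P : Subgroup G) hXc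
      (hXD.trans inf_le_right) c.hPN (c.le_sigmaCore H.hG)
      (by rw [← c.inf_eq H]; exact hXD)
  have hP' : (P : Subgroup G) ≤ (P : Subgroup G) ⊓ centralizer ({(x : G)} : Set G) := by
    refine le_inf le_rfl ?_
    intro y hy
    rw [Subgroup.mem_centralizer_iff]
    intro z hz
    rw [Set.mem_singleton_iff] at hz
    subst hz
    exact (Subgroup.mem_centralizer_iff.mp (hP hy)) _ (Subgroup.mem_zpowers _)
  rw [c.fpf H hT x x.2 hx1] at hP'
  exact c.P_ne_bot (le_bot_iff.mp hP')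

/-- (T7) `τ₁(M) = τ₁(N)` -/
theorem Cfg.tau1_eq (H : Hyps G) (c : Cfg M N p P) : tau1 M = tau1 N :=
  Set.Subset.antisymm (c.tau1_le H) (c.symm.tau1_le H)

end Cfsg.Agent.Lib.Helper21.BG139
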