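import Cfsg.Agent.Lib.Helper21.HallSub
import Cfsg.Agent.Lib.Helper10.FFSL2
import Cfsg.Agent.Lib.Helper33.KInf
import Cfsg.Agent.Lib.Helper24.Coprime
import Cfsg.Agent.Lib.Helper24.CoprimeAbelian
import Cfsg.Agent.Lib.Helper23.FitUniqueB
import Cfsg.Agent.Lib.Helper23.TypeP
import Cfsg.Agent.Lib.Helper76.BGSigU
import Cfsg.Agent.Lib.Helper47.BG11e
import Cfsg.Agent.S1350
import Cfsg.Agent.S1405
import Cfsg.Agent.S1415

set_option autoImplicit false
set_option linter.unusedSectionVars false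
set_option linter.style.haveILetI false

/-!
# Complements of `M_σ` when `τ₂(M) = ∅`: `E = E₃ ⋊ T` and `C_{E₃}(T) = 1`

`e3fix`: if `τ₂(M) = ∅`, `E` is a complement of `M_σ` in `M` and `T` is a Hall `τ₁(M)`-subgroup of
`E`, then no element of `E` of prime order outside `τ₁(M)` centralizes `T`.
-/

namespace Cfsg.Agent.Lib.Helper21.BG139

open Subgroup Cfsg Cfsg.Agent.Lib.Helper24

universe u

variable {G : Type u} [Group G] [Finite G]

/-- the primes of a complement of `M_σ` lie in `τ₁(M) ∪ τ₃(M)` when `τ₂(M) = ∅` -/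
theorem mem_tau1_or_tau3 (hG : IsMinSimpleOddOrder G) {M E : Subgroup G} (hM : IsCoatom M)
    (hτ2 : tau2 M = ∅) (hE : IsComplIn E (sigmaCore M) M) {q : ℕ} (hq : q.Prime)
    (hqE : q ∣ Nat.card E) : q ∈ tau1 M ∨ q ∈ tau3 M := by
  have hσ := (Cfsg.Agent.S1350.result hG M hM).1
  have h5 := Cfsg.Agent.S1405.result hG M hM
  have hqM : q ∣ Nat.card M := hqE.trans (Subgroup.card_dvd_of_le hE.1)
  have hqσ : q ∉ sigma M := by
    intro h
    apply hσ.2.2 q hq h
    have h1 := Cfsg.Agent.Lib.Helper23.card_isComplIn hE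
    have h2 := Subgroup.relIndex_mul_relIndex (⊥ : Subgroup G) (sigmaCore M) M bot_le hσ.1
    rw [Subgroup.relIndex_bot_left, Subgroup.relIndex_bot_left] at h2
    have h3 : (sigmaCore M).relIndex M = Nat.card E := by
      have hpos : 0 < Nat.card (sigmaCore M) := Nat.card_pos
      have : Nat.card (sigmaCore M) * (sigmaCore M).relIndex M =
          Nat.card (sigmaCore M) * Nat.card E := by rw [h2, ← h1, mul_comm]
      exact Nat.eq_of_mul_eq_mul_left hpos this
    rw [h3]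
    exact hqE
  have hr1 : PRankLE q 1 ↥M := by
    by_contra h1
    have h2 : PRankLE q 2 ↥M := by
      by_contra h2
      exact hqσ (Cfsg.Agent.Lib.Helper76.BGSigU.alpha_subset_sigma hσ h5.1 h5.2.2.1 ⟨hq, h2⟩)
    have h3 : q ∈ tau2 M := ⟨hq, hqσ, h2, h1⟩
    rw [hτ2] at h3
    exact h3
  by_cases hd : q ∣ Nat.card ↥⁅M, M⁆
  · exact Or.inr ⟨hq, hqσ, hd, hr1⟩
  · exact Or.inl ⟨hq, hqσ, hqM, hd, hr1⟩

/-- If `τ₂(M) = ∅`, no element of prime order `s ∉ τ₁(M)` of a complement `E` of `M_σ` centralizes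
a Hall `τ₁(M)`-subgroup `T` of `E`. -/
theorem e3fix (hG : IsMinSimpleOddOrder G) {M E T : Subgroup G} (hM : IsCoatom M)
    (hτ2 : tau2 M = ∅) (hE : IsComplIn E (sigmaCore M) M) (hT : IsPiHallOf (tau1 M) T E) {c : G}
    (hcE : c ∈ E) (hcT : ∀ t ∈ T, t * c = c * t) {s : ℕ} (hs : s.Prime) (hco : orderOf c = s)
    (hsτ : s ∉ tau1 M) : False := by
  have hEtop : E ≠ ⊤ := fun h => hM.1 (top_le_iff.mp (h ▸ hE.1))
  have hsolv : Group.IsSolvable ↥E := Cfsg.Agent.Lib.Helper23.isSolvable_of_ne_top hG hEtop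
  have hcard : Nat.card (zpowers c) = s := by rw [Nat.card_zpowers, hco]
  have hcE' : zpowers c ≤ E := by rw [Subgroup.zpowers_le]; exact hcE
  have hsE : s ∣ Nat.card E := hcard ▸ Subgroup.card_dvd_of_le hcE'
  have hs3 : s ∈ tau3 M := (mem_tau1_or_tau3 hG hM hτ2 hE hs hsE).resolve_left hsτ
  obtain ⟨E3, hE3, hcE3⟩ := Cfsg.Agent.Lib.Helper21.exists_isPiHallOf_ge (tau3 M) E hsolv (zpowers c)
    hcE' (by
      intro q hq hqd
      rw [hcard] at hqd
      rw [(Nat.prime_dvd_prime_iff_eq hq hs).mp hqd]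
      exact hs3)
  have h15 := Cfsg.Agent.S1415.result hG M hM E hE
  obtain ⟨hE3cyc, hE3der, hE3n⟩ := h15.2.2 E3 hE3
  have hTcyc : IsCyclic T := h15.2.1 T hT
  -- `E = E₃ T`
  have hEsup : E ≤ E3 ⊔ T := by
    rw [← Subgroup.relIndex_eq_one]
    by_contra hne
    obtain ⟨q, hq, hqd⟩ := Nat.exists_prime_and_dvd hne
    have hqE : q ∣ Nat.card E := hqd.trans (Subgroup.relIndex_dvd_card _ _)
    rcases mem_tau1_or_tau3 hG hM hτ2 hE hq hqE with h | h
    · exact hT.2.2 q hq h (hqd.trans (Subgroup.relIndex_dvd_of_le_left E le_sup_right))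
    · exact hE3.2.2 q hq h (hqd.trans (Subgroup.relIndex_dvd_of_le_left E le_sup_left))
  have hcop : (Nat.card T).Coprime (Nat.card E3) := by
    apply Nat.coprime_of_dvd
    intro k hk hkT hk3
    exact (hT.2.1 k hk hkT).2.2.2.1 (hE3.2.1 k hk hk3).2.2.1
  have hTE3 : T ≤ normalizer (E3 : Set G) := hT.1.trans hE3n
  haveI : IsMulCommutative ↥E3 := by
    haveI := hE3cyc
    exact IsCyclic.isMulCommutative
  have hE3c : E3 ≤ centralizer (E3 : Set G) := by
    intro a ha
    rw [Subgroup.mem_centralizer_iff]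
    intro b hb
    have := mul_comm' (⟨b, hb⟩ : E3) ⟨a, ha⟩
    exact congrArg Subtype.val this
  set W := ⁅E3, T⁆ with hW
  set C1 := E3 ⊓ centralizer (T : Set G) with hC1
  have hsplit : W ⊔ C1 = E3 :=
    commutator_sup_centralizer_eq T E3 hTE3 hcop (Or.inr (by
      apply Cfsg.Agent.Lib.Helper23.isSolvable_of_ne_top hG
      exact fun h => hEtop (top_le_iff.mp (h ▸ hE3.1))))
  have hWE3 : W ≤ E3 := commutator_le_of_le_normalizer E3 T hTE3
  have hbig : E ≤ (W ⊔ T) ⊔ C1 := by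
    refine hEsup.trans (sup_le ?_ (le_sup_right.trans le_sup_left))
    rw [← hsplit]
    exact sup_le (le_sup_left.trans le_sup_left) le_sup_right
  have hTcomm : ∀ a ∈ T, ∀ b ∈ T, a * b = b * a := by
    intro a ha b hb
    haveI := hTcyc
    have := (IsCyclic.isMulCommutative (α := T)).is_comm.comm ⟨a, ha⟩ ⟨b, hb⟩
    exact congrArg Subtype.val this
  have hC1E3 : C1 ≤ E3 := inf_le_left
  have hXC : C1 ≤ centralizer ((W ⊔ T : Subgroup G) : Set G) := by
    rw [Subgroup.le_centralizer_iff]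
    refine sup_le ?_ ?_
    · exact hWE3.trans (hE3c.trans (Subgroup.centralizer_le hC1E3))
    · intro t ht
      rw [Subgroup.mem_centralizer_iff]
      intro y hy
      exact ((Subgroup.mem_centralizer_iff.mp hy.2) t ht).symm
  have hXX : C1 ≤ centralizer (C1 : Set G) :=
    hC1E3.trans (hE3c.trans (Subgroup.centralizer_le hC1E3))
  have hTW : T ≤ normalizer (W : Set G) := le_normalizer_commutator_right E3 T hTE3
  have hder : ⁅E, E⁆ ≤ W :=
    (Subgroup.commutator_mono hbig hbig).trans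
      ((Cfsg.Agent.Lib.Helper33.ext_comm_le hXC hXX).trans
        (Cfsg.Agent.Lib.Helper10.commutator_sup_self_le hTW hTcomm))
  have hbot := commutator_inf_centralizer_eq_bot_of_abelian E3 T hTE3 hcop
  have hc3 : c ∈ E3 := hcE3 (Subgroup.mem_zpowers c)
  have hcW : c ∈ W := hder (hE3der hc3)
  have hcC : c ∈ centralizer (T : Set G) := by
    rw [Subgroup.mem_centralizer_iff]
    exact hcT
  have hc1 : c ∈ (⊥ : Subgroup G) := by
    rw [← hbot]
    exact ⟨hcW, hcC⟩
  rw [Subgroup.mem_bot] at hc1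
  rw [hc1, orderOf_one] at hco
  exact hs.one_lt.ne hco

end Cfsg.Agent.Lib.Helper21.BG139
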