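import Mathlib
import Cfsg.Agent.Lib.Helper91.BG152Defs

/-!
# BG 15.2 hive (helper91): leaves B0a `card_eq` and B0 `Q_le_H` (helper21)
(`Lib/Helper81/BG152B0.lean` imports this file and uses these names)
-/

set_option autoImplicit false
set_option linter.unusedSectionVars false

namespace Cfsg.Agent.Lib.Helper91.BG152

open Subgroup

universe u
variable {M : Type u} [Group M] [Finite M] {H K Q : Subgroup M} {q : ℕ}

/-- `|N L| = |N| |L|` for `N` normal with `N ⊓ L = ⊥`. -/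
theorem card_eq_card_sup {N L : Subgroup M} [N.Normal] (h : N ⊓ L = ⊥) :
    Nat.card ↥(N ⊔ L) = Nat.card N * Nat.card L := by
  have h1 := Subgroup.relIndex_mul_relIndex ⊥ N (N ⊔ L) bot_le le_sup_left
  rw [relIndex_bot_left, relIndex_bot_left, relIndex_sup_left, ← inf_relIndex_right, h,
    relIndex_bot_left] at h1
  exact h1.symm

/-- a `q`-subgroup lies in every normal subgroup of index prime to `q` -/
theorem Q_le_H_of_coprime_index {N P : Subgroup M} [N.Normal] (hP : IsPGroup q P)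
    (hcop : q.Coprime N.index) : P ≤ N := by
  intro x hx
  obtain ⟨k, hk⟩ := hP ⟨x, hx⟩
  have hk' : x ^ (q ^ k) = 1 := by
    have := congrArg Subtype.val hk
    simpa using this
  have h1 : ((x : M ⧸ N)) ^ (q ^ k) = 1 := by
    rw [← QuotientGroup.mk_pow, hk']
    rfl
  have h2 : ((x : M ⧸ N)) ^ N.index = 1 := by
    have : Nat.card (M ⧸ N) = N.index := rfl
    rw [← this]
    exact pow_card_eq_one'
  have h3 : ((x : M ⧸ N)) ^ Nat.gcd (q ^ k) N.index = 1 := pow_gcd_eq_one.mpr ⟨h1, h2⟩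
  have h4 : Nat.gcd (q ^ k) N.index = 1 := Nat.Coprime.pow_left k hcop
  rw [h4, pow_one] at h3
  exact (QuotientGroup.eq_one_iff x).mp h3

/-- B0a. `H ⊓ K = ⊥` and `|M| = |H| |K|` (coprime orders, `H ⊔ K = ⊤`, `H` normal). -/
theorem card_eq [H.Normal] (h : CfgB H K Q q) :
    H ⊓ K = ⊥ ∧ Nat.card M = Nat.card H * Nat.card K ∧ H.index = Nat.card K := by
  have hbot : H ⊓ K = ⊥ := (Subgroup.disjoint_of_coprime_natCard h.cop).eq_bot
  have h1 : Nat.card ↥(H ⊔ K) = Nat.card H * Nat.card K := card_eq_card_sup hbot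
  rw [h.sup, Subgroup.card_top] at h1
  refine ⟨hbot, h1, ?_⟩
  have h2 := Subgroup.card_mul_index H
  rw [h1] at h2
  exact Nat.eq_of_mul_eq_mul_left Nat.card_pos h2

/-- `q ∣ |H|` -/
theorem Q_le_H_dvd (h : CfgB H K Q q) : q ∣ Nat.card H := by
  have h1 : Nat.card ↥(H ⊓ centralizer (K : Set M)) ∣ Nat.card H :=
    Subgroup.card_dvd_of_le inf_le_left
  rwa [h.cKs] at h1

/-- `q` is prime to `|K|` -/
theorem Q_le_H_coprime (h : CfgB H K Q q) : q.Coprime (Nat.card K) :=
  Nat.Coprime.coprime_dvd_left (Q_le_H_dvd h) h.cop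

/-- B0. `Q ≤ H`: `q ∣ |H|` (as `|Ks| = q`), `H` is a normal Hall subgroup, `Q` is a `q`-group. -/
theorem Q_le_H [H.Normal] (h : CfgB H K Q q) : Q ≤ H := by
  apply Q_le_H_of_coprime_index h.pQ
  rw [(card_eq h).2.2]
  exact Q_le_H_coprime h

end Cfsg.Agent.Lib.Helper91.BG152
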