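import Mathlib
import Cfsg.Agent.Lib.Helper91.BG152Defs
import Cfsg.Agent.Lib.Helper21.BG152B0
import Cfsg.Agent.Lib.Helper19.HallRel

/-!
# BG 15.2 hive (helper91): leaf B4 `exists_inv_compl` (helper21), core version with the
Sylow property of `Q` (leaf B3b) as a hypothesis
-/

set_option autoImplicit false
set_option linter.unusedSectionVars false

namespace Cfsg.Agent.Lib.Helper91.BG152

open Subgroup

universe u
variable {M : Type u} [Group M] [Finite M] {H K Q : Subgroup M} {q : ℕ}

/-- B4, with B3b as a hypothesis. -/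
theorem exists_inv_compl_core [H.Normal] [Q.Normal] (h : CfgB H K Q q) (hQs : ¬ q ∣ Q.index) :
    ∃ D : Subgroup M, D ≤ H ∧ Q ⊓ D = ⊥ ∧ Q ⊔ D = H ∧ K ≤ normalizer (D : Set M) := by
  have : Group.IsSolvable M := h.solv
  have : Fact q.Prime := ⟨h.qp⟩
  obtain ⟨a, ha⟩ := IsPGroup.exists_card_eq h.pQ
  have hqm : q.Coprime Q.index := (Nat.Prime.coprime_iff_not_dvd h.qp).mpr hQs
  have hmn : (Q.index).Coprime (Nat.card Q) := by
    rw [ha]
    exact (Nat.Coprime.pow_left a hqm).symm
  have hKn : (Nat.card K).Coprime (Nat.card Q) := by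
    rw [ha]
    exact (Nat.Coprime.pow_left a (Q_le_H_coprime h)).symm
  have hX : Nat.card (⊤ : Subgroup M) = Q.index * Nat.card Q := by
    rw [Subgroup.card_top, mul_comm, Subgroup.card_mul_index]
  obtain ⟨L, -, hLcard, hKL⟩ := Cfsg.Agent.Lib.Helper19.HallRel.exists_hall_ge (S := M)
    (⊤ : Subgroup M) Q.index (Nat.card Q) hX hmn K le_top hKn
  have hQL : Q ⊓ L = ⊥ := by
    apply (Subgroup.disjoint_of_coprime_natCard _).eq_bot
    rw [hLcard]
    exact hmn.symm
  have hQLtop : Q ⊔ L = ⊤ := by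
    apply (Subgroup.card_eq_iff_eq_top _).mp
    rw [card_eq_card_sup hQL, hLcard, Subgroup.card_mul_index]
  have hQH : Q ≤ H := Q_le_H h
  refine ⟨L ⊓ H, inf_le_right, ?_, ?_, ?_⟩
  · apply le_antisymm _ bot_le
    rw [← hQL]
    exact le_inf inf_le_left (inf_le_right.trans inf_le_left)
  · apply le_antisymm
    · exact sup_le hQH inf_le_right
    · intro x hx
      have hx' : x ∈ ((Q ⊔ L : Subgroup M) : Set M) := by
        rw [hQLtop]
        exact Subgroup.mem_top x
      rw [Subgroup.normal_mul] at hx'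
      obtain ⟨u, hu, v, hv, huv⟩ := Set.mem_mul.mp hx'
      have hvH : v ∈ H := by
        have : v = u⁻¹ * x := by rw [← huv]; group
        rw [this]
        exact H.mul_mem (H.inv_mem (hQH hu)) hx
      rw [← huv]
      exact Subgroup.mul_mem_sup hu ⟨hv, hvH⟩
  · intro k hk
    rw [Subgroup.mem_normalizer_iff]
    intro x
    have hkL : k ∈ L := hKL hk
    constructor
    · rintro ⟨hxL, hxH⟩
      exact ⟨L.mul_mem (L.mul_mem hkL hxL) (L.inv_mem hkL),
        (inferInstance : H.Normal).conj_mem x hxH k⟩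
    · rintro ⟨hxL, hxH⟩
      have e : x = k⁻¹ * (k * x * k⁻¹) * k := by group
      constructor
      · rw [e]
        exact L.mul_mem (L.mul_mem (L.inv_mem hkL) hxL) hkL
      · rw [e]
        have := (inferInstance : H.Normal).conj_mem (k * x * k⁻¹) hxH k⁻¹
        simpa using this

end Cfsg.Agent.Lib.Helper91.BG152
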