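import Mathlib
import Cfsg.Agent.Lib.Helper91.BG152Defs
import Cfsg.Agent.Lib.Helper21.BG152B0

/-!
# BG 15.2 hive (helper91): leaf B4b `compl_props` (helper21), core version with the leaves
B1, B3, B3b as hypotheses
-/

set_option autoImplicit false
set_option linter.unusedSectionVars false

namespace Cfsg.Agent.Lib.Helper91.BG152

open Subgroup

universe u
variable {M : Type u} [Group M] [Finite M] {H K Q : Subgroup M} {q : ℕ}

/-- B4b, with B1, B3, B3b as hypotheses. -/
theorem compl_props_core [H.Normal] [Q.Normal] (h : CfgB H K Q q)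
    (hB1 : H ⊓ centralizer (K : Set M) ≤ Q)
    (hB3 : Group.IsNilpotent ↥(H.map (QuotientGroup.mk' Q)))
    (hQs : ¬ q ∣ Q.index)
    {D : Subgroup M} (hDH : D ≤ H) (hQD : Q ⊓ D = ⊥) (hsup : Q ⊔ D = H) :
    Group.IsNilpotent D ∧ D ≠ ⊥ ∧ (Nat.card D).Coprime q ∧
      ∀ k ∈ K, k ≠ 1 → D ⊓ centralizer ({k} : Set M) = ⊥ := by
  have : Fact q.Prime := ⟨h.qp⟩
  refine ⟨?_, ?_, ?_, ?_⟩
  · -- `D` embeds into `H / Q`
    let f : ↥D →* ↥(H.map (QuotientGroup.mk' Q)) :=
      { toFun := fun x => ⟨QuotientGroup.mk' Q (x : M), Subgroup.mem_map_of_mem _ (hDH x.2)⟩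
        map_one' := by
          apply Subtype.ext
          simp
        map_mul' := by
          intro x y
          apply Subtype.ext
          simp }
    have hker : f.ker = ⊥ := by
      rw [eq_bot_iff]
      intro x hx
      rw [MonoidHom.mem_ker] at hx
      have h1 : QuotientGroup.mk' Q (x : M) = 1 := congrArg Subtype.val hx
      have h2 : (x : M) ∈ Q := by
        rw [QuotientGroup.mk'_apply, QuotientGroup.eq_one_iff] at h1
        exact h1
      have h3 : (x : M) ∈ Q ⊓ D := ⟨h2, x.2⟩
      rw [hQD, Subgroup.mem_bot] at h3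
      rw [Subgroup.mem_bot]
      exact Subtype.ext h3
    exact Subgroup.isNilpotent_of_ker_le_center f (by rw [hker]; exact bot_le)
  · intro hD
    apply h.nn
    have hHQ : H = Q := by rw [← hsup, hD, sup_bot_eq]
    have hQn : Group.IsNilpotent ↥Q := IsPGroup.isNilpotent h.pQ
    rw [hHQ]
    exact hQn
  · have h1 : Nat.card H = Nat.card Q * Nat.card D := by
      rw [← card_eq_card_sup hQD, hsup]
    have h2 : Nat.card M = Nat.card H * Nat.card K := (card_eq h).2.1
    have h3 := Subgroup.card_mul_index Q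
    rw [h2, h1, mul_assoc] at h3
    have h4 : Q.index = Nat.card D * Nat.card K := Nat.eq_of_mul_eq_mul_left Nat.card_pos h3
    have h5 : ¬ q ∣ Nat.card D := by
      intro hd
      apply hQs
      rw [h4]
      exact Dvd.dvd.mul_right hd _
    exact ((Nat.Prime.coprime_iff_not_dvd h.qp).mpr h5).symm
  · intro k hk hk1
    rw [eq_bot_iff, ← hQD]
    have h1 : D ⊓ centralizer ({k} : Set M) ≤ H ⊓ centralizer ({k} : Set M) :=
      inf_le_inf_right _ hDH
    rw [h.pa k hk hk1] at h1
    exact le_inf (h1.trans hB1) inf_le_left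

end Cfsg.Agent.Lib.Helper91.BG152
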