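import Cfsg.Agent.Lib.Helper21.BG152B4
import Cfsg.Agent.Lib.Helper21.BG152B4b
import Cfsg.Agent.Lib.Helper62.BG152B3m
import Cfsg.Agent.Lib.Helper64.BG152B1

/-!
# BG 15.2 hive (helper91): the exact-named leaves B4 `exists_inv_compl` and B4b `compl_props`
(helper21), from the cores and the leaves B1 (helper64), B3, B3b (helper62)
-/

set_option autoImplicit false

namespace Cfsg.Agent.Lib.Helper91.BG152

open Subgroup

universe u
variable {M : Type u} [Group M] [Finite M] {H K Q : Subgroup M} {q : ℕ}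

/-- B4. A `K`-invariant complement `D` of `Q` in `H`. -/
theorem exists_inv_compl [H.Normal] [Q.Normal] (h : CfgB H K Q q) :
    ∃ D : Subgroup M, D ≤ H ∧ Q ⊓ D = ⊥ ∧ Q ⊔ D = H ∧ K ≤ normalizer (D : Set M) :=
  exists_inv_compl_core h (Q_sylow h)

/-- B4b. Such a `D` is nilpotent, `D ≠ ⊥`, of order prime to `q`, and `K` acts without fixed
points on it. -/
theorem compl_props [H.Normal] [Q.Normal] (h : CfgB H K Q q) {D : Subgroup M} (hDH : D ≤ H)
    (hQD : Q ⊓ D = ⊥) (hsup : Q ⊔ D = H) :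
    Group.IsNilpotent D ∧ D ≠ ⊥ ∧ (Nat.card D).Coprime q ∧
      ∀ k ∈ K, k ≠ 1 → D ⊓ centralizer ({k} : Set M) = ⊥ :=
  compl_props_core h (Ks_le_Q h) (map_nilpotent h) (Q_sylow h) hDH hQD hsup

end Cfsg.Agent.Lib.Helper91.BG152
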