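import Mathlib
import Cfsg.Prelude.Def_OddOrder
import Cfsg.Prelude.Def_OddOrderLocal
import Cfsg.Prelude.Def_Solvable
import Cfsg.Agent.Lib.Helper49.RankOneCyclic
import Cfsg.Agent.Lib.Helper53.UniqInv

/-! # BG157 hive (helper91, S1383), leaf B1 (core, with NIL `nil_facts` as a hypothesis). -/

set_option autoImplicit false
set_option linter.style.haveILetI false

namespace Cfsg.Agent.Lib.Helper91.BG157

open Subgroup Cfsg

universe u

/-- a finite commutative group all of whose Sylow subgroups are cyclic is cyclic -/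
theorem b1_isCyclic_of_comm_of_sylow {X : Type*} [Group X] [Finite X]
    (hc : ∀ a b : X, a * b = b * a)
    (h : ∀ (p : ℕ) [Fact p.Prime] (P : Sylow p X), IsCyclic P) : IsCyclic X := by
  letI : CommGroup X := { (inferInstance : Group X) with mul_comm := hc }
  apply IsCyclic.of_exponent_eq_card
  apply Nat.dvd_antisymm Group.exponent_dvd_nat_card
  have hexp0 : Monoid.exponent X ≠ 0 := Monoid.exponent_ne_zero_of_finite
  rw [← Nat.factorization_prime_le_iff_dvd Nat.card_pos.ne' hexp0]
  intro p hp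
  haveI : Fact p.Prime := ⟨hp⟩
  obtain ⟨P⟩ : Nonempty (Sylow p X) := inferInstance
  rw [← hp.pow_dvd_iff_le_factorization hexp0, ← P.card_eq_multiplicity]
  haveI := h p P
  obtain ⟨g, hg⟩ := IsCyclic.exists_ofOrder_eq_natCard (α := P)
  rw [← hg, ← Subgroup.orderOf_coe]
  exact Monoid.order_dvd_exponent _

/-- the elements of order dividing `q` in a subgroup of a commutative group -/
def b1_omega {X : Type*} [Group X] (hc : ∀ a b : X, a * b = b * a) (Q : Subgroup X) (q : ℕ) :
    Subgroup X where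
  carrier := {y | y ∈ Q ∧ y ^ q = 1}
  one_mem' := ⟨Q.one_mem, one_pow q⟩
  mul_mem' := by
    rintro a b ⟨ha, ha'⟩ ⟨hb, hb'⟩
    refine ⟨Q.mul_mem ha hb, ?_⟩
    rw [(show Commute a b from hc a b).mul_pow, ha', hb', one_mul]
  inv_mem' := by
    rintro a ⟨ha, ha'⟩
    exact ⟨Q.inv_mem ha, by rw [inv_pow, ha', inv_one]⟩

theorem b1_mem_omega {X : Type*} [Group X] (hc : ∀ a b : X, a * b = b * a) (Q : Subgroup X)
    (q : ℕ) (y : X) : y ∈ b1_omega hc Q q ↔ y ∈ Q ∧ y ^ q = 1 := Iff.rfl

/-- a commutative `q`-group with at most `q` elements of order dividing `q` is cyclic -/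
theorem b1_isCyclic_of_omega_le {X : Type*} [Group X] [Finite X] (hc : ∀ a b : X, a * b = b * a)
    (q : ℕ) [hq : Fact q.Prime] (Q : Subgroup X) (hQ : IsPGroup q Q)
    (hle : Nat.card (b1_omega hc Q q) ≤ q) : IsCyclic Q := by
  by_cases hq2 : q = 2
  · subst hq2
    have hcQ : ∀ x y : ↥Q, x * y = y * x := fun x y => Subtype.ext (hc x y)
    by_cases hex : ∃ t : ↥Q, orderOf t = 2
    · obtain ⟨t0, ht0⟩ := hex
      apply Cfsg.Agent.Lib.Helper53.ui_isCyclic_of_comm hQ (z := t0) _ hcQ
      intro t ht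
      by_contra hne
      -- three different elements of `omega`
      have hmem : ∀ s : ↥Q, orderOf s = 2 → (s : X) ∈ b1_omega hc Q 2 := by
        intro s hs
        refine ⟨s.2, ?_⟩
        have h1 : s ^ 2 = 1 := by rw [← hs]; exact pow_orderOf_eq_one s
        have := congrArg Subtype.val h1
        simpa using this
      have hne1 : ∀ s : ↥Q, orderOf s = 2 → (s : X) ≠ 1 := by
        intro s hs h1
        have : s = 1 := Subtype.ext h1
        rw [this, orderOf_one] at hs
        omega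
      let f : Fin 3 → ↥(b1_omega hc Q 2) :=
        ![⟨1, (b1_omega hc Q 2).one_mem⟩, ⟨t0, hmem t0 ht0⟩, ⟨t, hmem t ht⟩]
      have hf : Function.Injective f := by
        intro i j hij
        fin_cases i <;> fin_cases j <;> first
          | rfl
          | (exfalso
             have h3 := congrArg (fun w : ↥(b1_omega hc Q 2) => (w : X)) hij
             simp only [f] at h3
             first
               | exact hne1 t0 ht0 h3 | exact hne1 t0 ht0 h3.symm
               | exact hne1 t ht h3 | exact hne1 t ht h3.symm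
               | exact hne (Subtype.ext h3.symm) | exact hne (Subtype.ext h3))
      have := Nat.card_le_card_of_injective f hf
      simp only [Nat.card_eq_fintype_card, Fintype.card_fin] at this
      omega
    · apply Cfsg.Agent.Lib.Helper53.ui_isCyclic_of_comm hQ (z := 1) _ hcQ
      intro t ht
      exact absurd ⟨t, ht⟩ hex
  · apply Cfsg.Agent.Lib.Helper49.isCyclic_of_isPGroup_rankLEOne hq2 hQ
    intro A _ hexp
    have h1 : A.map Q.subtype ≤ b1_omega hc Q q := by
      rintro _ ⟨a, ha, rfl⟩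
      refine ⟨a.2, ?_⟩
      have := congrArg Subtype.val (hexp a ha)
      simpa using this
    have h2 : Nat.card (A.map Q.subtype) = Nat.card A :=
      Subgroup.card_map_of_injective Q.subtype_injective
    rw [← h2]
    exact le_trans (Subgroup.card_le_of_le h1) hle

/-- a finite commutative noncyclic group contains an elementary abelian subgroup of order `q²` -/
theorem b1_exists_elem_of_not_cyclic {X : Type*} [Group X] [Finite X]
    (hc : ∀ a b : X, a * b = b * a) (hX : ¬ IsCyclic X) :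
    ∃ (q : ℕ) (B : Subgroup X), q.Prime ∧ (∀ b ∈ B, b ^ q = 1) ∧ Nat.card B = q ^ 2 := by
  by_contra hcon
  apply hX
  apply b1_isCyclic_of_comm_of_sylow hc
  intro q hq Q
  apply b1_isCyclic_of_omega_le hc q Q Q.isPGroup'
  by_contra hlt
  rw [not_le] at hlt
  -- `omega` is a `q`-group of order `> q`
  have hΩp : IsPGroup q (b1_omega hc (Q : Subgroup X) q) := by
    apply IsPGroup.of_injective Q.isPGroup' (Subgroup.inclusion (show b1_omega hc (Q : Subgroup X) q ≤ Q from
      fun y hy => hy.1)) (Subgroup.inclusion_injective _)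
  obtain ⟨k, hk⟩ := IsPGroup.iff_card.mp hΩp
  have hk2 : 2 ≤ k := by
    by_contra h
    have : k ≤ 1 := by omega
    have h3 : q ^ k ≤ q ^ 1 := Nat.pow_le_pow_right hq.out.pos this
    rw [pow_one, ← hk] at h3
    omega
  have hdvd : q ^ 2 ∣ Nat.card (b1_omega hc (Q : Subgroup X) q) := by
    rw [hk]; exact pow_dvd_pow q hk2
  obtain ⟨B0, hB0⟩ := Sylow.exists_subgroup_card_pow_prime q hdvd
  apply hcon
  refine ⟨q, B0.map (b1_omega hc (Q : Subgroup X) q).subtype, hq.out, ?_, ?_⟩
  · rintro _ ⟨b, _, rfl⟩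
    exact b.2.2
  · rw [Subgroup.card_map_of_injective (Subgroup.subtype_injective _), hB0]

section generic

variable {G : Type u} [Group G] [Finite G]

/-- a subgroup of the nilpotent `H` lying in `D` is commutative -/
theorem b1_comm_of_le (H D : Subgroup G) (hnil : Group.IsNilpotent ↥H)
    (h2 : ∀ Y : Subgroup G, Y ≤ D → Group.IsNilpotent ↥Y → IsMulCommutative ↥Y)
    (S : Subgroup ↥H) (hS : ∀ s ∈ S, ((s : ↥H) : G) ∈ D) : ∀ a ∈ S, ∀ b ∈ S, a * b = b * a := by
  haveI := hnil
  have hYD : S.map H.subtype ≤ D := by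
    rintro _ ⟨s, hs, rfl⟩
    exact hS s hs
  have hYn : Group.IsNilpotent ↥(S.map H.subtype) :=
    (Group.isNilpotent_congr (S.equivMapOfInjective H.subtype H.subtype_injective)).mp
      inferInstance
  haveI hYc := h2 _ hYD hYn
  intro a ha b hb
  have h : ((a : ↥H) : G) * ((b : ↥H) : G) = ((b : ↥H) : G) * ((a : ↥H) : G) :=
    setLike_mul_comm (s := S.map H.subtype) (Subgroup.mem_map_of_mem _ ha)
      (Subgroup.mem_map_of_mem _ hb)
  exact Subtype.ext h

/-- LEAF B1 with the facts of LEAF NIL as hypotheses. -/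
theorem b1_core (H D : Subgroup G) (hnil : Group.IsNilpotent ↥H) (hna : ¬ IsMulCommutative ↥H)
    (p : ℕ) [Fact p.Prime] (x : G) (hxH : x ∈ H) (hx : orderOf x = p)
    (h1 : H ⊓ centralizer ({x} : Set G) ≤ D)
    (h2 : ∀ Y : Subgroup G, Y ≤ D → Group.IsNilpotent ↥Y → IsMulCommutative ↥Y)
    (h3 : ∀ (q : ℕ) (B : Subgroup G), q.Prime → B ≤ H ⊓ D → IsElementaryAbelian q B →
      Nat.card B = q ^ 2 → ∃ b ∈ B, b ≠ 1 ∧ H ⊓ centralizer ({b} : Set G) ≤ D)
    (hsup : pCore p ↥H ⊔ pPrimeCore p ↥H = ⊤)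
    (hcomm : ∀ a ∈ pCore p ↥H, ∀ b ∈ pPrimeCore p ↥H, a * b = b * a)
    (hmem : ∀ y : ↥H, (∃ n : ℕ, y ^ p ^ n = 1) → y ∈ pCore p ↥H) :
    ¬ IsMulCommutative ↥(pCore p ↥H) ∧ IsCyclic ↥(pPrimeCore p ↥H) := by
  -- `x ∈ P`
  have hxp : x ^ p = 1 := by rw [← hx]; exact pow_orderOf_eq_one x
  have hxP : (⟨x, hxH⟩ : ↥H) ∈ pCore p ↥H := by
    apply hmem
    refine ⟨1, ?_⟩
    rw [pow_one]
    exact Subtype.ext (by simpa using hxp)
  -- `C ≤ D`
  have hCD : ∀ c ∈ pPrimeCore p ↥H, ((c : ↥H) : G) ∈ D := by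
    intro c hc
    apply h1
    refine ⟨c.2, ?_⟩
    show ((c : ↥H) : G) ∈ centralizer ({x} : Set G)
    rw [mem_centralizer_iff]
    intro y hy
    rw [Set.mem_singleton_iff.mp hy]
    have := hcomm _ hxP c hc
    exact congrArg Subtype.val this
  have hCc : ∀ a ∈ pPrimeCore p ↥H, ∀ b ∈ pPrimeCore p ↥H, a * b = b * a :=
    b1_comm_of_le H D hnil h2 _ hCD
  -- elements commuting with `P` and `C` are central
  have hcentral : ∀ a : ↥H, (∀ b ∈ pCore p ↥H, b * a = a * b) →
      (∀ c ∈ pPrimeCore p ↥H, c * a = a * c) → ∀ g : ↥H, g * a = a * g := by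
    intro a hPa hCa g
    have hle : pCore p ↥H ⊔ pPrimeCore p ↥H ≤ centralizer ({a} : Set ↥H) := by
      apply sup_le
      · intro b hb
        rw [mem_centralizer_iff]
        intro y hy
        rw [Set.mem_singleton_iff.mp hy]
        exact (hPa b hb).symm
      · intro c hc
        rw [mem_centralizer_iff]
        intro y hy
        rw [Set.mem_singleton_iff.mp hy]
        exact (hCa c hc).symm
    have hg : g ∈ centralizer ({a} : Set ↥H) := hle (hsup ▸ Subgroup.mem_top g)
    rw [mem_centralizer_iff] at hg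
    exact (hg a rfl).symm
  -- `P` is not commutative
  have hPna : ¬ IsMulCommutative ↥(pCore p ↥H) := by
    intro hPc
    apply hna
    rw [isMulCommutative_iff]
    intro g h
    have hPcomm : ∀ a ∈ pCore p ↥H, ∀ b ∈ pCore p ↥H, a * b = b * a :=
      fun a ha b hb => setLike_mul_comm (s := pCore p ↥H) ha hb
    have hZ : pCore p ↥H ⊔ pPrimeCore p ↥H ≤ Subgroup.center ↥H := by
      apply sup_le
      · intro a ha
        rw [Subgroup.mem_center_iff]
        exact hcentral a (fun b hb => hPcomm b hb a ha) (fun c hc => (hcomm a ha c hc).symm)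
      · intro c hc
        rw [Subgroup.mem_center_iff]
        exact hcentral c (fun b hb => hcomm b hb c hc) (fun c' hc' => hCc c' hc' c hc)
    have hh : h ∈ Subgroup.center ↥H := hZ (hsup ▸ Subgroup.mem_top h)
    exact (Subgroup.mem_center_iff.mp hh) g
  refine ⟨hPna, ?_⟩
  -- `C` is cyclic
  by_contra hCcyc
  have hcC : ∀ a b : ↥(pPrimeCore p ↥H), a * b = b * a :=
    fun a b => Subtype.ext (hCc a a.2 b b.2)
  obtain ⟨q, B0, hq, hexp, hcard⟩ := b1_exists_elem_of_not_cyclic hcC hCcyc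
  haveI : IsMulCommutative ↥(pPrimeCore p ↥H) := isMulCommutative_iff.2 hcC
  have hBle : (B0.map (pPrimeCore p ↥H).subtype).map H.subtype ≤ H ⊓ D := by
    rintro _ ⟨_, ⟨b, _, rfl⟩, rfl⟩
    exact ⟨(b : ↥H).2, hCD b b.2⟩
  have hBel : IsElementaryAbelian q ((B0.map (pPrimeCore p ↥H).subtype).map H.subtype) := by
    refine ⟨inferInstance, ?_⟩
    rintro _ ⟨_, ⟨b, hb, rfl⟩, rfl⟩
    have h4 := hexp b hb
    have h5 := congrArg (fun w : ↥(pPrimeCore p ↥H) => ((w : ↥H) : G)) h4
    simpa using h5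
  have hBcard : Nat.card ((B0.map (pPrimeCore p ↥H).subtype).map H.subtype) = q ^ 2 := by
    rw [Subgroup.card_map_of_injective H.subtype_injective,
      Subgroup.card_map_of_injective (Subgroup.subtype_injective _), hcard]
  obtain ⟨b, hbB, _, hbD⟩ := h3 q _ hq hBle hBel hBcard
  obtain ⟨_, ⟨b0, _, rfl⟩, rfl⟩ := hbB
  -- `P ≤ D`
  have hPD : ∀ a ∈ pCore p ↥H, ((a : ↥H) : G) ∈ D := by
    intro a ha
    apply hbD
    refine ⟨a.2, ?_⟩
    show ((a : ↥H) : G) ∈
      centralizer ({H.subtype ((pPrimeCore p ↥H).subtype b0)} : Set G)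
    rw [mem_centralizer_iff]
    intro y hy
    rw [Set.mem_singleton_iff.mp hy]
    have := hcomm a ha (b0 : ↥H) b0.2
    exact (congrArg Subtype.val this).symm
  have hPc := b1_comm_of_le H D hnil h2 _ hPD
  apply hPna
  rw [isMulCommutative_iff]
  intro a b
  exact Subtype.ext (hPc a a.2 b b.2)

end generic

end Cfsg.Agent.Lib.Helper91.BG157
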