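import Mathlib
import Cfsg.Prelude.Def_OddOrder
import Cfsg.Prelude.Def_OddOrderLocal
import Cfsg.Prelude.Def_Solvable
import Cfsg.Agent.Lib.Helper2.BG157NIL
import Cfsg.Agent.Lib.Helper21.BG157B1core

/-! # BG157 hive (helper91, S1383), leaf B1: `abstract_B1` (= `b1_core` + helper2's `nil_facts`). -/

set_option autoImplicit false

namespace Cfsg.Agent.Lib.Helper91.BG157

open Subgroup Cfsg

universe u

section generic

variable {G : Type u} [Group G] [Finite G]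

/-- B1 (abstract form of CASE A + (B1)). -/
theorem abstract_B1 (H D : Subgroup G) (hnil : Group.IsNilpotent ↥H) (hna : ¬ IsMulCommutative ↥H)
    (p : ℕ) [Fact p.Prime] (x : G) (hxH : x ∈ H) (hx : orderOf x = p)
    (h1 : H ⊓ centralizer ({x} : Set G) ≤ D)
    (h2 : ∀ Y : Subgroup G, Y ≤ D → Group.IsNilpotent ↥Y → IsMulCommutative ↥Y)
    (h3 : ∀ (q : ℕ) (B : Subgroup G), q.Prime → B ≤ H ⊓ D → IsElementaryAbelian q B → Nat.card B = q ^ 2 →
      ∃ b ∈ B, b ≠ 1 ∧ H ⊓ centralizer ({b} : Set G) ≤ D) :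
    ¬ IsMulCommutative ↥(pCore p ↥H) ∧ IsCyclic ↥(pPrimeCore p ↥H) := by
  obtain ⟨_, _, _, hsup, _, hcomm, hmem⟩ := nil_facts (G := ↥H) p hnil
  exact b1_core H D hnil hna p x hxH hx h1 h2 h3 hsup hcomm hmem

end generic

end Cfsg.Agent.Lib.Helper91.BG157
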