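import Mathlib
import Cfsg.Prelude
import Cfsg.Agent.Lib.Helper32.BG159Defs
import Cfsg.Agent.Lib.Helper23.TypeP
import Cfsg.Agent.S1350
import Cfsg.Agent.S1432

/-! # BG159 hive (helper32, CLAIM F for S1376), leaf F3: `E = M ⊓ N*` acts without fixed points on
`W = M_σ`. -/

set_option autoImplicit false
open Subgroup Cfsg

namespace Cfsg.Agent.Lib.Helper32.BG159

variable {G : Type*} [Group G] [Finite G]

/-- `|M : M_σ| = |E|` for a complement `E` of `M_σ` in `M`. -/
theorem f3_relIndex_eq {M E : Subgroup G} (hE : IsComplIn E (sigmaCore M) M) :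
    (sigmaCore M).relIndex M = Nat.card E := by
  have h1 : Nat.card E * Nat.card (sigmaCore M) = Nat.card M :=
    Cfsg.Agent.Lib.Helper23.card_isComplIn hE
  have h2 := relIndex_mul_relIndex (⊥ : Subgroup G) (sigmaCore M) M bot_le hE.2.1
  rw [relIndex_bot_left, relIndex_bot_left] at h2
  have hpos : 0 < Nat.card (sigmaCore M) := Nat.card_pos
  apply Nat.eq_of_mul_eq_mul_left hpos
  rw [h2, ← h1, mul_comm]

/-- a prime dividing the order of a complement of `M_σ` is not in `σ(M)`. -/
theorem f3_not_sigma (hG : IsMinSimpleOddOrder G) {M E : Subgroup G} (hM : IsCoatom M)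
    (hE : IsComplIn E (sigmaCore M) M) {p : ℕ} (hp : p.Prime) (hpE : p ∣ Nat.card E) :
    p ∉ sigma M := by
  intro h
  have hH := (Cfsg.Agent.S1350.result hG M hM).1
  apply hH.2.2 p hp h
  rw [f3_relIndex_eq hE]
  exact hpE

/-- [F3] `E` acts without fixed points on `W`. -/
theorem fpf (hG : IsMinSimpleOddOrder G) {N K U Nstar M : Subgroup G} {x : G}
    (c : CtxF N K U Nstar M x) (h2 : tau2 M = ∅) :
    ∀ e ∈ M ⊓ Nstar, e ≠ 1 → ∀ w ∈ sigmaCore M, e * w = w * e → w = 1 := by
  intro e he he1 w hw hew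
  by_contra hw1
  have hcent : e ∈ M ⊓ centralizer ({w} : Set G) := by
    refine ⟨he.1, ?_⟩
    show e ∈ centralizer ({w} : Set G)
    rw [mem_centralizer_iff]
    intro y hy
    rw [Set.mem_singleton_iff.mp hy]
    exact hew.symm
  have hσ : ∀ p : ℕ, p.Prime → p ∣ orderOf e → p ∉ sigma M := by
    intro p hp hpe
    apply f3_not_sigma hG c.hM c.hE hp
    exact dvd_trans hpe (Subgroup.orderOf_dvd_natCard _ he)
  have hord : orderOf e ≠ 1 := by
    rw [Ne, orderOf_eq_one_iff]
    exact he1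
  obtain ⟨l, hl, hle⟩ := Nat.exists_prime_and_dvd hord
  rcases Cfsg.Agent.S1432.result hG M c.hM w hw hw1 e hcent he1 hσ with h | h
  · have h3 := h.1 l hl hle
    rw [c.facts.kappaH] at h3
    exact h3
  · have h3 := h.1 l hl hle
    rw [h2] at h3
    exact h3

end Cfsg.Agent.Lib.Helper32.BG159
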