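import Mathlib
import Cfsg.Prelude
import Cfsg.Agent.Lib.Helper32.BG159Defs
import Cfsg.Agent.Lib.Helper21.BG159F3
import Cfsg.Agent.Lib.Helper76.BGSigU2
import Cfsg.Agent.Lib.Helper49.RankOneCyclic
import Cfsg.Agent.S1350
import Cfsg.Agent.S1405

/-! # BG159 hive (helper32, CLAIM F for S1376), leaf F3s: the Sylow subgroups of `E = M ⊓ N*` are
cyclic. -/

set_option autoImplicit false
set_option linter.style.haveILetI false
open Subgroup Cfsg

namespace Cfsg.Agent.Lib.Helper32.BG159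

variable {G : Type*} [Group G] [Finite G]

/-- [F3s] the Sylow subgroups of `E` are cyclic. -/
theorem sylow_cyclic (hG : IsMinSimpleOddOrder G) {N K U Nstar M : Subgroup G} {x : G}
    (c : CtxF N K U Nstar M x) (h2 : tau2 M = ∅) (r : ℕ) [Fact r.Prime]
    (R : Sylow r ↥(M ⊓ Nstar)) : IsCyclic R := by
  have hr : r.Prime := Fact.out
  by_cases hrE : r ∣ Nat.card ↥(M ⊓ Nstar)
  · -- `r ∉ σ(M)`
    have hrσ : r ∉ sigma M := f3_not_sigma hG c.hM c.hE hr hrE
    have hσ := (Cfsg.Agent.S1350.result hG M c.hM).1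
    have h05 := Cfsg.Agent.S1405.result hG M c.hM
    have hr2M : PRankLE r 2 M :=
      Cfsg.Agent.Lib.Helper76.BGSigU.pRankLE_two_of_not_sigma hσ h05.1 h05.2.2.1 hr hrσ
    have hr1M : PRankLE r 1 M := by
      by_contra h
      have : r ∈ tau2 M := ⟨hr, hrσ, hr2M, h⟩
      rw [h2] at this
      exact this
    have hr1E : PRankLE r 1 ↥(M ⊓ Nstar) :=
      Cfsg.Agent.Lib.Helper76.BGSigU.pRankLE_of_le (inf_le_left : M ⊓ Nstar ≤ M) hr1M
    have hrank : Cfsg.Agent.Lib.Helper49.RankLEOne r ↥(M ⊓ Nstar) := by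
      intro A hA hexp
      have := hr1E A hA hexp
      simpa using this
    have hrankR : Cfsg.Agent.Lib.Helper49.RankLEOne r ↥(R : Subgroup ↥(M ⊓ Nstar)) :=
      Cfsg.Agent.Lib.Helper49.rankLEOne_subgroup hrank _
    -- `r ≠ 2`
    have hr2 : r ≠ 2 := by
      rintro rfl
      have hodd : Odd (Nat.card G) := hG.1
      have h3 : 2 ∣ Nat.card G := dvd_trans hrE (Subgroup.card_subgroup_dvd_card _)
      rw [Nat.odd_iff] at hodd
      omega
    exact Cfsg.Agent.Lib.Helper49.isCyclic_of_isPGroup_rankLEOne hr2 R.isPGroup' hrankR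
  · -- trivial Sylow subgroup
    have hcard : Nat.card ↥(R : Subgroup ↥(M ⊓ Nstar)) = 1 := by
      obtain ⟨n, hn⟩ := IsPGroup.iff_card.mp R.isPGroup'
      have hd : Nat.card ↥(R : Subgroup ↥(M ⊓ Nstar)) ∣ Nat.card ↥(M ⊓ Nstar) :=
        Subgroup.card_subgroup_dvd_card _
      rcases Nat.eq_zero_or_pos n with h0 | hpos
      · rw [hn, h0, pow_zero]
      · exfalso
        apply hrE
        refine dvd_trans ?_ hd
        rw [hn]
        exact dvd_pow_self r hpos.ne'
    haveI : Subsingleton ↥(R : Subgroup ↥(M ⊓ Nstar)) :=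
      (Nat.card_eq_one_iff_unique.mp hcard).1
    exact isCyclic_of_subsingleton

end Cfsg.Agent.Lib.Helper32.BG159
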