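import Mathlib
import Cfsg.Agent.Lib.Helper63.PrimeParts

set_option autoImplicit false
set_option linter.style.haveILetI false

/-!
Groups with exactly two conjugacy class sizes (Ito): basic lemmas.
-/

namespace Cfsg.Agent.Lib.Helper21

open Subgroup

universe u

variable {G : Type u} [Group G]

/-- The hypothesis: class sizes are `1` or `n`, with `1 < n`. -/
def ItoHyp (G : Type u) [Group G] (n : ℕ) : Prop :=
  1 < n ∧ ∀ x : G, (centralizer ({x} : Set G)).index = 1 ∨ (centralizer ({x} : Set G)).index = n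

theorem ito_cent_eq_top_iff {x : G} : centralizer ({x} : Set G) = ⊤ ↔ x ∈ center G := by
  rw [centralizer_eq_top_iff_subset, Set.singleton_subset_iff]
  rfl

theorem ito_index_of_not_mem {n : ℕ} (h : ItoHyp G n) {x : G} (hx : x ∉ center G) :
    (centralizer ({x} : Set G)).index = n := by
  rcases h.2 x with h1 | h1
  · exfalso
    apply hx
    rw [← ito_cent_eq_top_iff]
    exact index_eq_one.1 h1
  · exact h1

theorem ito_center_le_cent (x : G) : center G ≤ centralizer ({x} : Set G) := by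
  intro z hz
  rw [mem_centralizer_singleton_iff]
  exact (mem_center_iff.1 hz x).symm

/-- Two noncentral elements with comparable centralizers have equal centralizers. -/
theorem ito_cent_eq_of_le [Finite G] {n : ℕ} (h : ItoHyp G n) {x y : G} (hx : x ∉ center G)
    (hy : y ∉ center G) (hle : centralizer ({x} : Set G) ≤ centralizer ({y} : Set G)) :
    centralizer ({x} : Set G) = centralizer ({y} : Set G) := by
  apply le_antisymm hle
  have h1 := relIndex_mul_index hle
  rw [ito_index_of_not_mem h hx, ito_index_of_not_mem h hy] at h1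
  have hn : 0 < n := lt_trans Nat.zero_lt_one h.1
  have h2 : (centralizer ({x} : Set G)).relIndex (centralizer ({y} : Set G)) = 1 := by
    have : (centralizer ({x} : Set G)).relIndex (centralizer ({y} : Set G)) * n = 1 * n := by
      rw [h1, one_mul]
    exact Nat.eq_of_mul_eq_mul_right hn this
  exact relIndex_eq_one.1 h2

/-- `cent x ≤ cent (x ^ k)`. -/
theorem ito_cent_le_cent_pow (x : G) (k : ℕ) :
    centralizer ({x} : Set G) ≤ centralizer ({x ^ k} : Set G) := by
  intro c hc
  rw [mem_centralizer_singleton_iff] at hc ⊢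
  exact ((Commute.pow_right (show Commute c x from hc) k)).eq

theorem ito_cent_le_cent_zpow (x : G) (k : ℤ) :
    centralizer ({x} : Set G) ≤ centralizer ({x ^ k} : Set G) := by
  intro c hc
  rw [mem_centralizer_singleton_iff] at hc ⊢
  exact ((Commute.zpow_right (show Commute c x from hc) k)).eq

/-- For commuting elements of coprime orders, `x` is a power of `x * y`. -/
theorem ito_exists_zpow_eq [Finite G] {x y : G} (hxy : Commute x y)
    (hcop : (orderOf x).Coprime (orderOf y)) : ∃ k : ℤ, (x * y) ^ k = x := by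
  refine ⟨(orderOf y : ℤ) * (orderOf x).gcdB (orderOf y), ?_⟩
  rw [hxy.mul_zpow]
  have h1 : y ^ ((orderOf y : ℤ) * (orderOf x).gcdB (orderOf y)) = 1 := by
    rw [zpow_mul, zpow_natCast, pow_orderOf_eq_one, one_zpow]
  have h2 : x ^ ((orderOf y : ℤ) * (orderOf x).gcdB (orderOf y)) = x := by
    have h3 : x = x ^ ((orderOf x : ℤ) * (orderOf x).gcdA (orderOf y)) *
        x ^ ((orderOf y : ℤ) * (orderOf x).gcdB (orderOf y)) := by
      rw [← zpow_add, ← Nat.gcd_eq_gcd_ab, hcop, Nat.cast_one, zpow_one]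
    rw [zpow_mul, zpow_natCast, pow_orderOf_eq_one, one_zpow, one_mul] at h3
    exact h3.symm
  rw [h1, h2, mul_one]

/-- Key lemma: a noncentral `x` and a commuting `y` of coprime order: `cent x ≤ cent y`. -/
theorem ito_cent_le_of_coprime [Finite G] {n : ℕ} (h : ItoHyp G n) {x y : G}
    (hx : x ∉ center G) (hxy : Commute x y) (hcop : (orderOf x).Coprime (orderOf y)) :
    centralizer ({x} : Set G) ≤ centralizer ({y} : Set G) := by
  obtain ⟨k, hk⟩ := ito_exists_zpow_eq hxy hcop
  have hxyc : x * y ∉ center G := by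
    intro hc
    apply hx
    rw [← hk]
    exact (center G).zpow_mem hc k
  have hle : centralizer ({x * y} : Set G) ≤ centralizer ({x} : Set G) := by
    have := ito_cent_le_cent_zpow (x * y) k
    rwa [hk] at this
  have heq := ito_cent_eq_of_le h hxyc hx hle
  intro c hc
  have hc' : c ∈ centralizer ({x * y} : Set G) := heq ▸ hc
  rw [mem_centralizer_singleton_iff] at hc hc' ⊢
  -- c commutes with x and x*y, hence with y
  have : c * y = x⁻¹ * (c * (x * y)) := by
    rw [← mul_assoc c x y, hc, mul_assoc, inv_mul_cancel_left]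
  rw [this, hc', mul_assoc, inv_mul_cancel_left]

/-- Splitting an element into a `p`-part and a `p'`-part, both powers of the element. -/
theorem ito_exists_parts [Finite G] (p : ℕ) [hp : Fact p.Prime] (f : G) :
    ∃ a b : G, a ∈ zpowers f ∧ b ∈ zpowers f ∧ f = a * b ∧ (∃ k : ℕ, a ^ (p ^ k) = 1) ∧
      (orderOf b).Coprime p := by
  have hpos : 0 < orderOf f := orderOf_pos f
  obtain ⟨k, m, hpm, hn⟩ := Nat.exists_eq_pow_mul_and_not_dvd hpos.ne' p hp.out.ne_one
  have hcop : Nat.Coprime m (p ^ k) :=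
    (Nat.Coprime.pow_left k ((Nat.Prime.coprime_iff_not_dvd hp.out).2 hpm)).symm
  refine ⟨(f ^ m) ^ (m.gcdA (p ^ k)), (f ^ (p ^ k)) ^ (m.gcdB (p ^ k)), ?_, ?_, ?_, ⟨k, ?_⟩, ?_⟩
  · exact (zpowers f).zpow_mem ((zpowers f).pow_mem (mem_zpowers f) _) _
  · exact (zpowers f).zpow_mem ((zpowers f).pow_mem (mem_zpowers f) _) _
  · rw [← zpow_natCast f m, ← zpow_natCast f (p ^ k), ← zpow_mul, ← zpow_mul, ← zpow_add,
      ← Nat.gcd_eq_gcd_ab, hcop, Nat.cast_one, zpow_one]
  · rw [← zpow_natCast, ← zpow_mul, mul_comm, zpow_mul, zpow_natCast, ← pow_mul, mul_comm, ← hn,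
      pow_orderOf_eq_one, one_zpow]
  · have h1 : ((f ^ (p ^ k)) ^ (m.gcdB (p ^ k))) ^ m = 1 := by
      rw [← zpow_natCast, ← zpow_mul, mul_comm, zpow_mul, zpow_natCast, ← pow_mul, ← hn,
        pow_orderOf_eq_one, one_zpow]
    have h2 : orderOf ((f ^ (p ^ k)) ^ (m.gcdB (p ^ k))) ∣ m := orderOf_dvd_of_pow_eq_one h1
    exact Nat.Coprime.coprime_dvd_left h2 ((Nat.Prime.coprime_iff_not_dvd hp.out).2 hpm).symm

/-- Two commuting noncentral elements of coprime prime power orders: the centralizer is abelian. -/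
theorem ito_cent_abelian [Finite G] {n : ℕ} (h : ItoHyp G n) {p q : ℕ} [hp : Fact p.Prime]
    [hq : Fact q.Prime] (hpq : p ≠ q) {u w : G} (hu : u ∉ center G) (hw : w ∉ center G)
    (huw : Commute u w) {i j : ℕ} (hou : orderOf u = p ^ i) (how : orderOf w = q ^ j) :
    centralizer ({u} : Set G) = centralizer ({w} : Set G) ∧
    ∀ g ∈ centralizer ({u} : Set G), ∀ g' ∈ centralizer ({u} : Set G), g * g' = g' * g := by
  have hcop : (orderOf u).Coprime (orderOf w) := by
    rw [hou, how]
    exact Nat.Coprime.pow _ _ ((Nat.coprime_primes hp.out hq.out).2 hpq)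
  have hle := ito_cent_le_of_coprime h hu huw hcop
  have heq := ito_cent_eq_of_le h hu hw hle
  refine ⟨heq, ?_⟩
  intro g hg g' hg'
  obtain ⟨a, b, ha, hb, hgab, ⟨k, hak⟩, hbcop⟩ := ito_exists_parts p g
  have hzg : zpowers g ≤ centralizer ({u} : Set G) := zpowers_le.2 hg
  have haC := hzg ha
  have hbC := hzg hb
  -- `b` is centralized by `cent u`
  have hb' : centralizer ({u} : Set G) ≤ centralizer ({b} : Set G) := by
    apply ito_cent_le_of_coprime h hu
    · exact ((mem_centralizer_singleton_iff.1 hbC)).symm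
    · rw [hou]
      exact (Nat.Coprime.pow_right i hbcop).symm
  -- `a` is centralized by `cent w = cent u`
  have ha' : centralizer ({w} : Set G) ≤ centralizer ({a} : Set G) := by
    apply ito_cent_le_of_coprime h hw
    · have : a ∈ centralizer ({w} : Set G) := heq ▸ haC
      exact ((mem_centralizer_singleton_iff.1 this)).symm
    · rw [how]
      have hd : orderOf a ∣ p ^ k := orderOf_dvd_of_pow_eq_one hak
      apply Nat.Coprime.coprime_dvd_right hd
      exact Nat.Coprime.pow _ _ ((Nat.coprime_primes hq.out hp.out).2 (Ne.symm hpq))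
  have h1 : g' * b = b * g' := mem_centralizer_singleton_iff.1 (hb' hg')
  have h2 : g' * a = a * g' := mem_centralizer_singleton_iff.1 (ha' (heq ▸ hg'))
  rw [hgab, mul_assoc, ← h1, ← mul_assoc, ← h2, mul_assoc]

/-- In an abelian centralizer, every noncentral element has the same centralizer. -/
theorem ito_cent_eq_of_mem_abelian [Finite G] {n : ℕ} (h : ItoHyp G n) {u c : G}
    (hu : u ∉ center G) (hc : c ∉ center G) (hcC : c ∈ centralizer ({u} : Set G))
    (hab : ∀ g ∈ centralizer ({u} : Set G), ∀ g' ∈ centralizer ({u} : Set G), g * g' = g' * g) :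
    centralizer ({u} : Set G) = centralizer ({c} : Set G) := by
  apply ito_cent_eq_of_le h hu hc
  intro g hg
  rw [mem_centralizer_singleton_iff]
  exact hab g hg c hcC

/-- The image of a centralizer in `G / Z(G)`. -/
noncomputable def itoQ (x : G) : Subgroup (G ⧸ center G) :=
  (centralizer ({x} : Set G)).map (QuotientGroup.mk' (center G))

theorem ito_card_itoQ_mul [Finite G] {n : ℕ} (h : ItoHyp G n) {x : G} (hx : x ∉ center G) :
    Nat.card (itoQ x) * n = Nat.card (G ⧸ center G) := by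
  have h1 : (itoQ x).index = n := by
    unfold itoQ
    rw [index_map_eq _ (QuotientGroup.mk'_surjective _)
      (by rw [QuotientGroup.ker_mk']; exact ito_center_le_cent x)]
    exact ito_index_of_not_mem h hx
  rw [← h1]
  exact (itoQ x).card_mul_index

theorem ito_card_itoQ_eq [Finite G] {n : ℕ} (h : ItoHyp G n) {x y : G} (hx : x ∉ center G)
    (hy : y ∉ center G) : Nat.card (itoQ x) = Nat.card (itoQ y) := by
  have h1 := ito_card_itoQ_mul h hx
  have h2 := ito_card_itoQ_mul h hy
  have hn : 0 < n := lt_trans Nat.zero_lt_one h.1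
  exact Nat.eq_of_mul_eq_mul_right hn (h1.trans h2.symm)

theorem ito_mk_eq_one_iff {g : G} :
    (QuotientGroup.mk' (center G)) g = 1 ↔ g ∈ center G := by
  rw [QuotientGroup.mk'_apply, QuotientGroup.eq_one_iff]

/-- A noncentral `q`-element in `cent x` forces `q ∣ |cent x / Z|`. -/
theorem ito_dvd_card_itoQ [Finite G] {q : ℕ} [hq : Fact q.Prime] {x y : G}
    (hy : y ∉ center G) (hyx : y ∈ centralizer ({x} : Set G)) {i : ℕ} (hoy : orderOf y = q ^ i) :
    q ∣ Nat.card (itoQ x) := by
  have hmem : (QuotientGroup.mk' (center G)) y ∈ itoQ x := mem_map_of_mem _ hyx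
  have hne : (QuotientGroup.mk' (center G)) y ≠ 1 := by
    intro h1
    exact hy (ito_mk_eq_one_iff.1 h1)
  have hd : orderOf ((QuotientGroup.mk' (center G)) y) ∣ q ^ i := by
    rw [← hoy]
    exact orderOf_map_dvd _ y
  obtain ⟨i', -, hi'⟩ := (Nat.dvd_prime_pow hq.out).1 hd
  have hi0 : i' ≠ 0 := by
    rintro rfl
    rw [pow_zero, orderOf_eq_one_iff] at hi'
    exact hne hi'
  have h2 : q ∣ orderOf ((QuotientGroup.mk' (center G)) y) := by
    rw [hi']
    exact dvd_pow_self q hi0
  exact h2.trans (Subgroup.orderOf_dvd_natCard _ hmem)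

/-- If `q ∣ |cent x / Z|` then `cent x` contains a noncentral `q`-element. -/
theorem ito_exists_of_dvd_card_itoQ [Finite G] {q : ℕ} [hq : Fact q.Prime] {x : G}
    (hdvd : q ∣ Nat.card (itoQ x)) :
    ∃ w ∈ centralizer ({x} : Set G), w ∉ center G ∧ ∃ i : ℕ, orderOf w = q ^ i := by
  obtain ⟨g', hg'⟩ := exists_prime_orderOf_dvd_card' q hdvd
  have hog : orderOf (g' : G ⧸ center G) = q := by
    rw [Subgroup.orderOf_coe]; exact hg'
  obtain ⟨g, hgC, hgg⟩ := g'.2
  rw [← hgg] at hog
  obtain ⟨a, b, ha, hb, hgab, ⟨k, hak⟩, hbcop⟩ := ito_exists_parts q g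
  have hzg : zpowers g ≤ centralizer ({x} : Set G) := zpowers_le.2 hgC
  -- `b` is central
  have hbZ : b ∈ center G := by
    obtain ⟨j, rfl⟩ := mem_zpowers_iff.1 hb
    rw [← ito_mk_eq_one_iff, map_zpow]
    have h1 : orderOf (((QuotientGroup.mk' (center G)) g) ^ j) ∣ q := by
      rw [← hog]
      exact orderOf_dvd_of_mem_zpowers (zpow_mem_zpowers _ j)
    have h2 : orderOf (((QuotientGroup.mk' (center G)) g) ^ j) ∣ orderOf (g ^ j) := by
      rw [← map_zpow]
      exact orderOf_map_dvd _ _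
    have h3 : orderOf (((QuotientGroup.mk' (center G)) g) ^ j) = 1 :=
      Nat.eq_one_of_dvd_coprimes hbcop h2 h1
    exact orderOf_eq_one_iff.1 h3
  have haZ : a ∉ center G := by
    intro haZ
    have : g ∈ center G := by
      rw [hgab]; exact (center G).mul_mem haZ hbZ
    rw [← ito_mk_eq_one_iff] at this
    rw [this, orderOf_one] at hog
    exact hq.out.one_lt.ne hog
  refine ⟨a, hzg ha, haZ, ?_⟩
  have hd : orderOf a ∣ q ^ k := orderOf_dvd_of_pow_eq_one hak
  obtain ⟨k', -, hk'⟩ := (Nat.dvd_prime_pow hq.out).1 hd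
  exact ⟨k', hk'⟩

/-- A `p`-subgroup not contained in the center has a noncentral element whose commutators with
the subgroup are all central. -/
theorem ito_exists_central_mod [Finite G] {p : ℕ} [hp : Fact p.Prime] (P : Subgroup G)
    (hP : IsPGroup p ↥P) (hPZ : ¬ P ≤ center G) :
    ∃ a ∈ P, a ∉ center G ∧ ∀ t ∈ P, t * a * t⁻¹ * a⁻¹ ∈ center G := by
  haveI : ((center G).subgroupOf P).Normal := inferInstance
  have hQ : IsPGroup p (↥P ⧸ (center G).subgroupOf P) := hP.to_quotient _
  haveI : Nontrivial (↥P ⧸ (center G).subgroupOf P) := by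
    obtain ⟨t, htP, htZ⟩ := Set.not_subset.1 hPZ
    refine ⟨⟨QuotientGroup.mk ⟨t, htP⟩, 1, ?_⟩⟩
    intro h1
    rw [QuotientGroup.eq_one_iff, mem_subgroupOf] at h1
    exact htZ h1
  haveI : Nontrivial ↥(center (↥P ⧸ (center G).subgroupOf P)) := hQ.center_nontrivial
  obtain ⟨c, hc1⟩ := exists_ne (1 : ↥(center (↥P ⧸ (center G).subgroupOf P)))
  obtain ⟨a, ha⟩ := QuotientGroup.mk_surjective (c : ↥P ⧸ (center G).subgroupOf P)
  refine ⟨(a : G), a.2, ?_, ?_⟩
  · intro haZ
    apply hc1
    apply Subtype.ext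
    rw [← ha]
    show (QuotientGroup.mk a : ↥P ⧸ (center G).subgroupOf P) = 1
    rw [QuotientGroup.eq_one_iff, mem_subgroupOf]
    exact haZ
  · intro t ht
    have hcomm := mem_center_iff.1 c.2 (QuotientGroup.mk ⟨t, ht⟩)
    rw [← ha] at hcomm
    have h2 : (QuotientGroup.mk (⟨t, ht⟩ * a * ⟨t, ht⟩⁻¹ * a⁻¹) :
        ↥P ⧸ (center G).subgroupOf P) = 1 := by
      rw [QuotientGroup.mk_mul, QuotientGroup.mk_mul, QuotientGroup.mk_mul, QuotientGroup.mk_inv,
        QuotientGroup.mk_inv, hcomm]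
      group
    rw [QuotientGroup.eq_one_iff, mem_subgroupOf] at h2
    simpa using h2

/-- The `p`-part of the index of `C` is at most `|P : P ∩ C|` for a Sylow `p`-subgroup `P`. -/
theorem ito_ordProj_le_relIndex [Finite G] {p : ℕ} [hp : Fact p.Prime] (P : Sylow p G)
    (C : Subgroup G) : ordProj[p] C.index ≤ C.relIndex (P : Subgroup G) := by
  have h1 : Nat.card (C.subgroupOf (P : Subgroup G)) * C.relIndex (P : Subgroup G) =
      Nat.card (P : Subgroup G) := (C.subgroupOf (P : Subgroup G)).card_mul_index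
  have h2 : Nat.card (P : Subgroup G) = ordProj[p] (Nat.card G) := P.card_eq_multiplicity
  have h3 : Nat.card C * C.index = Nat.card G := C.card_mul_index
  have hC0 : Nat.card C ≠ 0 := Nat.card_pos.ne'
  have hi0 : C.index ≠ 0 := C.index_ne_zero_of_finite
  have h4 : ordProj[p] (Nat.card G) = ordProj[p] (Nat.card C) * ordProj[p] C.index := by
    rw [← h3, Nat.ordProj_mul p hC0 hi0]
  have hpg : IsPGroup p (C.subgroupOf (P : Subgroup G)) := P.2.to_subgroup _
  obtain ⟨r, hr⟩ := hpg.exists_card_eq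
  have h5 : Nat.card (C.subgroupOf (P : Subgroup G)) ∣ Nat.card C := by
    have : Nat.card (C.subgroupOf (P : Subgroup G)) = Nat.card (C ⊓ (P : Subgroup G) : Subgroup G) := by
      rw [← subgroupOf_map_subtype, card_subtype]
    rw [this]
    exact Subgroup.card_dvd_of_le inf_le_left
  have h6 : p ^ r ∣ ordProj[p] (Nat.card C) := by
    rw [← hp.out.pow_dvd_iff_dvd_ordProj hC0, ← hr]
    exact h5
  obtain ⟨d, hd⟩ := h6
  rw [h2, h4, hd, hr] at h1
  have hd0 : 0 < d := by
    rcases Nat.eq_zero_or_pos d with h0 | h0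
    · exfalso
      rw [h0, mul_zero] at hd
      exact (Nat.ordProj_pos (Nat.card C) p).ne' hd
    · exact h0
  have h7 : C.relIndex (P : Subgroup G) = d * ordProj[p] C.index := by
    apply Nat.eq_of_mul_eq_mul_left (pow_pos hp.out.pos r)
    rw [h1]
    ring
  rw [h7]
  exact Nat.le_mul_of_pos_left _ hd0

theorem ito_comm_of_central_mul {X z a : G} (hz : z ∈ center G)
    (h : X * (z * a) = (z * a) * X) : X * a = a * X := by
  have hzc : X * z = z * X := mem_center_iff.1 hz X
  have h3 : z * (X * a) = z * (a * X) := by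
    calc z * (X * a) = (z * X) * a := (mul_assoc _ _ _).symm
      _ = (X * z) * a := by rw [hzc]
      _ = X * (z * a) := mul_assoc _ _ _
      _ = (z * a) * X := h
      _ = z * (a * X) := mul_assoc _ _ _
  exact mul_left_cancel h3

/-- The cross inequality: the `p`-part of `n` is smaller than the `q`-part of `|cent a / Z|`. -/
theorem ito_cross_lt [Finite G] {n : ℕ} (h : ItoHyp G n) {p q : ℕ} [hp : Fact p.Prime]
    [hq : Fact q.Prime] (hpq : p ≠ q) (P : Sylow p G) {a : G} (haP : a ∈ (P : Subgroup G))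
    (haZ : a ∉ center G) (hcomm : ∀ t ∈ (P : Subgroup G), t * a * t⁻¹ * a⁻¹ ∈ center G)
    {w : G} (hwC : w ∈ centralizer ({a} : Set G)) (hwZ : w ∉ center G) {j : ℕ}
    (how : orderOf w = q ^ j) :
    ordProj[p] n < ordProj[q] (Nat.card (itoQ a)) := by
  obtain ⟨k, hk⟩ := P.2 ⟨a, haP⟩
  have hak : a ^ (p ^ k) = 1 := by simpa using congrArg Subtype.val hk
  obtain ⟨i, -, hoa⟩ := (Nat.dvd_prime_pow hp.out).1 (orderOf_dvd_of_pow_eq_one hak)
  have haw : Commute a w := (mem_centralizer_singleton_iff.1 hwC).symm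
  obtain ⟨heq, hab⟩ := ito_cent_abelian h hpq haZ hwZ haw hoa how
  have hwq : w ^ (q ^ j) = 1 := by rw [← how]; exact pow_orderOf_eq_one w
  -- conjugates by `P` of elements of `cent a` stay in `cent a`
  have hconjC : ∀ t ∈ (P : Subgroup G), ∀ c ∈ centralizer ({a} : Set G),
      t * c * t⁻¹ ∈ centralizer ({a} : Set G) := by
    intro t ht c hc
    have hz := hcomm t ht
    have h1 : t * a * t⁻¹ = (t * a * t⁻¹ * a⁻¹) * a := by group
    rw [mem_centralizer_singleton_iff] at hc ⊢
    have h2 : (t * c * t⁻¹) * (t * a * t⁻¹) = (t * a * t⁻¹) * (t * c * t⁻¹) := by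
      have e1 : (t * c * t⁻¹) * (t * a * t⁻¹) = t * (c * a) * t⁻¹ := by group
      have e2 : (t * a * t⁻¹) * (t * c * t⁻¹) = t * (a * c) * t⁻¹ := by group
      rw [e1, e2, hc]
    rw [h1] at h2
    exact ito_comm_of_central_mul hz h2
  -- the subgroup of `q`-elements of `cent a`
  let W : Subgroup G :=
    { carrier := {g | g ∈ centralizer ({a} : Set G) ∧ ∃ i : ℕ, g ^ (q ^ i) = 1}
      one_mem' := ⟨Subgroup.one_mem _, 0, one_pow _⟩
      mul_mem' := by
        rintro x y ⟨hx, i₁, hx1⟩ ⟨hy, i₂, hy1⟩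
        refine ⟨Subgroup.mul_mem _ hx hy, i₁ + i₂, ?_⟩
        have hc : Commute x y := hab x hx y hy
        rw [hc.mul_pow, pow_add, pow_mul, hx1, one_pow, mul_comm (q ^ i₁), pow_mul, hy1, one_pow,
          one_mul]
      inv_mem' := by
        rintro x ⟨hx, i₁, hx1⟩
        exact ⟨Subgroup.inv_mem _ hx, i₁, by rw [inv_pow, hx1, inv_one]⟩ }
  have hWmem : ∀ g : G, g ∈ W ↔ g ∈ centralizer ({a} : Set G) ∧ ∃ i : ℕ, g ^ (q ^ i) = 1 :=
    fun g => Iff.rfl
  have hWp : IsPGroup q ↥W := by
    intro g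
    obtain ⟨-, i₁, hi₁⟩ := (hWmem g).1 g.2
    exact ⟨i₁, Subtype.ext (by simpa using hi₁)⟩
  set Wb : Subgroup (G ⧸ center G) := W.map (QuotientGroup.mk' (center G)) with hWb
  have hWble : Wb ≤ itoQ a := by
    unfold itoQ
    exact map_mono (fun g hg => ((hWmem g).1 hg).1)
  have hWbp : IsPGroup q ↥Wb := hWp.map _
  obtain ⟨e, he⟩ := hWbp.exists_card_eq
  have hQ0 : Nat.card (itoQ a) ≠ 0 := Nat.card_pos.ne'
  have hle : q ^ e ≤ ordProj[q] (Nat.card (itoQ a)) := by
    apply Nat.le_of_dvd (Nat.ordProj_pos _ _)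
    rw [← hq.out.pow_dvd_iff_dvd_ordProj hQ0, ← he]
    exact Subgroup.card_dvd_of_le hWble
  -- the action of `P` on `G / Z` by conjugation
  let φ : ↥(P : Subgroup G) →* MulAut (G ⧸ center G) :=
    (MulAut.conj).comp ((QuotientGroup.mk' (center G)).comp (P : Subgroup G).subtype)
  letI : MulAction ↥(P : Subgroup G) (G ⧸ center G) := MulAction.compHom _ φ
  have hsmul : ∀ (t : ↥(P : Subgroup G)) (x : G), t • (QuotientGroup.mk' (center G) x) =
      QuotientGroup.mk' (center G) ((t : G) * x * (t : G)⁻¹) := by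
    intro t x
    show (φ t) (QuotientGroup.mk' (center G) x) = _
    simp [φ, MulAut.conj_apply]
  have hstab : MulAction.stabilizer ↥(P : Subgroup G) (QuotientGroup.mk' (center G) w) ≤
      (centralizer ({a} : Set G)).subgroupOf (P : Subgroup G) := by
    intro t ht
    rw [MulAction.mem_stabilizer_iff, hsmul] at ht
    rw [mem_subgroupOf]
    have hz : w⁻¹ * ((t : G) * w * (t : G)⁻¹) ∈ center G := by
      rw [QuotientGroup.mk'_apply, QuotientGroup.mk'_apply] at ht
      exact QuotientGroup.eq.1 ht.symm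
    set z' := w⁻¹ * ((t : G) * w * (t : G)⁻¹) with hz'
    have htw : (t : G) * w * (t : G)⁻¹ = w * z' := by rw [hz']; group
    have hcw : Commute w⁻¹ ((t : G) * w * (t : G)⁻¹) :=
      hab _ (Subgroup.inv_mem _ hwC) _ (hconjC t t.2 w hwC)
    have hzq : z' ^ (q ^ j) = 1 := by
      rw [hz', hcw.mul_pow, conj_pow, inv_pow, hwq, inv_one, one_mul, mul_one, mul_inv_cancel]
    obtain ⟨k', hk'⟩ := P.2 t
    have htk : (t : G) ^ (p ^ k') = 1 := by simpa using congrArg Subtype.val hk'
    have hpow : ∀ m : ℕ, (t : G) ^ m * w * ((t : G) ^ m)⁻¹ = w * z' ^ m := by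
      intro m
      induction m with
      | zero => simp
      | succ m ih =>
        have e1 : (t : G) ^ (m + 1) * w * ((t : G) ^ (m + 1))⁻¹ =
            (t : G) * ((t : G) ^ m * w * ((t : G) ^ m)⁻¹) * (t : G)⁻¹ := by
          rw [pow_succ']; group
        rw [e1, ih]
        have e2 : (t : G) * (w * z' ^ m) * (t : G)⁻¹ =
            ((t : G) * w * (t : G)⁻¹) * ((t : G) * z' ^ m * (t : G)⁻¹) := by group
        have hzm : z' ^ m ∈ center G := (center G).pow_mem hz m
        have e3 : (t : G) * z' ^ m * (t : G)⁻¹ = z' ^ m := by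
          rw [mem_center_iff.1 hzm (t : G), mul_assoc, mul_inv_cancel, mul_one]
        rw [e2, e3, htw, mul_assoc, ← pow_succ']
    have hzp : z' ^ (p ^ k') = 1 := by
      have := hpow (p ^ k')
      rw [htk, one_mul, inv_one, mul_one] at this
      exact (mul_eq_left.1 this.symm)
    have ho : orderOf z' = 1 := by
      have h1 : orderOf z' ∣ q ^ j := orderOf_dvd_of_pow_eq_one hzq
      have h2 : orderOf z' ∣ p ^ k' := orderOf_dvd_of_pow_eq_one hzp
      exact Nat.eq_one_of_dvd_coprimes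
        (Nat.Coprime.pow _ _ ((Nat.coprime_primes hq.out hp.out).2 (Ne.symm hpq))) h1 h2
    have hz1 : z' = 1 := orderOf_eq_one_iff.1 ho
    rw [hz1, mul_one] at htw
    rw [heq, mem_centralizer_singleton_iff]
    calc (t : G) * w = ((t : G) * w * (t : G)⁻¹) * (t : G) := by group
      _ = w * (t : G) := by rw [htw]
  have horb : MulAction.orbit ↥(P : Subgroup G) (QuotientGroup.mk' (center G) w) ⊆
      (Wb : Set (G ⧸ center G)) \ {1} := by
    rintro _ ⟨t, rfl⟩
    show t • (QuotientGroup.mk' (center G) w) ∈ _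
    rw [hsmul]
    refine ⟨mem_map_of_mem _ ((hWmem _).2 ⟨hconjC t t.2 w hwC, j, ?_⟩), ?_⟩
    · rw [conj_pow, hwq, mul_one, mul_inv_cancel]
    · rw [Set.mem_singleton_iff, ito_mk_eq_one_iff]
      intro hz
      apply hwZ
      have hn : (center G).Normal := inferInstance
      have := hn.conj_mem _ hz (t : G)⁻¹
      have e : (t : G)⁻¹ * ((t : G) * w * (t : G)⁻¹) * ((t : G)⁻¹)⁻¹ = w := by group
      rwa [e] at this
  -- counting
  have hc1 : (MulAction.stabilizer ↥(P : Subgroup G) (QuotientGroup.mk' (center G) w)).index =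
      (MulAction.orbit ↥(P : Subgroup G) (QuotientGroup.mk' (center G) w)).ncard :=
    MulAction.index_stabilizer _ _
  have hc2 : (MulAction.orbit ↥(P : Subgroup G) (QuotientGroup.mk' (center G) w)).ncard ≤
      ((Wb : Set (G ⧸ center G)) \ {1}).ncard := Set.ncard_le_ncard horb (Set.toFinite _)
  have hc3 : ((Wb : Set (G ⧸ center G)) \ {1}).ncard = q ^ e - 1 := by
    rw [Set.ncard_sdiff_singleton_of_mem (Wb.one_mem), ← he]
    rfl
  have hc4 : ((centralizer ({a} : Set G)).subgroupOf (P : Subgroup G)).index ≤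
      (MulAction.stabilizer ↥(P : Subgroup G) (QuotientGroup.mk' (center G) w)).index :=
    Nat.le_of_dvd (Nat.pos_of_ne_zero (Subgroup.index_ne_zero_of_finite))
      (Subgroup.index_dvd_of_le hstab)
  have hc5 : ordProj[p] n ≤ ((centralizer ({a} : Set G)).subgroupOf (P : Subgroup G)).index := by
    have := ito_ordProj_le_relIndex P (centralizer ({a} : Set G))
    rwa [ito_index_of_not_mem h haZ] at this
  have hpos : 0 < q ^ e := pow_pos hq.out.pos e
  calc ordProj[p] n ≤ q ^ e - 1 := by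
        rw [← hc3]
        exact hc5.trans (hc4.trans (hc1 ▸ hc2))
    _ < q ^ e := Nat.sub_lt hpos Nat.one_pos
    _ ≤ ordProj[q] (Nat.card (itoQ a)) := hle

theorem ito_card_itoQ_eq_relIndex [Finite G] (x : G) :
    Nat.card (itoQ x) = (center G).relIndex (centralizer ({x} : Set G)) := by
  have h1 : (itoQ x).index = (centralizer ({x} : Set G)).index := by
    unfold itoQ
    exact index_map_eq _ (QuotientGroup.mk'_surjective _)
      (by rw [QuotientGroup.ker_mk']; exact ito_center_le_cent x)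
  have h2 : Nat.card (itoQ x) * (itoQ x).index = Nat.card (G ⧸ center G) := (itoQ x).card_mul_index
  have h3 : (center G).relIndex (centralizer ({x} : Set G)) * (centralizer ({x} : Set G)).index =
      (center G).index := relIndex_mul_index (ito_center_le_cent x)
  have h4 : Nat.card (G ⧸ center G) = (center G).index := rfl
  rw [h1, h4, ← h3] at h2
  exact Nat.eq_of_mul_eq_mul_right (Nat.pos_of_ne_zero (Subgroup.index_ne_zero_of_finite)) h2

/-- `|cent u / Z| ≤ n` when `cent u` is abelian. -/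
theorem ito_card_itoQ_le [Finite G] {n : ℕ} (h : ItoHyp G n) {u : G} (hu : u ∉ center G)
    (hab : ∀ g ∈ centralizer ({u} : Set G), ∀ g' ∈ centralizer ({u} : Set G), g * g' = g' * g) :
    Nat.card (itoQ u) ≤ n := by
  have hidx := ito_index_of_not_mem h hu
  have hne : centralizer ({u} : Set G) ≠ ⊤ := by
    intro htop
    rw [htop, index_top] at hidx
    exact h.1.ne hidx
  obtain ⟨g, -, hg⟩ := SetLike.exists_of_lt (lt_top_iff_ne_top.2 hne)
  have hgZ : g ∉ center G := fun hz => hg (ito_center_le_cent u hz)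
  have hinf : centralizer ({u} : Set G) ⊓ centralizer ({g} : Set G) = center G := by
    apply le_antisymm
    · rintro c ⟨hc1, hc2⟩
      by_contra hcZ
      have heq := ito_cent_eq_of_mem_abelian h hu hcZ hc1 hab
      apply hg
      rw [heq, mem_centralizer_singleton_iff]
      exact (mem_centralizer_singleton_iff.1 hc2).symm
    · exact le_inf (ito_center_le_cent u) (ito_center_le_cent g)
  rw [ito_card_itoQ_eq h hu hgZ, ito_card_itoQ_eq_relIndex, ← hinf, inf_relIndex_right, ← hidx,
    ← relIndex_top_right]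
  apply relIndex_le_of_le_right le_top
  rw [relIndex_top_right]
  exact Subgroup.index_ne_zero_of_finite

theorem ito_prod_lt_aux {ι : Type*} [DecidableEq ι] (a b : ι → ℕ) :
    ∀ (k : ℕ) (S : Finset ι), S.card = k + 2 → (∀ i ∈ S, ∀ j ∈ S, i ≠ j → a i < b j) →
      ∏ i ∈ S, a i < ∏ i ∈ S, b i := by
  intro k
  induction k with
  | zero =>
    intro S hS h
    obtain ⟨x, y, hxy, rfl⟩ := Finset.card_eq_two.1 hS
    rw [Finset.prod_pair hxy, Finset.prod_pair hxy, mul_comm (b x)]
    have h1 := h x (by simp) y (by simp) hxy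
    have h2 := h y (by simp) x (by simp) (Ne.symm hxy)
    exact Nat.mul_lt_mul'' h1 h2
  | succ k ih =>
    intro S hS h
    have hne : S.Nonempty := by
      rw [← Finset.card_pos, hS]; omega
    obtain ⟨i₀, hi₀, hmax⟩ := Finset.exists_max_image S b hne
    have hcard : (S.erase i₀).card = k + 2 := by
      rw [Finset.card_erase_of_mem hi₀, hS]; rfl
    have hlt := ih (S.erase i₀) hcard (fun i hi j hj hij =>
      h i (Finset.mem_of_mem_erase hi) j (Finset.mem_of_mem_erase hj) hij)
    have hne' : (S.erase i₀).Nonempty := by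
      rw [← Finset.card_pos, hcard]; omega
    obtain ⟨j, hj⟩ := hne'
    have hj' := Finset.mem_of_mem_erase hj
    have hji : i₀ ≠ j := (Finset.ne_of_mem_erase hj).symm
    have h1 : a i₀ < b j := h i₀ hi₀ j hj' hji
    have h2 : b j ≤ b i₀ := hmax j hj'
    rw [← Finset.mul_prod_erase S a hi₀, ← Finset.mul_prod_erase S b hi₀]
    exact Nat.mul_lt_mul_of_le_of_lt (h1.le.trans h2) hlt (lt_of_le_of_lt (Nat.zero_le _) (lt_of_lt_of_le h1 h2))

theorem ito_arith {n m : ℕ} (hn : 0 < n) (hm : 0 < m)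
    (hsub : ∀ ℓ : ℕ, ℓ.Prime → ℓ ∣ n → ℓ ∣ m)
    (hcross : ∀ ℓ ℓ' : ℕ, ℓ.Prime → ℓ'.Prime → ℓ ∣ m → ℓ' ∣ m → ℓ ≠ ℓ' →
      ordProj[ℓ] n < ordProj[ℓ'] m)
    {p q : ℕ} (hp : p.Prime) (hq : q.Prime) (hpm : p ∣ m) (hqm : q ∣ m) (hpq : p ≠ q) :
    n < m := by
  have hn' : n = ∏ ℓ ∈ m.primeFactors, ordProj[ℓ] n := by
    conv_lhs => rw [← Nat.prod_factorization_pow_eq_self hn.ne']
    apply Finsupp.prod_of_support_subset
    · rw [Nat.support_factorization]
      intro ℓ hℓ
      rw [Nat.mem_primeFactors] at hℓ ⊢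
      exact ⟨hℓ.1, hsub ℓ hℓ.1 hℓ.2.1, hm.ne'⟩
    · intro i _
      exact pow_zero i
  have hm' : m = ∏ ℓ ∈ m.primeFactors, ordProj[ℓ] m := by
    conv_lhs => rw [← Nat.prod_factorization_pow_eq_self hm.ne']
    apply Finsupp.prod_of_support_subset
    · rw [Nat.support_factorization]
    · intro i _
      exact pow_zero i
  have hcard : 2 ≤ m.primeFactors.card := by
    have hsub2 : ({p, q} : Finset ℕ) ⊆ m.primeFactors := by
      intro x hx
      rw [Finset.mem_insert, Finset.mem_singleton] at hx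
      rcases hx with rfl | rfl
      · exact Nat.mem_primeFactors.2 ⟨hp, hpm, hm.ne'⟩
      · exact Nat.mem_primeFactors.2 ⟨hq, hqm, hm.ne'⟩
    calc 2 = ({p, q} : Finset ℕ).card := (Finset.card_pair hpq).symm
      _ ≤ m.primeFactors.card := Finset.card_le_card hsub2
  obtain ⟨k, hk⟩ := Nat.exists_eq_add_of_le hcard
  have key : ∏ ℓ ∈ m.primeFactors, ordProj[ℓ] n < ∏ ℓ ∈ m.primeFactors, ordProj[ℓ] m := by
    apply ito_prod_lt_aux _ _ k m.primeFactors (by omega)
    intro i hi j hj hij
    rw [Nat.mem_primeFactors] at hi hj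
    exact hcross i j hi.1 hj.1 hi.2.1 hj.2.1 hij
  calc n = ∏ ℓ ∈ m.primeFactors, ordProj[ℓ] n := hn'
    _ < ∏ ℓ ∈ m.primeFactors, ordProj[ℓ] m := key
    _ = m := hm'.symm


/-- A Sylow subgroup for a prime dividing `|cent x / Z|` is not central. -/
theorem ito_sylow_not_le_center [Finite G] {n : ℕ} (h : ItoHyp G n) {x : G} (hx : x ∉ center G)
    {ℓ : ℕ} [hℓ : Fact ℓ.Prime] (hdvd : ℓ ∣ Nat.card (itoQ x)) (L : Sylow ℓ G) :
    ¬ (L : Subgroup G) ≤ center G := by
  intro hle
  have h1 : (center G).index ∣ (L : Subgroup G).index := index_dvd_of_le hle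
  have h2 : ¬ ℓ ∣ (L : Subgroup G).index := L.not_dvd_index
  apply h2
  refine dvd_trans ?_ h1
  have h3 : Nat.card (itoQ x) * n = Nat.card (G ⧸ center G) := ito_card_itoQ_mul h hx
  have h4 : Nat.card (G ⧸ center G) = (center G).index := rfl
  rw [← h4, ← h3]
  exact dvd_mul_of_dvd_left hdvd n

/-- Main structural result: `n` and `|G / Z(G)|` are powers of one prime. -/
theorem ito_quot_prime_pow [Finite G] {n : ℕ} (h : ItoHyp G n) (hex : ∃ x : G, x ∉ center G) :
    ∃ p : ℕ, p.Prime ∧ ∃ a b : ℕ, n = p ^ a ∧ Nat.card (G ⧸ center G) = p ^ b := by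
  obtain ⟨x₀, hx₀⟩ := hex
  have hn0 : 0 < n := lt_trans Nat.zero_lt_one h.1
  set m := Nat.card (itoQ x₀) with hm
  have hmn : m * n = Nat.card (G ⧸ center G) := ito_card_itoQ_mul h hx₀
  have hm0 : 0 < m := Nat.card_pos
  have hm1 : m ≠ 1 := by
    intro h1
    have hbot : itoQ x₀ = ⊥ := Subgroup.card_eq_one.1 h1
    have hmem : (QuotientGroup.mk' (center G)) x₀ ∈ itoQ x₀ :=
      mem_map_of_mem _ (mem_centralizer_singleton_iff.2 rfl)
    rw [hbot, mem_bot, ito_mk_eq_one_iff] at hmem
    exact hx₀ hmem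
  have hmeq : ∀ y : G, y ∉ center G → Nat.card (itoQ y) = m := fun y hy =>
    ito_card_itoQ_eq h hy hx₀
  -- primes dividing `n` divide `m`
  have hsub : ∀ ℓ : ℕ, ℓ.Prime → ℓ ∣ n → ℓ ∣ m := by
    intro ℓ hℓ hℓn
    haveI : Fact ℓ.Prime := ⟨hℓ⟩
    obtain ⟨L⟩ : Nonempty (Sylow ℓ G) := inferInstance
    by_cases hLZ : (L : Subgroup G) ≤ center G
    · exfalso
      have h1 : (centralizer ({x₀} : Set G)).index ∣ (L : Subgroup G).index :=
        index_dvd_of_le (hLZ.trans (ito_center_le_cent x₀))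
      rw [ito_index_of_not_mem h hx₀] at h1
      exact L.not_dvd_index (hℓn.trans h1)
    · obtain ⟨y, hyL, hyZ⟩ := Set.not_subset.1 hLZ
      obtain ⟨k, hk⟩ := L.2 ⟨y, hyL⟩
      have hyk : y ^ (ℓ ^ k) = 1 := by simpa using congrArg Subtype.val hk
      obtain ⟨i, -, hoy⟩ := (Nat.dvd_prime_pow hℓ).1 (orderOf_dvd_of_pow_eq_one hyk)
      rw [← hmeq y hyZ]
      exact ito_dvd_card_itoQ hyZ (mem_centralizer_singleton_iff.2 rfl) hoy
  -- the construction for a pair of primes
  have hpair : ∀ ℓ ℓ' : ℕ, ℓ.Prime → ℓ'.Prime → ℓ ∣ m → ℓ' ∣ m → ℓ ≠ ℓ' →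
      ordProj[ℓ] n < ordProj[ℓ'] m ∧ m ≤ n := by
    intro ℓ ℓ' hℓ hℓ' hℓm hℓ'm hne
    haveI : Fact ℓ.Prime := ⟨hℓ⟩
    haveI : Fact ℓ'.Prime := ⟨hℓ'⟩
    obtain ⟨L⟩ : Nonempty (Sylow ℓ G) := inferInstance
    have hLZ := ito_sylow_not_le_center h hx₀ hℓm L
    obtain ⟨a, haL, haZ, hcomm⟩ := ito_exists_central_mod (L : Subgroup G) L.2 hLZ
    have hdvd : ℓ' ∣ Nat.card (itoQ a) := by rw [hmeq a haZ]; exact hℓ'm
    obtain ⟨w, hwC, hwZ, j, how⟩ := ito_exists_of_dvd_card_itoQ hdvd
    have h1 := ito_cross_lt h hne L haL haZ hcomm hwC hwZ how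
    rw [hmeq a haZ] at h1
    refine ⟨h1, ?_⟩
    obtain ⟨k, hk⟩ := L.2 ⟨a, haL⟩
    have hak : a ^ (ℓ ^ k) = 1 := by simpa using congrArg Subtype.val hk
    obtain ⟨i, -, hoa⟩ := (Nat.dvd_prime_pow hℓ).1 (orderOf_dvd_of_pow_eq_one hak)
    have haw : Commute a w := (mem_centralizer_singleton_iff.1 hwC).symm
    obtain ⟨-, hab⟩ := ito_cent_abelian h hne haZ hwZ haw hoa how
    have := ito_card_itoQ_le h haZ hab
    rwa [hmeq a haZ] at this
  -- `m` has a unique prime divisor
  have hp : (m.minFac).Prime := Nat.minFac_prime hm1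
  have hpm : m.minFac ∣ m := Nat.minFac_dvd m
  have huniq : ∀ q : ℕ, q.Prime → q ∣ m → q = m.minFac := by
    intro q hq hqm
    by_contra hne
    have hlt : n < m := ito_arith hn0 hm0 hsub
      (fun ℓ ℓ' hℓ hℓ' h1 h2 h3 => (hpair ℓ ℓ' hℓ hℓ' h1 h2 h3).1) hq hp hqm hpm hne
    have hle := (hpair q m.minFac hq hp hqm hpm hne).2
    exact absurd hlt (not_lt.2 hle)
  refine ⟨m.minFac, hp, ?_⟩
  have hmpow : m = m.minFac ^ m.primeFactorsList.length :=
    Nat.eq_prime_pow_of_unique_prime_dvd hm0.ne' (fun {d} hd hdm => huniq d hd hdm)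
  have hnpow : n = m.minFac ^ n.primeFactorsList.length :=
    Nat.eq_prime_pow_of_unique_prime_dvd hn0.ne'
      (fun {d} hd hdn => huniq d hd (hsub d hd hdn))
  refine ⟨n.primeFactorsList.length, m.primeFactorsList.length + n.primeFactorsList.length,
    hnpow, ?_⟩
  rw [← hmn, pow_add, ← hmpow, ← hnpow]

/-- The abelian normal subgroup `A` with `G / A` of exponent dividing `p`. -/
theorem ito_exists_abelian_normal [Finite G] {n : ℕ} (h : ItoHyp G n) {p b : ℕ}
    [hp : Fact p.Prime] (hcard : Nat.card (G ⧸ center G) = p ^ b) (hex : ∃ x : G, x ∉ center G) :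
    ∃ A : Subgroup G, A.Normal ∧ (∀ x ∈ A, ∀ y ∈ A, x * y = y * x) ∧ ∀ y : G, y ^ p ∈ A := by
  have hQ : IsPGroup p (G ⧸ center G) := IsPGroup.of_card hcard
  haveI : Nontrivial (G ⧸ center G) := by
    obtain ⟨x, hx⟩ := hex
    refine ⟨⟨QuotientGroup.mk' (center G) x, 1, ?_⟩⟩
    intro h1
    exact hx (ito_mk_eq_one_iff.1 h1)
  haveI : Nontrivial ↥(center (G ⧸ center G)) := hQ.center_nontrivial
  have hZp : IsPGroup p ↥(center (G ⧸ center G)) := hQ.to_subgroup _
  obtain ⟨e, he⟩ := hZp.exists_card_eq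
  have he0 : e ≠ 0 := by
    rintro rfl
    rw [pow_zero] at he
    have h1 : Subsingleton ↥(center (G ⧸ center G)) := (Nat.card_eq_one_iff_unique.1 he).1
    exact not_subsingleton _ h1
  have hdvd : p ∣ Nat.card ↥(center (G ⧸ center G)) := by
    rw [he]; exact dvd_pow_self p he0
  obtain ⟨zb, hzb⟩ := exists_prime_orderOf_dvd_card' p hdvd
  obtain ⟨z, hz⟩ := QuotientGroup.mk'_surjective (center G) (zb : G ⧸ center G)
  have hozb : orderOf (zb : G ⧸ center G) = p := by rw [Subgroup.orderOf_coe]; exact hzb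
  have hzZ : z ∉ center G := by
    intro hzc
    rw [← ito_mk_eq_one_iff, hz] at hzc
    rw [hzc, orderOf_one] at hozb
    exact hp.out.one_lt.ne hozb
  have hzp : (QuotientGroup.mk' (center G) z) ^ p = 1 := by
    rw [hz, ← hozb]; exact pow_orderOf_eq_one _
  have hzcomm : ∀ g : G, Commute (QuotientGroup.mk' (center G) g) (QuotientGroup.mk' (center G) z) := by
    intro g
    rw [hz]
    exact (mem_center_iff.1 zb.2 _)
  have hconjz : ∀ g : G, g * z * g⁻¹ * z⁻¹ ∈ center G := by
    intro g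
    rw [← ito_mk_eq_one_iff, map_mul, map_mul, map_mul, map_inv, map_inv, (hzcomm g).eq]
    group
  -- `cent z` is normalized by `G`
  have hnorm : ∀ g : G, ∀ c ∈ centralizer ({z} : Set G), g * c * g⁻¹ ∈ centralizer ({z} : Set G) := by
    intro g c hc
    have h1 : g * z * g⁻¹ = (g * z * g⁻¹ * z⁻¹) * z := by group
    rw [mem_centralizer_singleton_iff] at hc ⊢
    have h2 : (g * c * g⁻¹) * (g * z * g⁻¹) = (g * z * g⁻¹) * (g * c * g⁻¹) := by
      have e1 : (g * c * g⁻¹) * (g * z * g⁻¹) = g * (c * z) * g⁻¹ := by group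
      have e2 : (g * z * g⁻¹) * (g * c * g⁻¹) = g * (z * c) * g⁻¹ := by group
      rw [e1, e2, hc]
    rw [h1] at h2
    exact ito_comm_of_central_mul (hconjz g) h2
  -- key: `y ^ p` noncentral implies `cent y = cent z`
  have hkey : ∀ y : G, y ^ p ∉ center G → centralizer ({y} : Set G) = centralizer ({z} : Set G) := by
    intro y hyp
    have hyZ : y ∉ center G := fun hy => hyp ((center G).pow_mem hy p)
    -- `(y z)^p = y^p * c` with `c` central
    have hc : (y ^ p)⁻¹ * (y * z) ^ p ∈ center G := by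
      rw [← ito_mk_eq_one_iff, map_mul, map_inv, map_pow, map_pow, map_mul, (hzcomm y).mul_pow, hzp,
        mul_one, inv_mul_cancel]
    set c := (y ^ p)⁻¹ * (y * z) ^ p with hcdef
    have hyzp : (y * z) ^ p = y ^ p * c := by rw [hcdef]; group
    have hyzZ : y * z ∉ center G := by
      intro hyz
      apply hyp
      have : y ^ p = (y * z) ^ p * c⁻¹ := by rw [hyzp]; group
      rw [this]
      exact (center G).mul_mem ((center G).pow_mem hyz p) ((center G).inv_mem hc)
    have hle1 : centralizer ({y * z} : Set G) ≤ centralizer ({y ^ p} : Set G) := by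
      intro g hg
      have hg' := ito_cent_le_cent_pow (y * z) p hg
      rw [mem_centralizer_singleton_iff] at hg' ⊢
      rw [hyzp] at hg'
      -- g * (y^p * c) = (y^p * c) * g, c central
      have hcc : g * c = c * g := mem_center_iff.1 hc g
      have h3 : (g * y ^ p) * c = (y ^ p * g) * c := by
        calc (g * y ^ p) * c = g * (y ^ p * c) := mul_assoc _ _ _
          _ = (y ^ p * c) * g := hg'
          _ = y ^ p * (c * g) := mul_assoc _ _ _
          _ = y ^ p * (g * c) := by rw [hcc]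
          _ = (y ^ p * g) * c := (mul_assoc _ _ _).symm
      exact mul_right_cancel h3
    have heq1 := ito_cent_eq_of_le h hyzZ hyp hle1
    have heq2 := ito_cent_eq_of_le h hyZ hyp (ito_cent_le_cent_pow y p)
    have heq3 : centralizer ({y * z} : Set G) = centralizer ({y} : Set G) := heq1.trans heq2.symm
    apply ito_cent_eq_of_le h hyZ hzZ
    intro g hg
    have hg' : g ∈ centralizer ({y * z} : Set G) := heq3 ▸ hg
    rw [mem_centralizer_singleton_iff] at hg hg' ⊢
    have : g * z = y⁻¹ * (g * (y * z)) := by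
      rw [← mul_assoc g y z, hg, mul_assoc, inv_mul_cancel_left]
    rw [this, hg', mul_assoc, inv_mul_cancel_left]
  refine ⟨centralizer ({z} : Set G) ⊓ centralizer (centralizer ({z} : Set G) : Set G), ?_, ?_, ?_⟩
  · constructor
    intro x hx g
    obtain ⟨hx1, hx2⟩ := hx
    refine ⟨hnorm g x hx1, ?_⟩
    show g * x * g⁻¹ ∈ centralizer (centralizer ({z} : Set G) : Set G)
    rw [mem_centralizer_iff]
    intro c hc
    have hc' : g⁻¹ * c * g ∈ centralizer ({z} : Set G) := by
      have := hnorm g⁻¹ c hc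
      rwa [inv_inv] at this
    have hx2' : x ∈ centralizer (centralizer ({z} : Set G) : Set G) := hx2
    rw [mem_centralizer_iff] at hx2'
    have h1 := hx2' (g⁻¹ * c * g) hc'
    have e1 : c * (g * x * g⁻¹) = g * ((g⁻¹ * c * g) * x) * g⁻¹ := by group
    have e2 : g * x * g⁻¹ * c = g * (x * (g⁻¹ * c * g)) * g⁻¹ := by group
    rw [e1, e2, h1]
  · rintro x ⟨hx1, hx2⟩ y ⟨hy1, hy2⟩
    have hx2' : x ∈ centralizer (centralizer ({z} : Set G) : Set G) := hx2
    rw [mem_centralizer_iff] at hx2'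
    exact (hx2' y hy1).symm
  · intro y
    by_cases hyp : y ^ p ∈ center G
    · refine ⟨ito_center_le_cent z hyp, ?_⟩
      exact Subgroup.center_le_centralizer _ hyp
    · have heq := hkey y hyp
      apply Subgroup.pow_mem
      refine ⟨?_, ?_⟩
      · show y ∈ centralizer ({z} : Set G)
        rw [← heq, mem_centralizer_singleton_iff]
      · show y ∈ centralizer (centralizer ({z} : Set G) : Set G)
        rw [mem_centralizer_iff]
        intro c hc
        have hc' : c ∈ centralizer ({y} : Set G) := heq ▸ hc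
        rw [mem_centralizer_singleton_iff] at hc'
        exact hc'

end Cfsg.Agent.Lib.Helper21
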