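import Mathlib
import Cfsg.Agent.Lib.Helper21.ItoTwo

/-!
# Camina pairs, part 1: basic facts

`CamHyp N`: every `g ∉ N` is conjugate to every element of `g N`.
-/

set_option autoImplicit false
set_option linter.style.haveILetI false
set_option linter.unnecessarySimpa false
set_option linter.unusedVariables false

namespace Cfsg.Agent.Lib.Helper21

open Subgroup

universe u

variable {G : Type u} [Group G]

/-- The Camina hypothesis. -/
def CamHyp (N : Subgroup G) : Prop :=
  ∀ g : G, g ∉ N → ∀ n ∈ N, ∃ x : G, x * g * x⁻¹ = g * n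

theorem cam_orderOf_mul {N : Subgroup G} (h : CamHyp N) {g n : G} (hg : g ∉ N) (hn : n ∈ N) :
    orderOf (g * n) = orderOf g := by
  obtain ⟨x, hx⟩ := h g hg n hn
  rw [← hx]
  have h1 := (MulAut.conj x).orderOf_eq g
  rw [MulAut.conj_apply] at h1
  exact h1

theorem cam_eq_one_of_coprime [Finite G] {N : Subgroup G} (h : CamHyp N) {g n : G} (hg : g ∉ N)
    (hn : n ∈ N) (hc : Commute g n) (hcop : (orderOf g).Coprime (orderOf n)) : n = 1 := by
  have h1 := cam_orderOf_mul h hg hn
  rw [hc.orderOf_mul_eq_mul_orderOf_of_coprime hcop] at h1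
  have hpos : 0 < orderOf g := orderOf_pos g
  have h2 : orderOf n = 1 := Nat.eq_of_mul_eq_mul_left hpos (h1.trans (mul_one _).symm)
  exact orderOf_eq_one_iff.1 h2

/-- A normal subgroup of a `p`-group meets the centre. -/
theorem cam_normal_meets_center {P : Type*} [Group P] [Finite P] {p : ℕ} [hp : Fact p.Prime]
    (hP : IsPGroup p P) (N : Subgroup P) [hN : N.Normal] (hne : N ≠ ⊥) :
    ∃ b ∈ N, b ≠ 1 ∧ b ∈ Subgroup.center P := by
  classical
  have hPc : IsPGroup p (ConjAct P) := hP.of_equiv ConjAct.toConjAct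
  have hNp : IsPGroup p ↥N := hP.to_subgroup N
  haveI : Nontrivial ↥N := (Subgroup.nontrivial_iff_ne_bot N).2 hne
  have hdvd : p ∣ Nat.card ↥N := by
    obtain ⟨n, hn0, hn⟩ := hNp.nontrivial_iff_card.mp inferInstance
    exact hn.symm ▸ dvd_pow_self _ (ne_of_gt hn0)
  have hfix1 : (1 : ↥N) ∈ MulAction.fixedPoints (ConjAct P) ↥N := by
    intro g
    exact smul_one g
  obtain ⟨b, hb, hb1⟩ := hPc.exists_fixed_point_of_prime_dvd_card_of_fixed_point ↥N hdvd hfix1
  refine ⟨(b : P), b.2, ?_, ?_⟩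
  · intro h
    apply hb1
    apply Subtype.ext
    simpa using h.symm
  · rw [Subgroup.mem_center_iff]
    intro g
    have h1 := hb (ConjAct.toConjAct g)
    have h2 : ((ConjAct.toConjAct g • b : ↥N) : P) = (b : P) := by rw [h1]
    rw [ConjAct.Subgroup.val_conj_smul, ConjAct.toConjAct_smul] at h2
    calc g * (b : P) = (g * b * g⁻¹) * g := by group
      _ = b * g := by rw [h2]

/-- If `g ∉ N` is a `q`-element modulo `N` then `g` is a `q`-element. -/
theorem cam_isPElt [Finite G] {N : Subgroup G} (h : CamHyp N) {q : ℕ} [hq : Fact q.Prime] {g : G}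
    (hg : g ∉ N) {k : ℕ} (hk : g ^ (q ^ k) ∈ N) : ∃ j : ℕ, orderOf g = q ^ j := by
  obtain ⟨a, b, ha, hb, hab, ⟨k', hak⟩, hbq⟩ := ito_exists_parts q g
  have hbN : b ∈ N := by
    obtain ⟨m, hm⟩ := hb
    have hm' : g ^ m = b := hm
    have h1 : b ^ (q ^ k) ∈ N := by
      rw [← hm', ← zpow_natCast, ← zpow_mul, mul_comm, zpow_mul, zpow_natCast]
      exact N.zpow_mem hk m
    have hcop : (q ^ k).Coprime (orderOf b) := (Nat.Coprime.pow_right k hbq).symm
    obtain ⟨t, ht⟩ := exists_pow_eq_self_of_coprime hcop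
    rw [← ht]
    exact N.pow_mem h1 t
  have ha' : a = g * b⁻¹ := by rw [hab]; group
  have h1 : orderOf a = orderOf g := by
    rw [ha']; exact cam_orderOf_mul h hg (N.inv_mem hbN)
  obtain ⟨j, -, hj⟩ := (Nat.dvd_prime_pow hq.out).1 (orderOf_dvd_of_pow_eq_one hak)
  exact ⟨j, h1 ▸ hj⟩

/-- The centralizer in `N` of a `q`-element outside `N` consists of `q`-elements. -/
theorem cam_cent_isPElt [Finite G] {N : Subgroup G} (h : CamHyp N) {q : ℕ} [hq : Fact q.Prime]
    {g n : G} (hg : g ∉ N) {j : ℕ} (hgo : orderOf g = q ^ j) (hn : n ∈ N) (hc : Commute g n) :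
    ∃ i : ℕ, orderOf n = q ^ i := by
  obtain ⟨a, b, ha, hb, hab, ⟨k', hak⟩, hbq⟩ := ito_exists_parts q n
  have hbN : b ∈ N := (zpowers_le.2 hn) hb
  have hcb : Commute g b := by
    obtain ⟨m, hm⟩ := hb
    have hm' : n ^ m = b := hm
    rw [← hm']
    exact hc.zpow_right m
  have hb1 : b = 1 :=
    cam_eq_one_of_coprime h hg hbN hcb (by rw [hgo]; exact Nat.Coprime.pow_left j hbq.symm)
  have hna : n = a := by rw [hab, hb1, mul_one]
  obtain ⟨i, -, hi⟩ := (Nat.dvd_prime_pow hq.out).1 (orderOf_dvd_of_pow_eq_one hak)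
  exact ⟨i, hna ▸ hi⟩

/-- The coprime case gives the Frobenius alternative. -/
theorem cam_frobenius_of_coprime [Finite G] (N : Subgroup G) [hN : N.Normal] (h : CamHyp N)
    (hcop : (Nat.card N).Coprime N.index) :
    ∀ x ∈ N, x ≠ 1 → centralizer ({x} : Set G) ≤ N := by
  intro x hx hx1 c hc
  by_contra hcN
  have hcx : Commute c x := (mem_centralizer_singleton_iff.1 hc)
  set cb : G ⧸ N := QuotientGroup.mk' N c with hcb
  have hcb1 : cb ≠ 1 := by
    intro h1
    exact hcN ((QuotientGroup.eq_one_iff c).1 h1)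
  set m := orderOf cb with hm
  have hm1 : m ≠ 1 := fun h1 => hcb1 (orderOf_eq_one_iff.1 h1)
  have hmpos : 0 < m := orderOf_pos cb
  set s := Nat.minFac m with hs
  have hsp : s.Prime := Nat.minFac_prime hm1
  haveI : Fact s.Prime := ⟨hsp⟩
  have hsm : s ∣ m := Nat.minFac_dvd m
  obtain ⟨t, ht⟩ := hsm
  have ht0 : t ≠ 0 := by
    rintro rfl
    rw [mul_zero] at ht
    omega
  have hord : orderOf (cb ^ t) = s := by
    rw [orderOf_pow_of_dvd ht0 (Dvd.intro_left s ht.symm), ← hm, ht]
    exact Nat.mul_div_cancel _ (Nat.pos_of_ne_zero ht0)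
  set c' := c ^ t with hc'
  have hc'b : QuotientGroup.mk' N c' = cb ^ t := by rw [hc', map_pow]
  have hc'N : c' ∉ N := by
    intro hmem
    have h1 : QuotientGroup.mk' N c' = 1 := (QuotientGroup.eq_one_iff c').2 hmem
    rw [hc'b] at h1
    rw [h1, orderOf_one] at hord
    exact hsp.one_lt.ne hord
  have hc's : c' ^ (s ^ 1) ∈ N := by
    rw [pow_one]
    apply (QuotientGroup.eq_one_iff (c' ^ s)).1
    have h1 : QuotientGroup.mk' N (c' ^ s) = (cb ^ t) ^ s := by rw [map_pow, hc'b]
    have h2 : ((c' ^ s : G) : G ⧸ N) = QuotientGroup.mk' N (c' ^ s) := rfl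
    rw [h2, h1, ← hord, pow_orderOf_eq_one]
  obtain ⟨j, hj⟩ := cam_isPElt h hc'N hc's
  have hcx' : Commute c' x := hcx.pow_left t
  obtain ⟨i, hi⟩ := cam_cent_isPElt h hc'N hj hx hcx'
  have hi0 : i ≠ 0 := by
    rintro rfl
    rw [pow_zero] at hi
    exact hx1 (orderOf_eq_one_iff.1 hi)
  have h1 : s ∣ Nat.card N := by
    have := N.orderOf_dvd_natCard hx
    rw [hi] at this
    exact (dvd_pow_self s hi0).trans this
  have h2 : s ∣ N.index := by
    have h3 : m ∣ Nat.card (G ⧸ N) := orderOf_dvd_natCard cb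
    rw [Subgroup.index_eq_card]
    exact (Dvd.intro_left _ ht.symm |>.trans (dvd_refl m)).trans h3 |> fun h => by
      exact (Nat.minFac_dvd m).trans h3
  have h3 : s ∣ Nat.gcd (Nat.card N) N.index := Nat.dvd_gcd h1 h2
  rw [Nat.Coprime] at hcop
  rw [hcop] at h3
  exact hsp.one_lt.ne' (Nat.dvd_one.1 h3)

/-- A `q`-element commutes with a nontrivial `q`-element of `N` whenever `q ∣ |N|`. -/
theorem cam_exists_comm [Finite G] (N : Subgroup G) [hN : N.Normal] {q : ℕ} [hq : Fact q.Prime]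
    (hqN : q ∣ Nat.card N) {g : G} {j : ℕ} (hgo : orderOf g = q ^ j) :
    ∃ d ∈ N, d ≠ 1 ∧ Commute g d ∧ ∃ i : ℕ, orderOf d = q ^ i := by
  have hgp : IsPGroup q (zpowers g) := IsPGroup.of_card (by rw [Nat.card_zpowers, hgo])
  obtain ⟨Q, hQ⟩ := hgp.exists_le_sylow
  obtain ⟨d₀, hd₀⟩ := exists_prime_orderOf_dvd_card' q hqN
  have hdp : IsPGroup q (zpowers (d₀ : G)) :=
    IsPGroup.of_card (n := 1) (by rw [Nat.card_zpowers, Subgroup.orderOf_coe, hd₀, pow_one])
  obtain ⟨Q', hQ'⟩ := hdp.exists_le_sylow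
  obtain ⟨c, hc⟩ := MulAction.exists_smul_eq G Q' Q
  have hmemQ : c * (d₀ : G) * c⁻¹ ∈ (Q : Subgroup G) := by
    rw [← hc, Sylow.coe_subgroup_smul]
    have := Subgroup.smul_mem_pointwise_smul (d₀ : G) (MulAut.conj c) (Q' : Subgroup G)
      (hQ' (mem_zpowers _))
    rwa [MulAut.smul_def, MulAut.conj_apply] at this
  have hmemN : c * (d₀ : G) * c⁻¹ ∈ N := hN.conj_mem _ d₀.2 c
  have hd₀1 : (d₀ : G) ≠ 1 := by
    intro h1
    have : orderOf (d₀ : G) = 1 := by rw [h1, orderOf_one]
    rw [Subgroup.orderOf_coe, hd₀] at this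
    exact hq.out.one_lt.ne' this
  have hne : N.subgroupOf (Q : Subgroup G) ≠ ⊥ := by
    intro hbot
    have hmem : (⟨c * (d₀ : G) * c⁻¹, hmemQ⟩ : (Q : Subgroup G)) ∈ N.subgroupOf (Q : Subgroup G) :=
      mem_subgroupOf.2 hmemN
    rw [hbot, mem_bot] at hmem
    have h2 : c * (d₀ : G) * c⁻¹ = 1 := congrArg Subtype.val hmem
    apply hd₀1
    have : (d₀ : G) = c⁻¹ * (c * (d₀ : G) * c⁻¹) * c := by group
    rw [this, h2]; group
  obtain ⟨b, hbN, hb1, hbZ⟩ := cam_normal_meets_center Q.isPGroup' (N.subgroupOf (Q : Subgroup G)) hne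
  refine ⟨(b : G), mem_subgroupOf.1 hbN, ?_, ?_, ?_⟩
  · intro h1
    apply hb1
    exact Subtype.ext h1
  · have hgQ : g ∈ (Q : Subgroup G) := hQ (mem_zpowers g)
    have h1 := Subgroup.mem_center_iff.1 hbZ ⟨g, hgQ⟩
    have h2 : g * (b : G) = (b : G) * g := congrArg Subtype.val h1
    exact h2
  · obtain ⟨i, hi⟩ := (IsPGroup.iff_orderOf.1 Q.isPGroup') b
    exact ⟨i, by rw [Subgroup.orderOf_coe]; exact hi⟩


/-- In a Camina pair, `|C_G(g)| = |C_{G/N}(gN)|` for `g ∉ N`. -/
theorem cam_card_centralizer [Finite G] (N : Subgroup G) [hN : N.Normal] (h : CamHyp N) {g : G}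
    (hg : g ∉ N) :
    Nat.card (centralizer ({g} : Set G)) =
      Nat.card (centralizer ({QuotientGroup.mk' N g} : Set (G ⧸ N))) := by
  set Cb := centralizer ({QuotientGroup.mk' N g} : Set (G ⧸ N)) with hCb
  set T := Cb.comap (QuotientGroup.mk' N) with hT
  have hidx : T.index = Cb.index := index_comap_of_surjective Cb (QuotientGroup.mk'_surjective N)
  have h1 : Nat.card T * T.index = Nat.card G := T.card_mul_index
  have h2 : Nat.card Cb * Cb.index = Nat.card (G ⧸ N) := Cb.card_mul_index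
  have h3 : Nat.card G = Nat.card (G ⧸ N) * Nat.card N := card_eq_card_quotient_mul_card_subgroup N
  have hTcard : Nat.card T = Nat.card N * Nat.card Cb := by
    have hpos : 0 < Cb.index := Nat.pos_of_ne_zero Subgroup.index_ne_zero_of_finite
    apply Nat.eq_of_mul_eq_mul_right hpos
    calc Nat.card T * Cb.index = Nat.card T * T.index := by rw [hidx]
      _ = Nat.card G := h1
      _ = Nat.card (G ⧸ N) * Nat.card N := h3
      _ = Nat.card Cb * Cb.index * Nat.card N := by rw [h2]
      _ = Nat.card N * Nat.card Cb * Cb.index := by ring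
  have hmemT : ∀ x : G, x ∈ T ↔
      QuotientGroup.mk' N x * QuotientGroup.mk' N g = QuotientGroup.mk' N g * QuotientGroup.mk' N x := by
    intro x
    rw [hT, mem_comap, hCb, mem_centralizer_singleton_iff]
  let φ : ↥T →* MulAut G := (MulAut.conj).comp T.subtype
  letI : MulAction ↥T G := MulAction.compHom G φ
  have hsmul : ∀ (t : ↥T) (x : G), t • x = (t : G) * x * (t : G)⁻¹ := by
    intro t x
    show (φ t) x = _
    simp [φ, MulAut.conj_apply]
  have horb : MulAction.orbit ↥T g = (fun n : G => g * n) '' (N : Set G) := by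
    ext y
    constructor
    · rintro ⟨t, rfl⟩
      show t • g ∈ _
      rw [hsmul]
      refine ⟨g⁻¹ * ((t : G) * g * (t : G)⁻¹), ?_, by group⟩
      have ht := (hmemT (t : G)).1 t.2
      show g⁻¹ * ((t : G) * g * (t : G)⁻¹) ∈ N
      apply (QuotientGroup.eq_one_iff _).1
      have e : ((g⁻¹ * ((t : G) * g * (t : G)⁻¹) : G) : G ⧸ N) =
          (QuotientGroup.mk' N g)⁻¹ * (QuotientGroup.mk' N (t : G) * QuotientGroup.mk' N g *
            (QuotientGroup.mk' N (t : G))⁻¹) := by
        simp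
      rw [e, ht]
      group
    · rintro ⟨n, hn, rfl⟩
      obtain ⟨x, hx⟩ := h g hg n hn
      have hxT : x ∈ T := by
        rw [hmemT]
        have e1 : QuotientGroup.mk' N (x * g * x⁻¹) = QuotientGroup.mk' N (g * n) := by rw [hx]
        have e2 : QuotientGroup.mk' N n = 1 := (QuotientGroup.eq_one_iff n).2 hn
        rw [map_mul, map_mul, map_mul, map_inv, e2, mul_one] at e1
        calc QuotientGroup.mk' N x * QuotientGroup.mk' N g
            = (QuotientGroup.mk' N x * QuotientGroup.mk' N g * (QuotientGroup.mk' N x)⁻¹) *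
                QuotientGroup.mk' N x := by group
          _ = QuotientGroup.mk' N g * QuotientGroup.mk' N x := by rw [e1]
      refine ⟨⟨x, hxT⟩, ?_⟩
      show (⟨x, hxT⟩ : ↥T) • g = g * n
      rw [hsmul]
      exact hx
  have horbcard : (MulAction.orbit ↥T g).ncard = Nat.card N := by
    rw [horb, Set.ncard_image_of_injective _ (mul_right_injective g)]
    rfl
  have hcle : centralizer ({g} : Set G) ≤ T := by
    intro x hx
    rw [mem_centralizer_singleton_iff] at hx
    rw [hmemT, ← map_mul, ← map_mul, hx]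
  have hstab : (MulAction.stabilizer ↥T g).map T.subtype = centralizer ({g} : Set G) := by
    ext x
    rw [mem_map]
    constructor
    · rintro ⟨t, ht, rfl⟩
      rw [MulAction.mem_stabilizer_iff, hsmul] at ht
      rw [mem_centralizer_singleton_iff]
      show (t : G) * g = g * (t : G)
      calc (t : G) * g = ((t : G) * g * (t : G)⁻¹) * (t : G) := by group
        _ = g * (t : G) := by rw [ht]
    · intro hx
      refine ⟨⟨x, hcle hx⟩, ?_, rfl⟩
      rw [MulAction.mem_stabilizer_iff, hsmul]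
      rw [mem_centralizer_singleton_iff] at hx
      show x * g * x⁻¹ = g
      rw [hx]; group
  have hstabcard : Nat.card (MulAction.stabilizer ↥T g) = Nat.card (centralizer ({g} : Set G)) := by
    rw [← hstab]
    exact (card_map_of_injective T.subtype_injective).symm
  have h4 : Nat.card (MulAction.stabilizer ↥T g) * (MulAction.stabilizer ↥T g).index = Nat.card T :=
    (MulAction.stabilizer ↥T g).card_mul_index
  rw [MulAction.index_stabilizer, horbcard, hstabcard, hTcard] at h4
  have hNpos : 0 < Nat.card N := Nat.card_pos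
  apply Nat.eq_of_mul_eq_mul_right hNpos
  rw [h4]; ring

/-- Step 1: a `q`-element outside `N` has a big centralizer in the quotient when `q ∣ |N|`. -/
theorem cam_step1 [Finite G] (N : Subgroup G) [hN : N.Normal] (h : CamHyp N) {q : ℕ}
    [hq : Fact q.Prime] (hqN : q ∣ Nat.card N) {g : G} (hg : g ∉ N) {j : ℕ}
    (hgo : orderOf g = q ^ j) :
    orderOf (QuotientGroup.mk' N g) * q ∣
      Nat.card (centralizer ({QuotientGroup.mk' N g} : Set (G ⧸ N))) := by
  obtain ⟨d, hdN, hd1, hgd, i, hdo⟩ := cam_exists_comm N hqN hgo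
  rw [← cam_card_centralizer N h hg]
  set gb := QuotientGroup.mk' N g with hgb
  have hgbpow : gb ^ (q ^ j) = 1 := by
    rw [hgb, ← map_pow, ← hgo, pow_orderOf_eq_one, map_one]
  obtain ⟨a, haj, ha⟩ := (Nat.dvd_prime_pow hq.out).1 (orderOf_dvd_of_pow_eq_one hgbpow)
  set D := zpowers g ⊔ zpowers d with hD
  have hgp : IsPGroup q (zpowers g) := IsPGroup.of_card (by rw [Nat.card_zpowers, hgo])
  have hdp : IsPGroup q (zpowers d) := IsPGroup.of_card (by rw [Nat.card_zpowers, hdo])
  have hnorm : zpowers g ≤ normalizer ((zpowers d : Subgroup G) : Set G) := by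
    refine le_trans ?_ (centralizer_le_normalizer _)
    rw [zpowers_le]
    rw [mem_centralizer_iff]
    intro y hy
    obtain ⟨m, hm⟩ := hy
    have hm' : d ^ m = y := hm
    rw [← hm']
    exact ((hgd.zpow_right m).eq).symm
  have hDp : IsPGroup q D := hgp.to_sup_of_normal_right' hdp hnorm
  obtain ⟨e, he⟩ := hDp.exists_card_eq
  have hDle : D ≤ centralizer ({g} : Set G) := by
    rw [hD]
    apply sup_le
    · rw [zpowers_le, mem_centralizer_singleton_iff]
    · rw [zpowers_le, mem_centralizer_singleton_iff]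
      exact hgd.eq.symm
  have hdvd : q ^ e ∣ Nat.card (centralizer ({g} : Set G)) := he ▸ card_dvd_of_le hDle
  rw [ha, ← pow_succ]
  by_cases hea : a + 1 ≤ e
  · exact (pow_dvd_pow q hea).trans hdvd
  · exfalso
    have hea' : e ≤ a := by omega
    have hgD : zpowers g ≤ D := le_sup_left
    have hcardle : Nat.card D ≤ Nat.card (zpowers g) := by
      rw [he, Nat.card_zpowers, hgo]
      exact Nat.pow_le_pow_right hq.out.pos (hea'.trans haj)
    have heq : zpowers g = D := eq_of_le_of_card_ge hgD hcardle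
    have hdg : d ∈ zpowers g := by rw [heq]; exact le_sup_right (α := Subgroup G) (mem_zpowers d)
    -- so `j = a`
    have hja : j = a := by
      have h1 : Nat.card (zpowers g) ≤ Nat.card D := Nat.le_of_dvd Nat.card_pos (card_dvd_of_le hgD)
      rw [he, Nat.card_zpowers, hgo] at h1
      have h2 : j ≤ e := (Nat.pow_le_pow_iff_right hq.out.one_lt).1 h1
      omega
    obtain ⟨m, hm⟩ := hdg
    have hm' : g ^ m = d := hm
    have h1 : gb ^ m = 1 := by
      rw [hgb, ← map_zpow, hm']
      exact (QuotientGroup.eq_one_iff d).2 hdN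
    have h2 : (orderOf gb : ℤ) ∣ m := orderOf_dvd_iff_zpow_eq_one.2 h1
    rw [ha, ← hja, ← hgo] at h2
    have h3 : g ^ m = 1 := orderOf_dvd_iff_zpow_eq_one.1 h2
    exact hd1 (hm' ▸ h3)

end Cfsg.Agent.Lib.Helper21
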