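import Mathlib
import Cfsg.Agent.Lib.Helper21.Camina1

/-!
# Camina pairs, part 2: Sylow subgroups with cyclic abelian subgroups, fixed-point-free actions
-/

set_option autoImplicit false
set_option linter.style.haveILetI false
set_option linter.unnecessarySimpa false
set_option linter.unusedVariables false

namespace Cfsg.Agent.Lib.Helper21

open Subgroup

/-- Step 2: if all abelian subgroups of a nontrivial Sylow `q`-subgroup are cyclic, some
`q`-element generates a Sylow `q`-subgroup of its centralizer. -/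
theorem cam_step2 {K : Type*} [Group K] [Finite K] {q : ℕ} [hq : Fact q.Prime] (S : Sylow q K)
    (hS : (S : Subgroup K) ≠ ⊥)
    (hcyc : ∀ a ∈ (S : Subgroup K), ∀ b ∈ (S : Subgroup K), Commute a b →
      ∃ c ∈ (S : Subgroup K), a ∈ zpowers c ∧ b ∈ zpowers c) :
    ∃ u : K, u ≠ 1 ∧ (∃ a : ℕ, orderOf u = q ^ a) ∧
      ¬ orderOf u * q ∣ Nat.card (centralizer ({u} : Set K)) := by
  obtain ⟨u', hu'⟩ := Finite.exists_max (fun s : (S : Subgroup K) => orderOf (s : K))
  set u : K := (u' : K) with hu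
  have huS : u ∈ (S : Subgroup K) := u'.2
  have hmax : ∀ s ∈ (S : Subgroup K), orderOf s ≤ orderOf u := fun s hs => hu' ⟨s, hs⟩
  have hu1 : u ≠ 1 := by
    intro h1
    obtain ⟨s', hs'⟩ := (Subgroup.ne_bot_iff_exists_ne_one).1 hS
    have hsS : (s' : K) ∈ (S : Subgroup K) := s'.2
    have hs1 : (s' : K) ≠ 1 := fun h => hs' (Subtype.ext h)
    set s : K := (s' : K)
    have h2 := hmax s hsS
    rw [h1, orderOf_one] at h2
    have h3 : orderOf s = 1 := le_antisymm h2 (orderOf_pos s)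
    exact hs1 (orderOf_eq_one_iff.1 h3)
  obtain ⟨a, ha⟩ := (IsPGroup.iff_orderOf.1 S.isPGroup') u'
  have ha' : orderOf u = q ^ a := (Subgroup.orderOf_coe u').trans ha
  refine ⟨u, hu1, ⟨a, ha'⟩, ?_⟩
  intro hdiv
  set C := centralizer ({u} : Set K) with hC
  have hdiv' : q ^ (a + 1) ∣ Nat.card C := by rw [pow_succ, ← ha']; exact hdiv
  obtain ⟨T', hT'⟩ := Sylow.exists_subgroup_card_pow_prime q hdiv'
  set T := T'.map C.subtype with hT
  have hTcard : Nat.card T = q ^ (a + 1) := by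
    rw [hT, card_map_of_injective C.subtype_injective, hT']
  have hTC : T ≤ C := by
    rw [hT]
    intro x hx
    obtain ⟨y, -, rfl⟩ := mem_map.1 hx
    exact y.2
  have hTp : IsPGroup q T := IsPGroup.of_card hTcard
  have hup : IsPGroup q (zpowers u) := IsPGroup.of_card (by rw [Nat.card_zpowers, ha'])
  have hnorm : zpowers u ≤ normalizer (T : Set K) := by
    refine le_trans ?_ (centralizer_le_normalizer _)
    rw [zpowers_le, mem_centralizer_iff]
    intro t ht
    have := hTC ht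
    rw [hC, mem_centralizer_singleton_iff] at this
    exact this
  have hRp : IsPGroup q ↥(zpowers u ⊔ T) := hup.to_sup_of_normal_right' hTp hnorm
  obtain ⟨Q, hQ⟩ := hRp.exists_le_sylow
  obtain ⟨k, hk⟩ := MulAction.exists_smul_eq K Q S
  have hconj : ∀ x ∈ zpowers u ⊔ T, k * x * k⁻¹ ∈ (S : Subgroup K) := by
    intro x hx
    rw [← hk, Sylow.coe_subgroup_smul]
    have := Subgroup.smul_mem_pointwise_smul x (MulAut.conj k) (Q : Subgroup K) (hQ hx)
    rwa [MulAut.smul_def, MulAut.conj_apply] at this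
  have hTle : T ≤ zpowers u := by
    intro t ht
    have htC := hTC ht
    rw [hC, mem_centralizer_singleton_iff] at htC
    have h1 := hconj u (le_sup_left (a := zpowers u) (mem_zpowers u))
    have h2 := hconj t (le_sup_right (b := T) ht)
    have hcomm : Commute (k * u * k⁻¹) (k * t * k⁻¹) := by
      show (k * u * k⁻¹) * (k * t * k⁻¹) = (k * t * k⁻¹) * (k * u * k⁻¹)
      have e1 : (k * u * k⁻¹) * (k * t * k⁻¹) = k * (u * t) * k⁻¹ := by group
      have e2 : (k * t * k⁻¹) * (k * u * k⁻¹) = k * (t * u) * k⁻¹ := by group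
      rw [e1, e2, htC]
    obtain ⟨c, hcS, hc1, hc2⟩ := hcyc _ h1 _ h2 hcomm
    have hordu : orderOf (k * u * k⁻¹) = orderOf u := by
      have := (MulAut.conj k).orderOf_eq u
      rwa [MulAut.conj_apply] at this
    have hle : zpowers (k * u * k⁻¹) ≤ zpowers c := zpowers_le.2 hc1
    have hcard : Nat.card (zpowers c) ≤ Nat.card (zpowers (k * u * k⁻¹)) := by
      rw [Nat.card_zpowers, Nat.card_zpowers, hordu]
      exact hmax c hcS
    have heq : zpowers (k * u * k⁻¹) = zpowers c := eq_of_le_of_card_ge hle hcard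
    rw [← heq] at hc2
    obtain ⟨m, hm⟩ := hc2
    have hm' : (k * u * k⁻¹) ^ m = k * t * k⁻¹ := hm
    have e3 : (k * u * k⁻¹) ^ m = k * u ^ m * k⁻¹ := by
      have := map_zpow (MulAut.conj k) u m
      simpa [MulAut.conj_apply] using this.symm
    rw [e3] at hm'
    have e4 : u ^ m = t := by
      have : k⁻¹ * (k * u ^ m * k⁻¹) * k = k⁻¹ * (k * t * k⁻¹) * k := by rw [hm']
      simpa [mul_assoc] using this
    exact ⟨m, e4⟩
  have h1 : Nat.card T ≤ Nat.card (zpowers u) := card_le_of_le hTle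
  rw [hTcard, Nat.card_zpowers, ha'] at h1
  have h2 : q ^ a < q ^ (a + 1) := Nat.pow_lt_pow_right hq.out.one_lt (Nat.lt_succ_self a)
  omega

/-- The trace of a fixed-point-free automorphism of order dividing `q` is trivial. -/
theorem cam_trace_eq_one {W : Type*} [CommGroup W] {q : ℕ} [hq : Fact q.Prime] (γ : MulAut W)
    (hγq : γ ^ q = 1) (hfpf : ∀ w, γ w = w → w = 1) (w : W) :
    ∏ i : ZMod q, (γ ^ i.val) w = 1 := by
  haveI : NeZero q := ⟨hq.out.ne_zero⟩
  haveI : Fact (1 < q) := ⟨hq.out.one_lt⟩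
  apply hfpf
  rw [map_prod]
  have h1 : ∀ i : ZMod q, γ ((γ ^ i.val) w) = (γ ^ (i + 1).val) w := by
    intro i
    rw [ZMod.val_add, ZMod.val_one, ← pow_eq_pow_mod _ hγq, pow_succ', MulAut.mul_apply]
  rw [Fintype.prod_congr _ _ h1]
  exact Equiv.prod_comp (Equiv.addRight (1 : ZMod q)) (fun i : ZMod q => (γ ^ i.val) w)

/-- Two commuting automorphisms of order dividing `q`, such that `β` and all `α β^k` are
fixed-point-free, force exponent `q`. -/
theorem cam_two_fpf {W : Type*} [CommGroup W] {q : ℕ} [hq : Fact q.Prime]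
    (α β : MulAut W) (hα : α ^ q = 1) (hβ : β ^ q = 1) (hc : Commute α β)
    (hβf : ∀ w, β w = w → w = 1)
    (hf : ∀ k : ℕ, ∀ w, (α * β ^ k) w = w → w = 1) (w : W) : w ^ q = 1 := by
  haveI : NeZero q := ⟨hq.out.ne_zero⟩
  haveI : Fact (1 < q) := ⟨hq.out.one_lt⟩
  have hγ : ∀ k : ZMod q, (α * β ^ k.val) ^ q = 1 := by
    intro k
    rw [(hc.pow_right k.val).mul_pow, hα, ← pow_mul, mul_comm, pow_mul, hβ, one_pow, one_mul]
  have h1 : ∏ k : ZMod q, ∏ i : ZMod q, ((α * β ^ k.val) ^ i.val) w = 1 := by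
    apply Fintype.prod_eq_one
    intro k
    exact cam_trace_eq_one _ (hγ k) (hf k.val) w
  have h2 : ∀ k i : ZMod q, ((α * β ^ k.val) ^ i.val) w = (α ^ i.val) ((β ^ (k.val * i.val)) w) := by
    intro k i
    rw [(hc.pow_right k.val).mul_pow, ← pow_mul, MulAut.mul_apply]
  simp_rw [h2] at h1
  rw [Finset.prod_comm] at h1
  have h3 : ∀ i : ZMod q, ∏ k : ZMod q, (α ^ i.val) ((β ^ (k.val * i.val)) w) =
      (α ^ i.val) (∏ k : ZMod q, (β ^ (k.val * i.val)) w) := by
    intro i
    rw [map_prod]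
  simp_rw [h3] at h1
  have h4 : ∀ i : ZMod q, i ≠ 0 → (α ^ i.val) (∏ k : ZMod q, (β ^ (k.val * i.val)) w) = 1 := by
    intro i hi
    have h5 : ∀ k : ZMod q, (β ^ (k.val * i.val)) w = (β ^ (k * i).val) w := by
      intro k
      rw [ZMod.val_mul, ← pow_eq_pow_mod _ hβ]
    have h6 : ∏ k : ZMod q, (β ^ (k.val * i.val)) w = 1 := by
      rw [Fintype.prod_congr _ _ h5]
      have h7 : ∏ k : ZMod q, (β ^ ((Equiv.mulRight₀ i hi) k).val) w =
          ∏ k : ZMod q, (β ^ k.val) w :=
        Equiv.prod_comp (Equiv.mulRight₀ i hi) (fun k : ZMod q => (β ^ k.val) w)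
      simp only [Equiv.mulRight₀_apply] at h7
      rw [h7]
      exact cam_trace_eq_one β hβ hβf w
    rw [h6, map_one]
  rw [Fintype.prod_eq_single (0 : ZMod q) h4] at h1
  simp only [ZMod.val_zero, mul_zero, pow_zero, MulAut.one_apply, Finset.prod_const,
    Finset.card_univ, ZMod.card] at h1
  exact h1

/-- A group acting fixed-point-freely has no elementary abelian subgroup of rank two. -/
theorem cam_no_rank_two {A W : Type*} [Group A] [CommGroup W] {q : ℕ} [hq : Fact q.Prime]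
    (ψ : A →* MulAut W) (hfpf : ∀ a : A, a ≠ 1 → ∀ w, ψ a w = w → w = 1)
    (hW : ∀ w : W, w ^ q = 1 → w = 1) (hnt : ∃ w : W, w ≠ 1)
    {a b : A} (ha : a ^ q = 1) (hb : b ^ q = 1) (hb1 : b ≠ 1) (hab : Commute a b) :
    a ∈ zpowers b := by
  by_contra hnot
  obtain ⟨w, hw⟩ := hnt
  apply hw
  apply hW
  apply cam_two_fpf (ψ a) (ψ b)
  · rw [← map_pow, ha, map_one]
  · rw [← map_pow, hb, map_one]
  · show ψ a * ψ b = ψ b * ψ a
    rw [← map_mul, ← map_mul, hab.eq]
  · exact hfpf b hb1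
  · intro k
    rw [← map_pow, ← map_mul]
    apply hfpf
    intro h1
    apply hnot
    have : a = (b ^ k)⁻¹ := eq_inv_of_mul_eq_one_left h1
    rw [this]
    exact (zpowers b).inv_mem ((zpowers b).pow_mem (mem_zpowers b) k)


/-- In a finite group with no "rank two" pair, a commuting `q`-element of smaller order lies in
the cyclic group generated by the other. -/
theorem cam_mem_zpowers_of_le {A : Type*} [Group A] [Finite A] {q : ℕ} [hq : Fact q.Prime]
    (hR : ∀ x y : A, x ^ q = 1 → y ^ q = 1 → y ≠ 1 → Commute x y → x ∈ zpowers y) :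
    ∀ n : ℕ, ∀ a b : A, Commute a b → (∃ M, orderOf a = q ^ M) → orderOf b = q ^ n →
      orderOf b ≤ orderOf a → b ∈ zpowers a := by
  intro n
  induction n with
  | zero =>
    intro a b _ _ hb _
    rw [pow_zero, orderOf_eq_one_iff] at hb
    rw [hb]; exact one_mem _
  | succ n ih =>
    intro a b hab hMex hb hle
    obtain ⟨M, hM⟩ := hMex
    have hbq : orderOf (b ^ q) = q ^ n := by
      rw [orderOf_pow_of_dvd hq.out.ne_zero
        (by rw [hb]; exact dvd_pow_self q (Nat.succ_ne_zero n)), hb, pow_succ]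
      exact Nat.mul_div_cancel _ hq.out.pos
    have hle' : orderOf (b ^ q) ≤ orderOf a := by
      rw [hbq]
      exact le_trans (Nat.pow_le_pow_right hq.out.pos (Nat.le_succ n)) (hb ▸ hle)
    have hmem := ih a (b ^ q) (hab.pow_right q) ⟨M, hM⟩ hbq hle'
    obtain ⟨m, hm⟩ := (Submonoid.mem_powers_iff _ _).1 ((mem_powers_iff_mem_zpowers).2 hmem)
    have hMn : n + 1 ≤ M := by
      rw [hb, hM] at hle
      exact (Nat.pow_le_pow_iff_right hq.out.one_lt).1 hle
    have hqm : q ∣ m := by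
      by_contra hndvd
      have hcop : (orderOf a).Coprime m := by
        rw [hM]
        exact Nat.Coprime.pow_left M ((Nat.Prime.coprime_iff_not_dvd hq.out).2 hndvd)
      have h1 : orderOf (a ^ m) = orderOf a := hcop.orderOf_pow
      rw [hm, hbq, hM] at h1
      have : n = M := Nat.pow_right_injective hq.out.two_le h1
      omega
    obtain ⟨m', rfl⟩ := hqm
    set c := b * (a ^ m')⁻¹ with hc
    have hcq : c ^ q = 1 := by
      have hcomm : Commute b (a ^ m')⁻¹ := ((hab.pow_left m').symm).inv_right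
      rw [hc, hcomm.mul_pow, inv_pow, ← pow_mul, mul_comm m' q, hm, mul_inv_cancel]
    have hM0 : M ≠ 0 := by omega
    set x := a ^ (q ^ (M - 1)) with hx
    have hxq : x ^ q = 1 := by
      rw [hx, ← pow_mul, ← pow_succ, Nat.sub_add_cancel (Nat.one_le_iff_ne_zero.2 hM0), ← hM,
        pow_orderOf_eq_one]
    have hx1 : x ≠ 1 := by
      intro h1
      have h2 := orderOf_dvd_of_pow_eq_one h1
      rw [hM] at h2
      have h3 := Nat.le_of_dvd (pow_pos hq.out.pos _) h2
      have h4 := (Nat.pow_le_pow_iff_right hq.out.one_lt).1 h3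
      omega
    have hcx : Commute c x := by
      have h1 : Commute b x := (hab.pow_left _).symm
      have h2 : Commute (a ^ m')⁻¹ x := ((Commute.refl a).pow_pow m' _).inv_left
      exact h1.mul_left h2
    have hcmem := hR c x hcq hxq hx1 hcx
    have hxa : zpowers x ≤ zpowers a := zpowers_le.2 ((zpowers a).pow_mem (mem_zpowers a) _)
    have hcA : c ∈ zpowers a := hxa hcmem
    have hbc : b = c * a ^ m' := by rw [hc]; group
    rw [hbc]
    exact (zpowers a).mul_mem hcA ((zpowers a).pow_mem (mem_zpowers a) _)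

/-- A `q`-group acting fixed-point-freely on a nontrivial abelian `q'`-group has all abelian
subgroups cyclic. -/
theorem cam_fpf_cyclic {A W : Type*} [Group A] [Finite A] [CommGroup W] {q : ℕ}
    [hq : Fact q.Prime] (hA : IsPGroup q A)
    (ψ : A →* MulAut W) (hfpf : ∀ a : A, a ≠ 1 → ∀ w, ψ a w = w → w = 1)
    (hW : ∀ w : W, w ^ q = 1 → w = 1) (hnt : ∃ w : W, w ≠ 1)
    {a b : A} (hab : Commute a b) : ∃ c : A, a ∈ zpowers c ∧ b ∈ zpowers c := by
  have hR : ∀ x y : A, x ^ q = 1 → y ^ q = 1 → y ≠ 1 → Commute x y → x ∈ zpowers y :=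
    fun x y hx hy hy1 hxy => cam_no_rank_two ψ hfpf hW hnt hx hy hy1 hxy
  obtain ⟨M, hM⟩ := (IsPGroup.iff_orderOf.1 hA) a
  obtain ⟨n, hn⟩ := (IsPGroup.iff_orderOf.1 hA) b
  rcases le_total (orderOf b) (orderOf a) with hle | hle
  · exact ⟨a, mem_zpowers a, cam_mem_zpowers_of_le hR n a b hab ⟨M, hM⟩ hn hle⟩
  · exact ⟨b, cam_mem_zpowers_of_le hR M b a hab.symm ⟨n, hn⟩ hM hle, mem_zpowers b⟩

end Cfsg.Agent.Lib.Helper21
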