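import Mathlib
import Cfsg.Agent.Lib.Helper21.Camina2

/-!
# Camina pairs, part 3: the key contradiction lemma
-/

set_option autoImplicit false
set_option linter.style.haveILetI false
set_option linter.unnecessarySimpa false
set_option linter.unusedVariables false

namespace Cfsg.Agent.Lib.Helper21

open Subgroup

universe u

variable {G : Type u} [Group G]

/-- **Lemma G.** If `q` divides `|N|` and `|G : N|`, there is no `q`-subgroup `S` covering a Sylow
`q`-subgroup of `G / N` that normalizes a nontrivial abelian `q'`-subgroup `W ≤ N` with `S ∩ N`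
centralizing `W`. -/
theorem cam_lemmaG [Finite G] (N : Subgroup G) [hN : N.Normal] (h : CamHyp N) {q : ℕ}
    [hq : Fact q.Prime] (hqN : q ∣ Nat.card N) (hqI : q ∣ N.index)
    (S W : Subgroup G) (hS : IsPGroup q S) (hWN : W ≤ N) (hW1 : W ≠ ⊥)
    (hWab : ∀ x ∈ W, ∀ y ∈ W, x * y = y * x) (hWq : (Nat.card W).Coprime q)
    (hSW : S ≤ normalizer (W : Set G)) (hSNW : S ⊓ N ≤ centralizer (W : Set G))
    (hScard : Nat.card (S.map (QuotientGroup.mk' N)) = q ^ (Nat.card (G ⧸ N)).factorization q) :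
    False := by
  classical
  letI : CommGroup ↥W := { (inferInstance : Group ↥W) with
    mul_comm := fun x y => Subtype.ext (hWab x x.2 y y.2) }
  let ψ : ↥S →* MulAut ↥W := W.normalizerMonoidHom.comp (Subgroup.inclusion hSW)
  have hψ : ∀ (s : ↥S) (w : ↥W), ((ψ s w : ↥W) : G) = (s : G) * w * (s : G)⁻¹ := by
    intro s w
    rfl
  have hker : ∀ s : ↥S, (s : G) ∈ N → ψ s = 1 := by
    intro s hs
    ext w
    rw [hψ, MulAut.one_apply]
    have h1 : (s : G) ∈ centralizer (W : Set G) := hSNW ⟨s.2, hs⟩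
    rw [mem_centralizer_iff] at h1
    have h2 := h1 w w.2
    rw [← h2]; group
  have hfp : ∀ s : ↥S, (s : G) ∉ N → ∀ w : ↥W, ψ s w = w → w = 1 := by
    intro s hs w hw
    have h1 : (s : G) * w * (s : G)⁻¹ = w := by rw [← hψ, hw]
    have hcomm : Commute (s : G) (w : G) := by
      show (s : G) * w = w * s
      calc (s : G) * w = ((s : G) * w * (s : G)⁻¹) * s := by group
        _ = w * s := by rw [h1]
    obtain ⟨j, hj⟩ := (IsPGroup.iff_orderOf.1 hS) s
    have hj' : orderOf (s : G) = q ^ j := by rw [Subgroup.orderOf_coe]; exact hj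
    obtain ⟨i, hi⟩ := cam_cent_isPElt h hs hj' (hWN w.2) hcomm
    have h2 : orderOf (w : G) ∣ Nat.card W := W.orderOf_dvd_natCard w.2
    have h3 : (orderOf (w : G)).Coprime q := Nat.Coprime.coprime_dvd_left h2 hWq
    rw [hi] at h3
    have hi0 : i = 0 := by
      by_contra hne
      have h4 : q ∣ Nat.gcd (q ^ i) q := Nat.dvd_gcd (dvd_pow_self q hne) (dvd_refl q)
      rw [Nat.Coprime] at h3
      rw [h3] at h4
      exact hq.out.one_lt.ne' (Nat.dvd_one.1 h4)
    rw [hi0, pow_zero, orderOf_eq_one_iff] at hi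
    exact Subtype.ext hi
  have hnt : ∃ w : ↥W, w ≠ 1 := (Subgroup.ne_bot_iff_exists_ne_one).1 hW1
  have hWpow : ∀ w : ↥W, w ^ q = 1 → w = 1 := by
    intro w hw
    have h1 : orderOf w ∣ q := orderOf_dvd_of_pow_eq_one hw
    have h2 : orderOf w ∣ Nat.card W := orderOf_dvd_natCard w
    have h3 : orderOf w ∣ Nat.gcd (Nat.card W) q := Nat.dvd_gcd h2 h1
    rw [Nat.Coprime] at hWq
    rw [hWq] at h3
    exact orderOf_eq_one_iff.1 (Nat.dvd_one.1 h3)
  have hne1 : ∀ s : ↥S, ψ s = 1 → (s : G) ∈ N := by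
    intro s hs
    by_contra hsN
    obtain ⟨w, hw⟩ := hnt
    apply hw
    apply hfp s hsN w
    rw [hs, MulAut.one_apply]
  set A := ψ.range with hA
  have hAp : IsPGroup q ↥A := hS.of_surjective ψ.rangeRestrict ψ.rangeRestrict_surjective
  have hAfpf : ∀ γ : ↥A, γ ≠ 1 → ∀ w, (A.subtype γ) w = w → w = 1 := by
    intro γ hγ w hw
    obtain ⟨s, hs⟩ := γ.2
    have hsN : (s : G) ∉ N := by
      intro hmem
      apply hγ
      apply Subtype.ext
      rw [← hs, hker s hmem]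
      rfl
    apply hfp s hsN w
    rw [hs]
    exact hw
  haveI : Finite ↥S := inferInstance
  haveI : Finite ↥A := Finite.of_surjective ψ.rangeRestrict ψ.rangeRestrict_surjective
  set Sb : Sylow q (G ⧸ N) := Sylow.ofCard (S.map (QuotientGroup.mk' N)) hScard with hSb
  have hSbcoe : (Sb : Subgroup (G ⧸ N)) = S.map (QuotientGroup.mk' N) := Sylow.coe_ofCard _ _
  have hSbne : (Sb : Subgroup (G ⧸ N)) ≠ ⊥ := by
    intro hbot
    have h1 : Nat.card (Sb : Subgroup (G ⧸ N)) = 1 := by rw [hbot]; exact Subgroup.card_bot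
    rw [hSbcoe, hScard] at h1
    have hfac : 0 < (Nat.card (G ⧸ N)).factorization q := by
      apply Nat.Prime.factorization_pos_of_dvd hq.out Nat.card_pos.ne'
      rw [← Subgroup.index_eq_card]
      exact hqI
    have h2 := Nat.one_lt_pow hfac.ne' hq.out.one_lt
    omega
  have hquot : ∀ (x y : ↥S) (z : ℤ), ψ (y ^ z) = ψ x →
      (QuotientGroup.mk' N (y : G)) ^ z = QuotientGroup.mk' N (x : G) := by
    intro x y z hxy
    have h2 : ψ (x * (y ^ z)⁻¹) = 1 := by rw [map_mul, map_inv, hxy, mul_inv_cancel]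
    have h3 := hne1 _ h2
    have h4 : QuotientGroup.mk' N (((x * (y ^ z)⁻¹ : ↥S) : ↥S) : G) = 1 :=
      (QuotientGroup.eq_one_iff _).2 h3
    have h5 : (((x * (y ^ z)⁻¹ : ↥S) : ↥S) : G) = (x : G) * ((y : G) ^ z)⁻¹ := by
      simp
    rw [h5, map_mul, map_inv, map_zpow] at h4
    exact (mul_inv_eq_one.1 h4).symm
  have hcyc : ∀ a ∈ (Sb : Subgroup (G ⧸ N)), ∀ b ∈ (Sb : Subgroup (G ⧸ N)), Commute a b →
      ∃ c ∈ (Sb : Subgroup (G ⧸ N)), a ∈ zpowers c ∧ b ∈ zpowers c := by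
    intro a ha b hb hab
    rw [hSbcoe] at ha hb
    obtain ⟨a₀, ha₀S, rfl⟩ := mem_map.1 ha
    obtain ⟨b₀, hb₀S, rfl⟩ := mem_map.1 hb
    set a' : ↥S := ⟨a₀, ha₀S⟩ with ha'
    set b' : ↥S := ⟨b₀, hb₀S⟩ with hb'
    have hcN : a₀ * b₀ * a₀⁻¹ * b₀⁻¹ ∈ N := by
      apply (QuotientGroup.eq_one_iff _).1
      have e : ((a₀ * b₀ * a₀⁻¹ * b₀⁻¹ : G) : G ⧸ N) =
          QuotientGroup.mk' N a₀ * QuotientGroup.mk' N b₀ * (QuotientGroup.mk' N a₀)⁻¹ *
            (QuotientGroup.mk' N b₀)⁻¹ := by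
        simp
      rw [e, hab.eq]
      group
    have hψcomm : ψ a' * ψ b' = ψ b' * ψ a' := by
      have h1 : ψ (a' * b' * a'⁻¹ * b'⁻¹) = 1 := hker _ hcN
      rw [map_mul, map_mul, map_mul, map_inv, map_inv] at h1
      have h2 := mul_inv_eq_one.1 h1
      calc ψ a' * ψ b' = (ψ a' * ψ b' * (ψ a')⁻¹) * ψ a' := by group
        _ = ψ b' * ψ a' := by rw [h2]
    have hcomm' : Commute (⟨ψ a', a', rfl⟩ : ↥A) ⟨ψ b', b', rfl⟩ := Subtype.ext hψcomm
    obtain ⟨γ, hγa, hγb⟩ := cam_fpf_cyclic hAp A.subtype hAfpf hWpow hnt hcomm'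
    obtain ⟨c', hc'⟩ := γ.2
    refine ⟨QuotientGroup.mk' N (c' : G), ?_, ?_, ?_⟩
    · rw [hSbcoe]
      exact mem_map_of_mem _ c'.2
    · obtain ⟨z, hz⟩ := hγa
      have hz' : γ ^ z = (⟨ψ a', a', rfl⟩ : ↥A) := hz
      have h1 : ψ (c' ^ z) = ψ a' := by
        rw [map_zpow, hc']
        have := congrArg Subtype.val hz'
        simpa using this
      exact ⟨z, hquot a' c' z h1⟩
    · obtain ⟨z, hz⟩ := hγb
      have hz' : γ ^ z = (⟨ψ b', b', rfl⟩ : ↥A) := hz
      have h1 : ψ (c' ^ z) = ψ b' := by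
        rw [map_zpow, hc']
        have := congrArg Subtype.val hz'
        simpa using this
      exact ⟨z, hquot b' c' z h1⟩
  obtain ⟨u, hu1, ⟨a, hua⟩, hndvd⟩ := cam_step2 Sb hSbne hcyc
  obtain ⟨g, rfl⟩ := QuotientGroup.mk'_surjective N u
  have hgN : g ∉ N := fun hmem => hu1 ((QuotientGroup.eq_one_iff g).2 hmem)
  have hgpow : g ^ (q ^ a) ∈ N := by
    apply (QuotientGroup.eq_one_iff _).1
    have e : ((g ^ (q ^ a) : G) : G ⧸ N) = (QuotientGroup.mk' N g) ^ (q ^ a) := rfl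
    rw [e, ← hua, pow_orderOf_eq_one]
  obtain ⟨j, hj⟩ := cam_isPElt h hgN hgpow
  exact hndvd (cam_step1 N h hqN hgN hj)

end Cfsg.Agent.Lib.Helper21
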