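import Mathlib
import Cfsg.Agent.Lib.Helper21.Camina3

/-!
# Camina pairs, part 4: the Frattini–Camina principle and a Frobenius-action lemma
-/

set_option autoImplicit false
set_option linter.style.haveILetI false
set_option linter.unnecessarySimpa false
set_option linter.unusedVariables false

namespace Cfsg.Agent.Lib.Helper21

open Subgroup

universe u

variable {G : Type u} [Group G]

/-- Uniqueness: if `H N = G`, `g ∈ H \ N` and `m ∈ N` with `m⁻¹ g m ∈ H`, then `m ∈ H`. -/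
theorem cam_unique_conj [Finite G] (N : Subgroup G) [hN : N.Normal] (h : CamHyp N)
    (H : Subgroup G) (hFr : H ⊔ N = ⊤) {g : G} (hgN : g ∉ N) (hgH : g ∈ H)
    {m : G} (hm : m ∈ N) (hgm : m⁻¹ * g * m ∈ H) : m ∈ H := by
  classical
  haveI : Fintype ↥N := Fintype.ofFinite _
  let c : G → ℕ := fun x =>
    (Finset.univ.filter (fun m : ↥N => (m : G)⁻¹ * x * (m : G) ∈ H)).card
  let d : ℕ := (Finset.univ.filter (fun n : ↥N => (n : G) ∈ H)).card
  have hconj : ∀ (x t : G), c (t * x * t⁻¹) = c x := by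
    intro x t
    have ht : t ∈ H ⊔ N := by rw [hFr]; exact mem_top t
    rw [← SetLike.mem_coe, mul_normal] at ht
    obtain ⟨h₀, hh₀, n₀, hn₀, rfl⟩ := Set.mem_mul.1 ht
    let e : ↥N ≃ ↥N :=
      { toFun := fun m => ⟨n₀⁻¹ * (h₀⁻¹ * (m : G) * h₀),
          N.mul_mem (N.inv_mem hn₀) (by simpa using hN.conj_mem _ m.2 h₀⁻¹)⟩
        invFun := fun m' => ⟨h₀ * (n₀ * (m' : G)) * h₀⁻¹,
          hN.conj_mem _ (N.mul_mem hn₀ m'.2) h₀⟩
        left_inv := fun m => Subtype.ext (by simp only; group)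
        right_inv := fun m' => Subtype.ext (by simp only; group) }
    apply Finset.card_equiv e
    intro m
    simp only [Finset.mem_filter, Finset.mem_univ, true_and]
    have key : ((e m : ↥N) : G)⁻¹ * x * ((e m : ↥N) : G) =
        h₀⁻¹ * ((m : G)⁻¹ * (h₀ * n₀ * x * (h₀ * n₀)⁻¹) * (m : G)) * h₀ := by
      show (n₀⁻¹ * (h₀⁻¹ * (m : G) * h₀))⁻¹ * x * (n₀⁻¹ * (h₀⁻¹ * (m : G) * h₀)) = _
      group
    rw [key]
    constructor
    · intro hmem
      exact H.mul_mem (H.mul_mem (H.inv_mem hh₀) hmem) hh₀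
    · intro hmem
      have h1 := H.mul_mem (H.mul_mem hh₀ hmem) (H.inv_mem hh₀)
      have e1 : h₀ * (h₀⁻¹ * ((m : G)⁻¹ * (h₀ * n₀ * x * (h₀ * n₀)⁻¹) * (m : G)) * h₀) * h₀⁻¹ =
          (m : G)⁻¹ * (h₀ * n₀ * x * (h₀ * n₀)⁻¹) * (m : G) := by group
      rwa [e1] at h1
  have hsum : ∑ n : ↥N, c (g * (n : G)) = Fintype.card ↥N * d := by
    have h1 : ∀ n : ↥N, c (g * (n : G)) =
        ∑ m : ↥N, if (m : G)⁻¹ * (g * (n : G)) * (m : G) ∈ H then 1 else 0 := by
      intro n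
      exact Finset.card_filter _ _
    rw [Finset.sum_congr rfl (fun n _ => h1 n), Finset.sum_comm]
    have h2 : ∀ m : ↥N, (∑ n : ↥N, if (m : G)⁻¹ * (g * (n : G)) * (m : G) ∈ H then 1 else 0) = d := by
      intro m
      rw [← Finset.card_filter]
      have hk : g⁻¹ * (m : G)⁻¹ * g * (m : G) ∈ N := by
        have h3 : g⁻¹ * (m : G)⁻¹ * g ∈ N := by
          simpa using hN.conj_mem _ (N.inv_mem m.2) g⁻¹
        exact N.mul_mem h3 m.2
      let e : ↥N ≃ ↥N :=
        { toFun := fun n => ⟨(g⁻¹ * (m : G)⁻¹ * g * (m : G)) * ((m : G)⁻¹ * (n : G) * (m : G)),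
            N.mul_mem hk (by simpa using hN.conj_mem _ n.2 (m : G)⁻¹)⟩
          invFun := fun n' => ⟨(m : G) * ((g⁻¹ * (m : G)⁻¹ * g * (m : G))⁻¹ * (n' : G)) * (m : G)⁻¹,
            hN.conj_mem _ (N.mul_mem (N.inv_mem hk) n'.2) (m : G)⟩
          left_inv := fun n => Subtype.ext (by simp only; group)
          right_inv := fun n' => Subtype.ext (by simp only; group) }
      apply Finset.card_equiv e
      intro n
      simp only [Finset.mem_filter, Finset.mem_univ, true_and]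
      have key : (m : G)⁻¹ * (g * (n : G)) * (m : G) = g * ((e n : ↥N) : G) := by
        show _ = g * ((g⁻¹ * (m : G)⁻¹ * g * (m : G)) * ((m : G)⁻¹ * (n : G) * (m : G)))
        group
      rw [key]
      exact H.mul_mem_cancel_left hgH
    rw [Finset.sum_congr rfl (fun m _ => h2 m), Finset.sum_const, Finset.card_univ, smul_eq_mul]
  have hconst : ∀ n : ↥N, c (g * (n : G)) = c g := by
    intro n
    obtain ⟨t, ht⟩ := h g hgN n n.2
    rw [← ht]
    exact hconj g t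
  rw [Finset.sum_congr rfl (fun n _ => hconst n), Finset.sum_const, Finset.card_univ,
    smul_eq_mul] at hsum
  have hNpos : 0 < Fintype.card ↥N := Fintype.card_pos
  have hcd : c g = d := Nat.eq_of_mul_eq_mul_left hNpos hsum
  have hsub : (Finset.univ.filter (fun n : ↥N => (n : G) ∈ H)) ⊆
      (Finset.univ.filter (fun m : ↥N => (m : G)⁻¹ * g * (m : G) ∈ H)) := by
    intro n hn
    simp only [Finset.mem_filter, Finset.mem_univ, true_and] at hn ⊢
    exact H.mul_mem (H.mul_mem (H.inv_mem hn) hgH) hn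
  have heq := Finset.eq_of_subset_of_card_le hsub (le_of_eq hcd)
  have hmem : (⟨m, hm⟩ : ↥N) ∈ (Finset.univ.filter (fun m : ↥N => (m : G)⁻¹ * g * (m : G) ∈ H)) := by
    simp only [Finset.mem_filter, Finset.mem_univ, true_and]
    exact hgm
  rw [← heq] at hmem
  simpa using hmem

/-- The Frattini–Camina principle: if `H N = G` then `(H, H ∩ N)` inherits the Camina property. -/
theorem cam_sub [Finite G] (N : Subgroup G) [hN : N.Normal] (h : CamHyp N)
    (H : Subgroup G) (hFr : H ⊔ N = ⊤) {g : G} (hgH : g ∈ H) (hgN : g ∉ N) {n : G} (hn : n ∈ N)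
    (hnH : n ∈ H) : ∃ t ∈ H, t * g * t⁻¹ = g * n := by
  obtain ⟨t₀, ht₀⟩ := h g hgN n hn
  have ht : t₀ ∈ H ⊔ N := by rw [hFr]; exact mem_top t₀
  rw [← SetLike.mem_coe, mul_normal] at ht
  obtain ⟨h₀, hh₀, n₀, hn₀, rfl⟩ := Set.mem_mul.1 ht
  have h1 : n₀ * g * n₀⁻¹ ∈ H := by
    have e : n₀ * g * n₀⁻¹ = h₀⁻¹ * (h₀ * n₀ * g * (h₀ * n₀)⁻¹) * h₀ := by group
    rw [e, ht₀]
    exact H.mul_mem (H.mul_mem (H.inv_mem hh₀) (H.mul_mem hgH hnH)) hh₀
  have h2 : n₀⁻¹ ∈ H := by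
    apply cam_unique_conj N h H hFr hgN hgH (N.inv_mem hn₀)
    simpa using h1
  have h3 : n₀ ∈ H := by simpa using H.inv_mem h2
  exact ⟨h₀ * n₀, H.mul_mem hh₀ h3, ht₀⟩

/-- The Camina hypothesis for the pair `(H, N ∩ H)` inside the group `H`. -/
theorem cam_subgroupOf [Finite G] (N : Subgroup G) [hN : N.Normal] (h : CamHyp N)
    (H : Subgroup G) (hFr : H ⊔ N = ⊤) : CamHyp (N.subgroupOf H) := by
  intro g hg n hn
  rw [mem_subgroupOf] at hg hn
  obtain ⟨t, htH, ht⟩ := cam_sub N h H hFr g.2 hg hn n.2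
  exact ⟨⟨t, htH⟩, Subtype.ext ht⟩

end Cfsg.Agent.Lib.Helper21
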