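import Mathlib
import Cfsg.Agent.Lib.Helper21.Camina4

/-!
# Camina pairs, part 5: a Frobenius-action lemma (product trick)
-/

set_option autoImplicit false
set_option linter.style.haveILetI false
set_option linter.unnecessarySimpa false
set_option linter.unusedVariables false

namespace Cfsg.Agent.Lib.Helper21

open Subgroup

universe u

variable {G : Type u} [Group G]

/-- If `y` of prime order normalizes `F` with `C_F(y) = 1`, and `F ⟨y⟩` acts on the abelian normal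
subgroup `W` of coprime order with `C_W(F) = 1` and `C_W(y) = 1`, then `W = 1`. -/
theorem cam_frob_trick [Finite G] (F W : Subgroup G) [hWn : W.Normal] (y : G) {r : ℕ}
    [hr : Fact r.Prime] (hyr : orderOf y = r) (hyF : y ∈ normalizer (F : Set G))
    (hWab : ∀ x ∈ W, ∀ z ∈ W, x * z = z * x)
    (hcop : (Nat.card F).Coprime (Nat.card W))
    (hCF : ∀ f ∈ F, Commute f y → f = 1)
    (hCW : ∀ w ∈ W, (∀ f ∈ F, Commute f w) → w = 1)
    (hCy : ∀ w ∈ W, Commute y w → w = 1) : W = ⊥ := by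
  classical
  haveI : NeZero r := ⟨hr.out.ne_zero⟩
  haveI : Fintype ↥F := Fintype.ofFinite _
  letI : CommGroup ↥W := { (inferInstance : Group ↥W) with
    mul_comm := fun x z => Subtype.ext (hWab x x.2 z z.2) }
  let φ : G →* MulAut ↥W := MulAut.conjNormal
  have hφ : ∀ (g : G) (w : ↥W), ((φ g w : ↥W) : G) = g * w * g⁻¹ :=
    fun g w => MulAut.conjNormal_apply g w
  rw [eq_bot_iff]
  intro w₀ hw₀
  rw [mem_bot]
  set w : ↥W := ⟨w₀, hw₀⟩ with hwdef
  suffices hw : w = 1 by exact congrArg Subtype.val hw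
  have hyr1 : y ^ r = 1 := by rw [← hyr]; exact pow_orderOf_eq_one y
  have hconjpow : ∀ (f : G) (k : ℕ), (f⁻¹ * y * f) ^ k = f⁻¹ * y ^ k * f := by
    intro f k
    have e : f⁻¹ * y * f = f⁻¹ * y * (f⁻¹)⁻¹ := by rw [inv_inv]
    rw [e, conj_pow, inv_inv]
  have hγpow : ∀ f : ↥F, (φ ((f : G)⁻¹ * y * f)) ^ r = 1 := by
    intro f
    rw [← map_pow, hconjpow, hyr1, mul_one, inv_mul_cancel, map_one]
  have hγfpf : ∀ f : ↥F, ∀ v : ↥W, φ ((f : G)⁻¹ * y * f) v = v → v = 1 := by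
    intro f v hv
    have h1 : ((f : G)⁻¹ * y * f) * v * ((f : G)⁻¹ * y * f)⁻¹ = v := by rw [← hφ, hv]
    have hmem : (f : G) * v * (f : G)⁻¹ ∈ W := hWn.conj_mem _ v.2 _
    have hcomm : Commute y ((f : G) * v * (f : G)⁻¹) := by
      show y * ((f : G) * v * (f : G)⁻¹) = ((f : G) * v * (f : G)⁻¹) * y
      have e2 : (f : G) * (((f : G)⁻¹ * y * f) * v * ((f : G)⁻¹ * y * f)⁻¹) * (f : G)⁻¹ =
          y * ((f : G) * v * (f : G)⁻¹) * y⁻¹ := by group
      rw [h1] at e2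
      calc y * ((f : G) * v * (f : G)⁻¹) = (y * ((f : G) * v * (f : G)⁻¹) * y⁻¹) * y := by group
        _ = ((f : G) * v * (f : G)⁻¹) * y := by rw [← e2]
    have h2 := hCy _ hmem hcomm
    have h3 : (v : G) = 1 := by
      have e3 : (v : G) = (f : G)⁻¹ * ((f : G) * v * (f : G)⁻¹) * f := by group
      rw [e3, h2]; group
    exact Subtype.ext h3
  have htot : ∏ f : ↥F, ∏ i : ZMod r, ((φ ((f : G)⁻¹ * y * f)) ^ i.val) w = 1 := by
    apply Fintype.prod_eq_one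
    intro f
    exact cam_trace_eq_one _ (hγpow f) (hγfpf f) w
  have hpow : ∀ (f : ↥F) (i : ZMod r),
      ((φ ((f : G)⁻¹ * y * f)) ^ i.val) w = φ ((f : G)⁻¹ * y ^ i.val * f) w := by
    intro f i
    rw [← map_pow, hconjpow]
  simp_rw [hpow] at htot
  rw [Finset.prod_comm] at htot
  set τ : ↥W := ∏ f : ↥F, φ (f : G) w with hτ
  have hτ1 : τ = 1 := by
    have hfix : ∀ f₀ ∈ F, Commute f₀ (τ : G) := by
      intro f₀ hf₀
      have h1 : φ f₀ τ = τ := by
        rw [hτ, map_prod]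
        have h2 : ∀ f : ↥F, φ f₀ (φ (f : G) w) = φ (((⟨f₀, hf₀⟩ : ↥F) * f : ↥F) : G) w := by
          intro f
          rw [← MulAut.mul_apply, ← map_mul]
          rfl
        rw [Fintype.prod_congr _ _ h2]
        exact Equiv.prod_comp (Equiv.mulLeft (⟨f₀, hf₀⟩ : ↥F)) (fun f : ↥F => φ (f : G) w)
      have h3 : f₀ * (τ : G) * f₀⁻¹ = τ := by rw [← hφ, h1]
      show f₀ * (τ : G) = τ * f₀
      calc f₀ * (τ : G) = (f₀ * τ * f₀⁻¹) * f₀ := by group
        _ = τ * f₀ := by rw [h3]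
    exact Subtype.ext (hCW _ τ.2 hfix)
  have hterm : ∀ i : ZMod r, i ≠ 0 → ∏ f : ↥F, φ ((f : G)⁻¹ * y ^ i.val * f) w = 1 := by
    intro i hi
    set k := i.val with hk
    have hk0 : k ≠ 0 := by rw [hk]; exact (ZMod.val_ne_zero i).2 hi
    have hkr : k < r := ZMod.val_lt i
    have hyk : y ^ k ∈ normalizer (F : Set G) := (normalizer (F : Set G)).pow_mem hyF k
    have hκmem : ∀ f : ↥F, (y ^ k)⁻¹ * (f : G)⁻¹ * y ^ k * f ∈ F := by
      intro f
      have h1 : (y ^ k)⁻¹ * (f : G)⁻¹ * ((y ^ k)⁻¹)⁻¹ ∈ F :=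
        (mem_normalizer_iff.1 ((normalizer (F : Set G)).inv_mem hyk) _).1 (F.inv_mem f.2)
      rw [inv_inv] at h1
      exact F.mul_mem h1 f.2
    let κ : ↥F → ↥F := fun f => ⟨(y ^ k)⁻¹ * (f : G)⁻¹ * y ^ k * f, hκmem f⟩
    have hcopk : k.Coprime (orderOf y) := by
      rw [hyr]
      apply Nat.Coprime.symm
      rw [Nat.Prime.coprime_iff_not_dvd hr.out]
      intro hdvd
      have := Nat.le_of_dvd (Nat.pos_of_ne_zero hk0) hdvd
      omega
    have hκinj : Function.Injective κ := by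
      intro f₁ f₂ h12
      have h1 : (y ^ k)⁻¹ * (f₁ : G)⁻¹ * y ^ k * f₁ = (y ^ k)⁻¹ * (f₂ : G)⁻¹ * y ^ k * f₂ :=
        congrArg Subtype.val h12
      have h2 : Commute ((f₂ : G) * (f₁ : G)⁻¹) (y ^ k) := by
        show (f₂ : G) * (f₁ : G)⁻¹ * y ^ k = y ^ k * ((f₂ : G) * (f₁ : G)⁻¹)
        have e1 : (f₁ : G)⁻¹ * y ^ k * f₁ = (f₂ : G)⁻¹ * y ^ k * f₂ := by
          have e0 := congrArg (fun z => y ^ k * z) h1
          simpa [mul_assoc] using e0
        calc (f₂ : G) * (f₁ : G)⁻¹ * y ^ k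
            = f₂ * ((f₁ : G)⁻¹ * y ^ k * f₁) * (f₁ : G)⁻¹ := by group
          _ = f₂ * ((f₂ : G)⁻¹ * y ^ k * f₂) * (f₁ : G)⁻¹ := by rw [e1]
          _ = y ^ k * ((f₂ : G) * (f₁ : G)⁻¹) := by group
      obtain ⟨m, hm⟩ := exists_pow_eq_self_of_coprime hcopk
      have h3 : Commute ((f₂ : G) * (f₁ : G)⁻¹) y := by
        rw [← hm]
        exact h2.pow_right m
      have h4 := hCF _ (F.mul_mem f₂.2 (F.inv_mem f₁.2)) h3
      apply Subtype.ext
      exact (mul_inv_eq_one.1 h4).symm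
    let eκ : ↥F ≃ ↥F := Equiv.ofBijective κ (Finite.injective_iff_bijective.1 hκinj)
    have h5 : ∀ f : ↥F, φ ((f : G)⁻¹ * y ^ k * f) w = φ (y ^ k) (φ ((eκ f : ↥F) : G) w) := by
      intro f
      rw [← MulAut.mul_apply, ← map_mul]
      have e5 : (f : G)⁻¹ * y ^ k * f = y ^ k * ((eκ f : ↥F) : G) := by
        show _ = y ^ k * ((y ^ k)⁻¹ * (f : G)⁻¹ * y ^ k * f)
        group
      rw [e5]
    rw [Fintype.prod_congr _ _ h5, ← map_prod]
    rw [Equiv.prod_comp eκ (fun f : ↥F => φ (f : G) w)]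
    rw [← hτ, hτ1, map_one]
  rw [Fintype.prod_eq_single (0 : ZMod r) hterm] at htot
  have h6 : ∀ f : ↥F, φ ((f : G)⁻¹ * y ^ (0 : ZMod r).val * f) w = w := by
    intro f
    rw [ZMod.val_zero, pow_zero, mul_one, inv_mul_cancel, map_one, MulAut.one_apply]
  rw [Fintype.prod_congr _ _ h6, Finset.prod_const, Finset.card_univ] at htot
  have h7 : orderOf w ∣ Fintype.card ↥F := orderOf_dvd_of_pow_eq_one htot
  have h8 : orderOf w ∣ Nat.card W := orderOf_dvd_natCard w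
  rw [← Nat.card_eq_fintype_card] at h7
  have h9 : orderOf w ∣ Nat.gcd (Nat.card F) (Nat.card W) := Nat.dvd_gcd h7 h8
  rw [Nat.Coprime] at hcop
  rw [hcop] at h9
  exact orderOf_eq_one_iff.1 (Nat.dvd_one.1 h9)

end Cfsg.Agent.Lib.Helper21
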