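import Mathlib
import Cfsg.Agent.Lib.Helper21.Camina5

/-!
# Camina pairs, part 6: helper lemmas for the main induction
-/

set_option autoImplicit false
set_option linter.style.haveILetI false
set_option linter.unnecessarySimpa false
set_option linter.unusedVariables false

namespace Cfsg.Agent.Lib.Helper21

open Subgroup

universe u

variable {G : Type u} [Group G]

/-- If `q` divides both `|N|` and `|G : N|`, the Frobenius alternative fails. -/
theorem cam_not_frob [Finite G] (N : Subgroup G) [hN : N.Normal] (h : CamHyp N) {q : ℕ}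
    [hq : Fact q.Prime] (hqN : q ∣ Nat.card N) (hqI : q ∣ N.index) :
    ¬ (∀ x ∈ N, x ≠ 1 → centralizer ({x} : Set G) ≤ N) := by
  intro hA
  rw [Subgroup.index_eq_card] at hqI
  obtain ⟨gb, hgb⟩ := exists_prime_orderOf_dvd_card' q hqI
  obtain ⟨g, rfl⟩ := QuotientGroup.mk'_surjective N gb
  have hgN : g ∉ N := by
    intro hmem
    have h1 : QuotientGroup.mk' N g = 1 := (QuotientGroup.eq_one_iff g).2 hmem
    rw [h1, orderOf_one] at hgb
    exact hq.out.one_lt.ne hgb
  have hgq : g ^ (q ^ 1) ∈ N := by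
    rw [pow_one]
    apply (QuotientGroup.eq_one_iff _).1
    have e : ((g ^ q : G) : G ⧸ N) = (QuotientGroup.mk' N g) ^ q := rfl
    rw [e, ← hgb, pow_orderOf_eq_one]
  obtain ⟨j, hj⟩ := cam_isPElt h hgN hgq
  obtain ⟨d, hdN, hd1, hgd, -⟩ := cam_exists_comm N hqN hj
  have h1 : g ∈ centralizer ({d} : Set G) := by
    rw [mem_centralizer_singleton_iff]
    exact hgd.eq
  exact hgN (hA d hdN hd1 h1)

/-- The "centre" `X ∩ C(X)` of a nontrivial `p`-subgroup is nontrivial. -/
theorem cam_zcenter_ne_bot [Finite G] {p : ℕ} [hp : Fact p.Prime] (X : Subgroup G)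
    (hX : IsPGroup p X) (hX1 : X ≠ ⊥) : X ⊓ centralizer (X : Set G) ≠ ⊥ := by
  haveI : Nontrivial ↥X := (Subgroup.nontrivial_iff_ne_bot X).2 hX1
  haveI := hX.center_nontrivial
  obtain ⟨z, hz⟩ := exists_ne (1 : ↥(center ↥X))
  intro hbot
  apply hz
  have hmem : ((z : ↥X) : G) ∈ X ⊓ centralizer (X : Set G) := by
    refine ⟨(z : ↥X).2, ?_⟩
    show ((z : ↥X) : G) ∈ centralizer (X : Set G)
    rw [mem_centralizer_iff]
    intro x hx
    have h1 := Subgroup.mem_center_iff.1 z.2 ⟨x, hx⟩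
    exact congrArg Subtype.val h1
  rw [hbot, mem_bot] at hmem
  exact Subtype.ext (Subtype.ext hmem)

/-- The normalizer of `X` normalizes `X ∩ C(X)`. -/
theorem cam_normalizer_le_zcenter (X : Subgroup G) :
    normalizer (X : Set G) ≤ normalizer ((X ⊓ centralizer (X : Set G) : Subgroup G) : Set G) := by
  intro g hg
  have key : ∀ g : G, g ∈ normalizer (X : Set G) → ∀ w : G, w ∈ X ⊓ centralizer (X : Set G) →
      g * w * g⁻¹ ∈ X ⊓ centralizer (X : Set G) := by
    intro g hg w hw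
    refine ⟨(mem_normalizer_iff.1 hg w).1 hw.1, ?_⟩
    show g * w * g⁻¹ ∈ centralizer (X : Set G)
    rw [mem_centralizer_iff]
    intro x hx
    have hx' : g⁻¹ * x * (g⁻¹)⁻¹ ∈ X :=
      (mem_normalizer_iff.1 ((normalizer (X : Set G)).inv_mem hg) x).1 hx
    rw [inv_inv] at hx'
    have hw2 : w ∈ centralizer (X : Set G) := hw.2
    have h1 := (mem_centralizer_iff.1 hw2) _ hx'
    calc x * (g * w * g⁻¹) = g * ((g⁻¹ * x * g) * w) * g⁻¹ := by group
      _ = g * (w * (g⁻¹ * x * g)) * g⁻¹ := by rw [h1]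
      _ = g * w * g⁻¹ * x := by group
  rw [mem_normalizer_iff]
  intro w
  constructor
  · exact key g hg w
  · intro hw
    have h1 := key g⁻¹ ((normalizer (X : Set G)).inv_mem hg) _ hw
    have e : g⁻¹ * (g * w * g⁻¹) * g⁻¹⁻¹ = w := by group
    rwa [e] at h1

/-- A prime power has a unique prime divisor. -/
theorem cam_primePow_unique {m p q : ℕ} (hm : IsPrimePow m) (hp : p.Prime) (hq : q.Prime)
    (hpm : p ∣ m) (hqm : q ∣ m) : p = q := by
  obtain ⟨r, k, hr, hk, rfl⟩ := (isPrimePow_nat_iff m).1 hm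
  have h1 : p = r := (Nat.prime_dvd_prime_iff_eq hp hr).1 (hp.dvd_of_dvd_pow hpm)
  have h2 : q = r := (Nat.prime_dvd_prime_iff_eq hq hr).1 (hq.dvd_of_dvd_pow hqm)
  rw [h1, h2]

theorem cam_card_subgroupOf (N H : Subgroup G) :
    Nat.card (N.subgroupOf H) = Nat.card (N ⊓ H : Subgroup G) := by
  rw [← inf_subgroupOf_right N H]
  exact Nat.card_congr (subgroupOfEquivOfLe (inf_le_right : N ⊓ H ≤ H)).toEquiv

theorem cam_index_subgroupOf (N H : Subgroup G) [hN : N.Normal] (hFr : H ⊔ N = ⊤) :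
    (N.subgroupOf H).index = N.index := by
  have h1 : N.relIndex (H ⊔ N) = N.relIndex H := relIndex_sup_right H N
  rw [hFr, relIndex_top_right] at h1
  exact h1.symm

theorem cam_card_eq_mul [Finite G] (N H : Subgroup G) [hN : N.Normal] (hFr : H ⊔ N = ⊤) :
    Nat.card H = Nat.card (N ⊓ H : Subgroup G) * N.index := by
  have h1 := (N.subgroupOf H).card_mul_index
  rw [cam_card_subgroupOf, cam_index_subgroupOf N H hFr] at h1
  exact h1.symm

/-- The induction step: apply the trichotomy to `(H, N ∩ H)` where `H N = G`, `H ≠ G`. -/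
theorem cam_ih_step [Finite G]
    (ih : ∀ (K : Type u) [Group K] [Finite K], Nat.card K < Nat.card G →
      ∀ (M : Subgroup K) [M.Normal], M ≠ ⊥ → M ≠ ⊤ → CamHyp M →
      (∀ x ∈ M, x ≠ 1 → centralizer ({x} : Set K) ≤ M) ∨ IsPrimePow (Nat.card M) ∨
        IsPrimePow M.index)
    (N : Subgroup G) [hN : N.Normal] (hN2 : N ≠ ⊤) (h : CamHyp N)
    (hC : ¬ IsPrimePow N.index) (H : Subgroup G) (hFr : H ⊔ N = ⊤) (hH : H ≠ ⊤)
    (hNH : N ⊓ H ≠ ⊥) {q : ℕ} [hq : Fact q.Prime] (hqI : q ∣ N.index)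
    (hqNH : q ∣ Nat.card (N ⊓ H : Subgroup G)) : IsPrimePow (Nat.card (N ⊓ H : Subgroup G)) := by
  have hcard : Nat.card H < Nat.card G := by
    have h1 : Nat.card H ≤ Nat.card G := Subgroup.card_le_card_group H
    have h2 : Nat.card H ≠ Nat.card G := fun he => hH ((card_eq_iff_eq_top H).1 he)
    omega
  have hM1 : N.subgroupOf H ≠ ⊥ := by
    intro hbot
    rw [subgroupOf_eq_bot] at hbot
    exact hNH (disjoint_iff.1 hbot)
  have hM2 : N.subgroupOf H ≠ ⊤ := by
    intro htop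
    rw [subgroupOf_eq_top] at htop
    apply hN2
    rw [← hFr]
    exact (sup_eq_right.2 htop).symm
  have hcam := cam_subgroupOf N h H hFr
  rcases ih ↥H hcard (N.subgroupOf H) hM1 hM2 hcam with hA | hB | hC'
  · exfalso
    have h1 : q ∣ Nat.card (N.subgroupOf H) := by rw [cam_card_subgroupOf]; exact hqNH
    have h2 : q ∣ (N.subgroupOf H).index := by rw [cam_index_subgroupOf N H hFr]; exact hqI
    exact cam_not_frob (N.subgroupOf H) hcam h1 h2 hA
  · rw [cam_card_subgroupOf] at hB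
    exact hB
  · exfalso
    rw [cam_index_subgroupOf N H hFr] at hC'
    exact hC hC'

end Cfsg.Agent.Lib.Helper21
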