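import Mathlib
import Cfsg.Agent.Lib.Helper21.Camina6

/-!
# Camina pairs, part 7: the trichotomy
-/

set_option autoImplicit false
set_option linter.style.haveILetI false
set_option linter.unnecessarySimpa false
set_option linter.unusedVariables false

namespace Cfsg.Agent.Lib.Helper21

open Subgroup

universe u

variable {G : Type u} [Group G]

theorem cam_exists_other_prime {m q : ℕ} (hm : m ≠ 0) (hq : q.Prime) (hqm : q ∣ m)
    (hnpp : ¬ IsPrimePow m) : ∃ p : ℕ, p.Prime ∧ p ≠ q ∧ p ∣ m := by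
  by_contra hno
  apply hnpp
  have h1 : m = q ^ m.primeFactorsList.length := by
    apply Nat.eq_prime_pow_of_unique_prime_dvd hm
    intro d hd hdm
    by_contra hne
    exact hno ⟨d, hd, hne, hdm⟩
  have hk : m.primeFactorsList.length ≠ 0 := by
    intro h0
    rw [h0, pow_zero] at h1
    rw [h1] at hqm
    exact hq.one_lt.ne' (Nat.dvd_one.1 hqm)
  rw [h1]
  exact hq.isPrimePow.pow hk

/-- Facts about the image in `G` of a nontrivial Sylow `p`-subgroup of `N`. -/
theorem cam_sylow_facts [Finite G] (N : Subgroup G) {p : ℕ} [hp : Fact p.Prime] (P : Sylow p N)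
    (hP1 : (P : Subgroup N) ≠ ⊥) :
    ((P : Subgroup N).map N.subtype ≤ N) ∧ IsPGroup p ((P : Subgroup N).map N.subtype) ∧
      ((P : Subgroup N).map N.subtype ≠ ⊥) ∧
      (∀ K : Subgroup G, (P : Subgroup N).map N.subtype ≤ K → p ∣ Nat.card K) := by
  have hXp : IsPGroup p ((P : Subgroup N).map N.subtype) := P.isPGroup'.map N.subtype
  have hX1 : (P : Subgroup N).map N.subtype ≠ ⊥ := by
    intro hbot
    exact hP1 ((map_eq_bot_iff_of_injective _ N.subtype_injective).1 hbot)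
  refine ⟨map_subtype_le _, hXp, hX1, ?_⟩
  intro K hK
  obtain ⟨k, hk⟩ := hXp.exists_card_eq
  have hk0 : k ≠ 0 := by
    rintro rfl
    rw [pow_zero] at hk
    exact hX1 (Subgroup.card_eq_one.1 hk)
  have h1 : Nat.card ((P : Subgroup N).map N.subtype) ∣ Nat.card K := card_dvd_of_le hK
  rw [hk] at h1
  exact (dvd_pow_self p hk0).trans h1

/-- Facts about `W = X ∩ C(X)` for a nontrivial `p`-subgroup `X ≤ N`. -/
theorem cam_W_facts [Finite G] (N X : Subgroup G) {p q : ℕ} [hp : Fact p.Prime]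
    [hq : Fact q.Prime] (hpq : p ≠ q) (hXN : X ≤ N) (hXp : IsPGroup p X) (hX1 : X ≠ ⊥) :
    (X ⊓ centralizer (X : Set G) ≤ N) ∧ (X ⊓ centralizer (X : Set G) ≠ ⊥) ∧
      (∀ x ∈ X ⊓ centralizer (X : Set G), ∀ y ∈ X ⊓ centralizer (X : Set G), x * y = y * x) ∧
      (∀ S : Subgroup G, IsPGroup q S →
        (Nat.card S).Coprime (Nat.card (X ⊓ centralizer (X : Set G) : Subgroup G))) := by
  refine ⟨inf_le_left.trans hXN, cam_zcenter_ne_bot X hXp hX1, ?_, ?_⟩
  · intro x hx y hy
    have hy2 : y ∈ centralizer (X : Set G) := hy.2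
    exact (mem_centralizer_iff.1 hy2) x hx.1
  · intro S hS
    obtain ⟨k, hk⟩ := hXp.exists_card_eq
    obtain ⟨a, ha⟩ := hS.exists_card_eq
    have h1 : Nat.card (X ⊓ centralizer (X : Set G) : Subgroup G) ∣ p ^ k :=
      hk ▸ card_dvd_of_le inf_le_left
    rw [ha]
    exact Nat.Coprime.coprime_dvd_right h1
      (Nat.Coprime.pow a k ((Nat.coprime_primes hq.out hp.out).2 (Ne.symm hpq)))

/-- Step 5a: every Sylow `p`-subgroup of `N`, `p ≠ q`, is normal in `G`. -/
theorem cam_sylow_normal [Finite G]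
    (ih : ∀ (K : Type u) [Group K] [Finite K], Nat.card K < Nat.card G →
      ∀ (M : Subgroup K) [M.Normal], M ≠ ⊥ → M ≠ ⊤ → CamHyp M →
      (∀ x ∈ M, x ≠ 1 → centralizer ({x} : Set K) ≤ M) ∨ IsPrimePow (Nat.card M) ∨
        IsPrimePow M.index)
    (N : Subgroup G) [hN : N.Normal] (hN2 : N ≠ ⊤) (h : CamHyp N)
    (hC : ¬ IsPrimePow N.index) {q : ℕ} [hq : Fact q.Prime] (hqN : q ∣ Nat.card N)
    (hqI : q ∣ N.index) {p : ℕ} [hp : Fact p.Prime] (hpq : p ≠ q) (P : Sylow p N)
    (hP1 : (P : Subgroup N) ≠ ⊥) :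
    normalizer (((P : Subgroup N).map N.subtype : Subgroup G) : Set G) = ⊤ := by
  by_contra hH
  obtain ⟨hXN, hXp, hX1, hXdvd⟩ := cam_sylow_facts N P hP1
  set X := (P : Subgroup N).map N.subtype with hX
  set H := normalizer (X : Set G) with hHdef
  have hFr : H ⊔ N = ⊤ := Sylow.normalizer_sup_eq_top P
  have hXH : X ≤ H := le_normalizer
  have hNH : N ⊓ H ≠ ⊥ := by
    intro hbot
    apply hX1
    rw [eq_bot_iff, ← hbot]
    exact le_inf hXN hXH
  have hpNH : p ∣ Nat.card (N ⊓ H : Subgroup G) := hXdvd _ (le_inf hXN hXH)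
  have hqNH : ¬ q ∣ Nat.card (N ⊓ H : Subgroup G) := by
    intro hdvd
    have hpp := cam_ih_step ih N hN2 h hC H hFr hH hNH hqI hdvd
    exact hpq (cam_primePow_unique hpp hp.out hq.out hpNH hdvd)
  obtain ⟨Q₁⟩ : Nonempty (Sylow q ↥H) := Sylow.nonempty
  set S := (Q₁ : Subgroup H).map H.subtype with hS
  have hSp : IsPGroup q S := Q₁.isPGroup'.map H.subtype
  have hSH : S ≤ H := map_subtype_le _
  have hSN : S ⊓ N = ⊥ := by
    rw [eq_bot_iff]
    intro x hx
    rw [mem_bot]
    obtain ⟨i, hi⟩ := (IsPGroup.iff_orderOf.1 hSp) ⟨x, hx.1⟩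
    have hi' : orderOf x = q ^ i := by
      rw [← hi]
      exact Subgroup.orderOf_coe (⟨x, hx.1⟩ : ↥S)
    have hx' : x ∈ N ⊓ H := ⟨hx.2, hSH hx.1⟩
    have h1 : orderOf x ∣ Nat.card (N ⊓ H : Subgroup G) := (N ⊓ H).orderOf_dvd_natCard hx'
    by_contra hx1
    have hi0 : i ≠ 0 := by
      rintro rfl
      rw [pow_zero, orderOf_eq_one_iff] at hi'
      exact hx1 hi'
    exact hqNH ((dvd_pow_self q hi0).trans (hi' ▸ h1))
  obtain ⟨hWN, hW1, hWab, hWcop⟩ := cam_W_facts N X hpq hXN hXp hX1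
  set W := X ⊓ centralizer (X : Set G) with hW
  have hWq : (Nat.card W).Coprime q := by
    have h1 := hWcop (zpowers (1 : G)) (IsPGroup.of_card (n := 0) (by simp))
    have hcardq : ∀ T : Subgroup G, IsPGroup q T → (Nat.card T).Coprime (Nat.card W) := hWcop
    obtain ⟨k, hk⟩ := hXp.exists_card_eq
    have h2 : Nat.card W ∣ p ^ k := hk ▸ card_dvd_of_le inf_le_left
    exact Nat.Coprime.coprime_dvd_left h2
      (Nat.Coprime.pow_left k ((Nat.coprime_primes hp.out hq.out).2 hpq))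
  have hSW : S ≤ normalizer (W : Set G) := hSH.trans (cam_normalizer_le_zcenter X)
  have hSNW : S ⊓ N ≤ centralizer (W : Set G) := by rw [hSN]; exact bot_le
  have hScard : Nat.card (S.map (QuotientGroup.mk' N)) =
      q ^ (Nat.card (G ⧸ N)).factorization q := by
    have h1 : S.map (QuotientGroup.mk' N) = ((QuotientGroup.mk' N).comp S.subtype).range := by
      rw [MonoidHom.range_comp, range_subtype]
    have hinj : Function.Injective ((QuotientGroup.mk' N).comp S.subtype) := by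
      rw [injective_iff_map_eq_one]
      intro s hs
      have h2 : (s : G) ∈ N := (QuotientGroup.eq_one_iff _).1 hs
      have h3 : (s : G) ∈ S ⊓ N := ⟨s.2, h2⟩
      rw [hSN, mem_bot] at h3
      exact Subtype.ext h3
    rw [h1, ← Nat.card_congr (MonoidHom.ofInjective hinj).toEquiv]
    have h2 : Nat.card S = Nat.card (Q₁ : Subgroup H) := card_map_of_injective H.subtype_injective
    rw [h2, Q₁.card_eq_multiplicity, cam_card_eq_mul N H hFr]
    congr 1
    rw [Nat.factorization_mul Nat.card_pos.ne' index_ne_zero_of_finite, Finsupp.add_apply,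
      Nat.factorization_eq_zero_of_not_dvd hqNH, zero_add, index_eq_card]
  exact cam_lemmaG N h hqN hqI S W hSp hWN hW1 hWab hWq hSW hSNW hScard

end Cfsg.Agent.Lib.Helper21
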