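import Mathlib
import Cfsg.Agent.Lib.Helper21.Camina7

/-!
# Camina pairs, part 8: the trichotomy (main induction)
-/

set_option autoImplicit false
set_option linter.style.haveILetI false
set_option linter.unnecessarySimpa false
set_option linter.unusedVariables false

namespace Cfsg.Agent.Lib.Helper21

open Subgroup

universe u

/-- Camina's trichotomy, induction form. -/
theorem cam_trichotomy_aux : ∀ n : ℕ, ∀ (G : Type u) [Group G] [Finite G], Nat.card G = n →
    ∀ (N : Subgroup G) [N.Normal], N ≠ ⊥ → N ≠ ⊤ → CamHyp N →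
    (∀ x ∈ N, x ≠ 1 → centralizer ({x} : Set G) ≤ N) ∨ IsPrimePow (Nat.card N) ∨
      IsPrimePow N.index := by
  intro n
  induction n using Nat.strong_induction_on with
  | _ n IH =>
    intro G _ _ hcard N hNn hN1 hN2 h
    have ih : ∀ (K : Type u) [Group K] [Finite K], Nat.card K < Nat.card G →
        ∀ (M : Subgroup K) [M.Normal], M ≠ ⊥ → M ≠ ⊤ → CamHyp M →
        (∀ x ∈ M, x ≠ 1 → centralizer ({x} : Set K) ≤ M) ∨ IsPrimePow (Nat.card M) ∨
          IsPrimePow M.index := by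
      intro K _ _ hK M _ hM1 hM2 hM
      exact IH (Nat.card K) (hcard ▸ hK) K rfl M hM1 hM2 hM
    by_contra hcon
    rw [not_or, not_or] at hcon
    obtain ⟨hA, hB, hC⟩ := hcon
    have hncop : ¬ (Nat.card N).Coprime N.index :=
      fun hc => hA (cam_frobenius_of_coprime N h hc)
    obtain ⟨q, hqp, hqN, hqI⟩ := Nat.Prime.not_coprime_iff_dvd.1 hncop
    haveI hq : Fact q.Prime := ⟨hqp⟩
    have h5a : ∀ (q' : ℕ) [Fact q'.Prime], q' ∣ Nat.card N → q' ∣ N.index →
        ∀ (p : ℕ) [Fact p.Prime], p ≠ q' → ∀ P : Sylow p N, (P : Subgroup N) ≠ ⊥ →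
        normalizer (((P : Subgroup N).map N.subtype : Subgroup G) : Set G) = ⊤ :=
      fun q' _ h1 h2 p _ hpq P hP => cam_sylow_normal ih N hN2 h hC h1 h2 hpq P hP
    obtain ⟨p, hpp, hpq, hpN⟩ := cam_exists_other_prime Nat.card_pos.ne' hqp hqN hB
    haveI hp : Fact p.Prime := ⟨hpp⟩
    obtain ⟨P⟩ : Nonempty (Sylow p N) := Sylow.nonempty
    have hP1 : (P : Subgroup N) ≠ ⊥ := P.ne_bot_of_dvd_card hpN
    obtain ⟨hXN, hXp, hX1, hXdvd⟩ := cam_sylow_facts N P hP1
    have hXnorm := h5a q hqN hqI p hpq P hP1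
    set X := (P : Subgroup N).map N.subtype with hX
    haveI hXn : X.Normal := normalizer_eq_top_iff.1 hXnorm
    obtain ⟨hWN, hW1, hWab, hWcop⟩ := cam_W_facts N X hpq hXN hXp hX1
    set W := X ⊓ centralizer (X : Set G) with hW
    have hWnorm : normalizer (W : Set G) = ⊤ :=
      top_le_iff.1 (hXnorm ▸ cam_normalizer_le_zcenter X)
    haveI hWn : W.Normal := normalizer_eq_top_iff.1 hWnorm
    obtain ⟨Q₀⟩ : Nonempty (Sylow q N) := Sylow.nonempty
    have hQ1 : (Q₀ : Subgroup N) ≠ ⊥ := Q₀.ne_bot_of_dvd_card hqN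
    obtain ⟨hX₀N, hX₀p, hX₀1, hX₀dvd⟩ := cam_sylow_facts N Q₀ hQ1
    set X₀ := (Q₀ : Subgroup N).map N.subtype with hX₀
    by_cases hX₀norm : normalizer (X₀ : Set G) = ⊤
    · -- case 5b: the Sylow `q`-subgroup of `N` is normal in `G`
      haveI hX₀n : X₀.Normal := normalizer_eq_top_iff.1 hX₀norm
      haveI hQ₀n : (Q₀ : Subgroup N).Normal := by
        have h1 : (X₀.comap N.subtype).Normal := hX₀n.comap N.subtype
        rwa [hX₀, comap_map_eq_self_of_injective N.subtype_injective] at h1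
      obtain ⟨Q⟩ : Nonempty (Sylow q G) := Sylow.nonempty
      have hdisj : Disjoint X₀ X := IsPGroup.disjoint_of_ne q p (Ne.symm hpq) X₀ X hX₀p hXp
      have hSNW : (Q : Subgroup G) ⊓ N ≤ centralizer (W : Set G) := by
        intro x hx
        have hxX₀ : x ∈ X₀ := by
          obtain ⟨i, hi⟩ := (IsPGroup.iff_orderOf.1 Q.isPGroup') ⟨x, hx.1⟩
          have hi' : orderOf (⟨x, hx.2⟩ : ↥N) = q ^ i := by
            rw [← hi, ← Subgroup.orderOf_coe, ← Subgroup.orderOf_coe]
          have hzp : IsPGroup q (zpowers (⟨x, hx.2⟩ : ↥N)) :=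
            IsPGroup.of_card (by rw [Nat.card_zpowers, hi'])
          obtain ⟨Q', hQ'⟩ := hzp.exists_le_sylow
          obtain ⟨n, hn⟩ := MulAction.exists_smul_eq ↥N Q₀ Q'
          rw [Sylow.smul_eq_of_normal] at hn
          have h1 : (⟨x, hx.2⟩ : ↥N) ∈ (Q₀ : Subgroup N) := by
            rw [hn]
            exact hQ' (mem_zpowers _)
          exact mem_map.2 ⟨⟨x, hx.2⟩, h1, rfl⟩
        rw [mem_centralizer_iff]
        intro w hw
        exact (commute_of_normal_of_disjoint X₀ X hX₀n hXn hdisj x w hxX₀ hw.1).eq.symm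
      have hScard : Nat.card ((Q : Subgroup G).map (QuotientGroup.mk' N)) =
          q ^ (Nat.card (G ⧸ N)).factorization q := by
        have h1 := (Q.mapSurjective (QuotientGroup.mk'_surjective N)).card_eq_multiplicity
        rwa [Sylow.coe_mapSurjective] at h1
      have hWq : (Nat.card W).Coprime q := by
        obtain ⟨k, hk⟩ := hXp.exists_card_eq
        have h2 : Nat.card W ∣ p ^ k := hk ▸ card_dvd_of_le inf_le_left
        exact Nat.Coprime.coprime_dvd_left h2
          (Nat.Coprime.pow_left k ((Nat.coprime_primes hpp hqp).2 hpq))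
      exact cam_lemmaG N h hqN hqI Q W Q.isPGroup' hWN hW1 hWab hWq
        (by rw [hWnorm]; exact le_top) hSNW hScard
    · -- case 5c
      set H₀ := normalizer (X₀ : Set G) with hH₀
      have hFr₀ : H₀ ⊔ N = ⊤ := Sylow.normalizer_sup_eq_top Q₀
      have hX₀H : X₀ ≤ H₀ := le_normalizer
      have hNH₀ : N ⊓ H₀ ≠ ⊥ := by
        intro hbot
        apply hX₀1
        rw [eq_bot_iff, ← hbot]
        exact le_inf hX₀N hX₀H
      have hqNH₀ : q ∣ Nat.card (N ⊓ H₀ : Subgroup G) := hX₀dvd _ (le_inf hX₀N hX₀H)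
      have hpp₀ := cam_ih_step ih N hN2 h hC H₀ hFr₀ hX₀norm hNH₀ hqI hqNH₀
      have hqgrp : ∀ x ∈ N ⊓ H₀, ∃ i : ℕ, orderOf x = q ^ i := by
        obtain ⟨r', k, hr', hk, hrk⟩ := (isPrimePow_nat_iff _).1 hpp₀
        have hqr' : q = r' := by
          rw [← hrk] at hqNH₀
          exact (Nat.prime_dvd_prime_iff_eq hqp hr').1 (hqp.dvd_of_dvd_pow hqNH₀)
        intro x hx
        have h1 := (N ⊓ H₀).orderOf_dvd_natCard hx
        rw [← hrk, ← hqr'] at h1
        obtain ⟨i, -, hi⟩ := (Nat.dvd_prime_pow hqp).1 h1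
        exact ⟨i, hi⟩
      obtain ⟨r, hrp, hrq, hrI⟩ :=
        cam_exists_other_prime index_ne_zero_of_finite hqp hqI hC
      haveI hr : Fact r.Prime := ⟨hrp⟩
      have hrN : ¬ r ∣ Nat.card N := by
        intro hrN
        exact hX₀norm (h5a r hrN hrI q (Ne.symm hrq) Q₀ hQ1)
      have hrH : r ∣ Nat.card H₀ := by
        rw [cam_card_eq_mul N H₀ hFr₀]
        exact dvd_mul_of_dvd_right hrI _
      obtain ⟨y', hy'⟩ := exists_prime_orderOf_dvd_card' r hrH
      have hyo : orderOf (y' : G) = r := by rw [Subgroup.orderOf_coe]; exact hy'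
      have hyH : (y' : G) ∈ H₀ := y'.2
      have hyN : (y' : G) ∉ N := fun hmem => hrN (hyo ▸ N.orderOf_dvd_natCard hmem)
      have hCN : ∀ n ∈ N, Commute (y' : G) n → n = 1 := by
        intro n hn hc
        have hyo1 : orderOf (y' : G) = r ^ 1 := by rw [pow_one]; exact hyo
        obtain ⟨i, hi⟩ := cam_cent_isPElt (q := r) h hyN hyo1 hn hc
        by_contra hn1
        have hi0 : i ≠ 0 := by
          rintro rfl
          rw [pow_zero, orderOf_eq_one_iff] at hi
          exact hn1 hi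
        exact hrN ((dvd_pow_self r hi0).trans (hi ▸ N.orderOf_dvd_natCard hn))
      have hcop : (Nat.card X₀).Coprime (Nat.card W) := hWcop X₀ hX₀p
      have hCF : ∀ f ∈ X₀, Commute f (y' : G) → f = 1 :=
        fun f hf hc => hCN f (hX₀N hf) hc.symm
      have hCW : ∀ w ∈ W, (∀ f ∈ X₀, Commute f w) → w = 1 := by
        intro w hw hall
        have hwH : w ∈ H₀ := by
          apply centralizer_le_normalizer
          rw [mem_centralizer_iff]
          intro f hf
          exact (hall f hf).eq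
        obtain ⟨i, hi⟩ := hqgrp w ⟨hWN hw, hwH⟩
        obtain ⟨j, hj⟩ := (IsPGroup.iff_orderOf.1 hXp) ⟨w, hw.1⟩
        have hj' : orderOf w = p ^ j := by
          rw [← hj]
          exact Subgroup.orderOf_coe (⟨w, hw.1⟩ : ↥X)
        have hcopq : (q ^ i).Coprime (p ^ j) :=
          Nat.Coprime.pow i j ((Nat.coprime_primes hqp hpp).2 (Ne.symm hpq))
        rw [← hi, ← hj'] at hcopq
        have h1 : orderOf w = 1 := by
          exact (Nat.coprime_self _).1 hcopq
        exact orderOf_eq_one_iff.1 h1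
      have hCy : ∀ w ∈ W, Commute (y' : G) w → w = 1 := fun w hw hc => hCN w (hWN hw) hc
      exact hW1 (cam_frob_trick X₀ W (y' : G) hyo hyH hWab hcop hCF hCW hCy)

/-- **Camina's trichotomy.** -/
theorem cam_trichotomy {G : Type u} [Group G] [Finite G] (N : Subgroup G) [N.Normal]
    (hN1 : N ≠ ⊥) (hN2 : N ≠ ⊤) (h : CamHyp N) :
    (∀ x ∈ N, x ≠ 1 → centralizer ({x} : Set G) ≤ N) ∨ IsPrimePow (Nat.card N) ∨
      IsPrimePow N.index :=
  cam_trichotomy_aux (Nat.card G) G rfl N hN1 hN2 h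

end Cfsg.Agent.Lib.Helper21
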