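import Mathlib.GroupTheory.Perm.Cycle.Type
import Mathlib.GroupTheory.Sylow

set_option autoImplicit false

namespace Cfsg.Agent.Lib.Helper21

/-- An element `b` with `b ^ p = 1` that stabilises the coset `x M` of a finite subgroup `M` of order
prime to `p` which it normalises, centralises some element of that coset. -/
theorem exists_fixed_in_coset {G : Type*} [Group G] {p : ℕ} [Fact p.Prime] (b : G) (hb : b ^ p = 1)
    (M : Subgroup G) [Finite M] (hM : ¬ p ∣ Nat.card M) (hbM : ∀ m ∈ M, b * m * b⁻¹ ∈ M)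
    (x : G) (hx : x⁻¹ * (b * x * b⁻¹) ∈ M) : ∃ m ∈ M, b * (x * m) * b⁻¹ = x * m := by
  classical
  let f : M → M := fun m => ⟨x⁻¹ * (b * x * b⁻¹) * (b * m * b⁻¹), M.mul_mem hx (hbM m m.2)⟩
  have hf : ∀ m : M, ((f m : M) : G) = x⁻¹ * b * x * m * b⁻¹ := by
    intro m
    simp only [f]
    group
  have hit : ∀ (k : ℕ) (m : M), ((f^[k] m : M) : G) = x⁻¹ * b ^ k * x * m * (b ^ k)⁻¹ := by
    intro k
    induction k with
    | zero => intro m; simp
    | succ k ih =>
      intro m
      rw [Function.iterate_succ_apply', hf, ih, pow_succ]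
      group
  have hinj : Function.Injective f := by
    intro m m' h
    have h1 := congrArg Subtype.val h
    rw [hf, hf] at h1
    have h2 := mul_left_cancel (mul_right_cancel h1)
    exact Subtype.ext h2
  have : Fintype M := Fintype.ofFinite M
  let σ : Equiv.Perm M := Equiv.ofBijective f (Finite.injective_iff_bijective.1 hinj)
  have hσ : σ ^ p ^ 1 = 1 := by
    ext m
    rw [pow_one, ← Equiv.Perm.iterate_eq_pow]
    change ((f^[p] m : M) : G) = m
    rw [hit, hb]
    simp
  have hcard : ¬ p ∣ Fintype.card M := by rwa [← Nat.card_eq_fintype_card]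
  obtain ⟨m, hm⟩ := Equiv.Perm.exists_fixed_point_of_prime hcard hσ
  refine ⟨m, m.2, ?_⟩
  have h1 : ((f m : M) : G) = m := congrArg Subtype.val hm
  rw [hf] at h1
  calc b * (x * m) * b⁻¹ = x * (x⁻¹ * b * x * m * b⁻¹) := by group
    _ = x * m := by rw [h1]

end Cfsg.Agent.Lib.Helper21
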