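import Cfsg.Agent.Lib.Helper76.E8mDefs
import Cfsg.Agent.Lib.Helper18.ChevCommSL

/-! # E8m hive (S2107, owner helper76): leaf E-SYS `exists_coverSys` (helper21)

The generators `D.scGen K r t` of the Steinberg cover (relators (R1), (R2)) of a simply laced datum form an `SLSys`. -/

set_option autoImplicit false

universe u

namespace Cfsg.Agent.Lib.Helper76.E8m

open Cfsg Cfsg.Lie Cfsg.Agent.Lib.Helper39.Sm Cfsg.Agent.Lib.Helper18
open scoped commutatorElement

section P
variable {D : ChevalleyDatum} {K : Type*} [Field K] {Y : Type*} [Group Y]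

theorem sys_scGen_of_ge (r : ℕ) (hr : ¬ r < D.nroots) (t : K) : D.scGen K r t = 1 := by
  unfold ChevalleyDatum.scGen ChevalleyDatum.stX
  rw [dif_neg hr, map_one]

theorem sys_add (r : ℕ) (t u : K) : D.scGen K r t * D.scGen K r u = D.scGen K r (t + u) := by
  by_cases hr : r < D.nroots
  · have hmem : D.stX r t * D.stX r u * (D.stX r (t + u))⁻¹ ∈ D.steinbergRelsAB K :=
      Or.inl ⟨r, t, u, hr, rfl⟩
    have h1 := PresentedGroup.one_of_mem hmem
    simp only [map_mul, map_inv] at h1
    exact mul_inv_eq_one.1 h1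
  · rw [sys_scGen_of_ge r hr, sys_scGen_of_ge r hr, sys_scGen_of_ge r hr, one_mul]

theorem sys_zero (r : ℕ) : D.scGen K r (0 : K) = 1 := by
  have := sys_add (D := D) (K := K) r 0 0
  rw [add_zero] at this
  exact mul_eq_left.1 this

theorem sys_neg (r : ℕ) (t : K) : D.scGen K r (-t) = (D.scGen K r t)⁻¹ := by
  have := sys_add (D := D) (K := K) r (-t) t
  rw [neg_add_cancel, sys_zero] at this
  exact eq_inv_of_mul_eq_one_left this

theorem sys_R2 (r s : ℕ) (hr : r < D.nroots) (hs : s < D.nroots) (hsr : s ≠ r) (hsn : s ≠ D.neg r)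
    (t u : K) :
    (D.scGen K s u)⁻¹ * (D.scGen K r t)⁻¹ * D.scGen K s u * D.scGen K r t =
      PresentedGroup.mk (D.steinbergRelsAB K) (D.stWord (D.commWord K r s t u)) := by
  have hmem : (D.stX s u)⁻¹ * (D.stX r t)⁻¹ * D.stX s u * D.stX r t *
      (D.stWord (D.commWord K r s t u))⁻¹ ∈ D.steinbergRelsAB K :=
    Or.inr ⟨r, s, t, u, hr, hs, hsr, hsn, rfl⟩
  have h1 := PresentedGroup.one_of_mem hmem
  simp only [map_mul, map_inv] at h1
  exact mul_inv_eq_one.1 h1

theorem sys_len (hSL : chkSL D = true) (r : ℕ) (hr : r < D.nroots) (s : ℕ) :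
    (D.chainEntry r s).length ≤ 1 := by
  rw [chainEntry_eq_findEntry]
  exact findEntry_length_le D hSL r hr s

/-- the commutator word for a commuting pair is empty -/
theorem sys_commWord_nil (hSL : chkSL D = true) (r s : ℕ) (hr : r < D.nroots) (hs : s < D.nroots)
    (h : D.chainEntry r s = []) (t u : K) : D.commWord K r s t u = [] := by
  unfold ChevalleyDatum.commWord
  rw [commTerms_SL D r s (sys_len hSL r hr s) (sys_len hSL s hs r), h]
  rfl

/-- the commutator word for a pair with a sum has one term -/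
theorem sys_commWord_one (hSL : chkSL D = true) (r s : ℕ) (hr : r < D.nroots) (hs : s < D.nroots)
    (q : ℕ × ℤ) (l : List (ℕ × ℤ)) (h : D.chainEntry r s = q :: l) (t u : K) :
    D.commWord K r s t u = [(q.1, ((q.2 : ℤ) : K) * (-t) ^ 1 * u ^ 1)] := by
  unfold ChevalleyDatum.commWord
  rw [commTerms_SL D r s (sys_len hSL r hr s) (sys_len hSL s hs r), h]
  rfl

theorem sys_stWord_nil : D.stWord ([] : List (ℕ × K)) = 1 := by
  unfold ChevalleyDatum.stWord
  rfl

theorem sys_stWord_one (k : ℕ) (c : K) : D.stWord [(k, c)] = D.stX k c := by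
  unfold ChevalleyDatum.stWord
  simp

theorem sys_cm (hSL : chkSL D = true) (a b : ℕ) (h : Cm D a b) (t u : K) :
    Commute (D.scGen K a t) (D.scGen K b u) := by
  obtain ⟨ha, hb, hbn, hce⟩ := h
  by_cases hab : b = a
  · subst hab
    show D.scGen K b t * D.scGen K b u = D.scGen K b u * D.scGen K b t
    rw [sys_add, sys_add, add_comm]
  · have h1 := sys_R2 (K := K) a b ha hb hab hbn t u
    rw [sys_commWord_nil hSL a b ha hb hce, sys_stWord_nil, map_one] at h1
    -- (X b u)⁻¹ (X a t)⁻¹ X b u X a t = 1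
    show D.scGen K a t * D.scGen K b u = D.scGen K b u * D.scGen K a t
    have h2 : D.scGen K b u * D.scGen K a t =
        D.scGen K a t * D.scGen K b u *
          ((D.scGen K b u)⁻¹ * (D.scGen K a t)⁻¹ * D.scGen K b u * D.scGen K a t) := by group
    rw [h2, h1, mul_one]

theorem sys_sum (hSL : chkSL D = true) (hB : TabBasic D) (a b e : ℕ) (h : sm D a b = some e)
    (t u : K) :
    ⁅D.scGen K a t, D.scGen K b u⁆ = D.scGen K e (((ep D a b : ℤ) : K) * t * u) := by
  obtain ⟨ha, hb, he⟩ := hB.sm_lt a b e h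
  obtain ⟨hab, hbna, hanb⟩ := hB.sm_ne a b e h
  obtain ⟨hba, hep⟩ := hB.sm_symm a b e h
  -- the chain entry of `(b, a)`
  rcases hce : D.chainEntry b a with _ | ⟨q, l⟩
  · exfalso
    unfold sm at hba
    rw [hce] at hba
    simp at hba
  · have hq1 : q.1 = e := by
      unfold sm at hba
      rw [hce] at hba
      simpa using hba
    have hq2 : ep D b a = q.2 := by
      unfold ep
      rw [hce]
      rfl
    have h1 := sys_R2 (K := K) b a hb ha hab hanb (-u) (-t)
    rw [sys_commWord_one hSL b a hb ha q l hce, sys_stWord_one, sys_neg, sys_neg, inv_inv, inv_inv,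
      hq1, ← hq2, hep] at h1
    rw [commutatorElement_def]
    have h2 : D.scGen K a t * D.scGen K b u * (D.scGen K a t)⁻¹ * (D.scGen K b u)⁻¹ =
        D.scGen K e (((-ep D a b : ℤ) : K) * (- -u) ^ 1 * (-t) ^ 1) := h1
    rw [h2]
    congr 1
    push_cast
    ring

/-- E-SYS -/
theorem exists_coverSys (hSL : chkSL D = true) (hB : TabBasic D) :
    ∃ S : SLSys D K (D.SteinbergCover K), ∀ (r : ℕ) (t : K), S.X r t = D.scGen K r t :=
  ⟨{ X := fun r t => D.scGen K r t
     X_add := fun r t u => sys_add r t u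
     X_cm := fun a b h t u => sys_cm hSL a b h t u
     X_sum := fun a b e h t u => sys_sum hSL hB a b e h t u }, fun _ _ => rfl⟩

end P

end Cfsg.Agent.Lib.Helper76.E8m
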