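import Mathlib.GroupTheory.Perm.Cycle.Type
import Mathlib.GroupTheory.OrderOfElement
import Cfsg.Prelude.Def_Involutions

set_option autoImplicit false

namespace Cfsg.Agent.Lib.Helper21

open Subgroup

section Dihedral
variable {G : Type*} [Group G]

theorem inv_eq_self_of_sq {s : G} (hs : s ^ 2 = 1) : s⁻¹ = s := by
  rw [inv_eq_iff_mul_eq_one, ← sq, hs]

theorem sq_eq_one_of_orderOf {s : G} (hs : orderOf s = 2) : s ^ 2 = 1 := by
  rw [← hs]; exact pow_orderOf_eq_one s

theorem orderOf_conj_eq (g s : G) : orderOf (g * s * g⁻¹) = orderOf s := by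
  have : g * s * g⁻¹ = MulAut.conj g s := by simp
  rw [this, MulEquiv.orderOf_eq]

/-- conjugating the rotation by a reflection inverts it -/
theorem refl_conj_rot_pow {s r : G} (hs : s ^ 2 = 1) (hr : r ^ 2 = 1) (l : ℕ) :
    s * (s * r) ^ l * s = ((s * r) ^ l)⁻¹ := by
  have hs' := inv_eq_self_of_sq hs
  have hr' := inv_eq_self_of_sq hr
  have h1 : s * (s * r) * s = (s * r)⁻¹ := by
    rw [mul_inv_rev, hs', hr']
    calc s * (s * r) * s = (s * s) * r * s := by group
      _ = r * s := by rw [← sq, hs, one_mul]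
  induction l with
  | zero => simp [← sq, hs]
  | succ l ih =>
    calc s * (s * r) ^ (l + 1) * s = (s * (s * r) ^ l * s) * (s⁻¹ * (s * r) * s) := by
          rw [pow_succ]; group
      _ = ((s * r) ^ l)⁻¹ * (s * (s * r) * s) := by rw [ih, hs']
      _ = ((s * r) ^ l)⁻¹ * (s * r)⁻¹ := by rw [h1]
      _ = ((s * r) ^ (l + 1))⁻¹ := by rw [pow_succ']; exact (mul_inv_rev _ _).symm

theorem refl_conj_rot_pow' {s r : G} (hs : s ^ 2 = 1) (hr : r ^ 2 = 1) (l : ℕ) :
    r * (s * r) ^ l * r = ((s * r) ^ l)⁻¹ := by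
  have hs' := inv_eq_self_of_sq hs
  have hr' := inv_eq_self_of_sq hr
  have h1 : r * (s * r) * r = (s * r)⁻¹ := by
    rw [mul_inv_rev, hs', hr']
    calc r * (s * r) * r = r * s * (r * r) := by group
      _ = r * s := by rw [← sq, hr, mul_one]
  induction l with
  | zero => simp [← sq, hr]
  | succ l ih =>
    calc r * (s * r) ^ (l + 1) * r = (r * (s * r) ^ l * r) * (r⁻¹ * (s * r) * r) := by
          rw [pow_succ]; group
      _ = ((s * r) ^ l)⁻¹ * (r * (s * r) * r) := by rw [ih, hr']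
      _ = ((s * r) ^ l)⁻¹ * (s * r)⁻¹ := by rw [h1]
      _ = ((s * r) ^ (l + 1))⁻¹ := by rw [pow_succ']; exact (mul_inv_rev _ _).symm

/-- Two involutions whose product has odd order `2l+1` are conjugate via an involution. -/
theorem exists_invol_conj_of_odd {s r : G} (hs : s ^ 2 = 1) (hr : r ^ 2 = 1) (l : ℕ)
    (h : (s * r) ^ (2 * l + 1) = 1) :
    ∃ i : G, i ^ 2 = 1 ∧ i * s * i⁻¹ = r := by
  have hs' := inv_eq_self_of_sq hs
  have hr' := inv_eq_self_of_sq hr
  refine ⟨(s * r) ^ l * s, ?_, ?_⟩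
  · rw [sq]
    calc (s * r) ^ l * s * ((s * r) ^ l * s) = (s * r) ^ l * (s * (s * r) ^ l * s) := by group
      _ = (s * r) ^ l * ((s * r) ^ l)⁻¹ := by rw [refl_conj_rot_pow hs hr]
      _ = 1 := mul_inv_cancel _
  · have h2 : (s * r) ^ (2 * l) = (s * r)⁻¹ := by
      rw [eq_inv_iff_mul_eq_one, ← pow_succ, h]
    calc (s * r) ^ l * s * s * ((s * r) ^ l * s)⁻¹
        = (s * r) ^ l * (s * s) * (s⁻¹ * ((s * r) ^ l)⁻¹) := by rw [mul_inv_rev]; group
      _ = (s * r) ^ l * (s * ((s * r) ^ l)⁻¹) := by rw [← sq, hs, hs']; group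
      _ = (s * r) ^ l * (s * (s * (s * r) ^ l * s)) := by rw [refl_conj_rot_pow hs hr]
      _ = (s * r) ^ l * ((s * s) * (s * r) ^ l * s) := by group
      _ = (s * r) ^ (2 * l) * s := by rw [← sq, hs, two_mul, pow_add]; group
      _ = (s * r)⁻¹ * s := by rw [h2]
      _ = r := by rw [mul_inv_rev, hs', hr']; rw [mul_assoc, ← sq, hs, mul_one]

/-- If the product of two involutions has even order `2l` then its `l`-th power commutes with both. -/
theorem rot_pow_commutes {s r : G} (hs : s ^ 2 = 1) (hr : r ^ 2 = 1) (l : ℕ)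
    (h : (s * r) ^ (2 * l) = 1) :
    (s * r) ^ l * s = s * (s * r) ^ l ∧ (s * r) ^ l * r = r * (s * r) ^ l := by
  have hw : ((s * r) ^ l)⁻¹ = (s * r) ^ l := by
    rw [inv_eq_iff_mul_eq_one, ← pow_add, ← two_mul, h]
  constructor
  · have := refl_conj_rot_pow hs hr l
    rw [hw] at this
    calc (s * r) ^ l * s = (s * (s * r) ^ l * s) * s := by rw [this]
      _ = s * (s * r) ^ l * (s * s) := by group
      _ = s * (s * r) ^ l := by rw [← sq, hs, mul_one]
  · have := refl_conj_rot_pow' hs hr l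
    rw [hw] at this
    calc (s * r) ^ l * r = (r * (s * r) ^ l * r) * r := by rw [this]
      _ = r * (s * r) ^ l * (r * r) := by group
      _ = r * (s * r) ^ l := by rw [← sq, hr, mul_one]

end Dihedral

section SE
variable {G : Type*} [Group G] [Finite G] {H : Subgroup G}

omit [Finite G] in
theorem mem_map_conj_iff' {g y : G} :
    y ∈ H.map (MulAut.conj g).toMonoidHom ↔ g⁻¹ * y * g ∈ H := by
  constructor
  · rintro ⟨x, hx, rfl⟩
    simpa [mul_assoc] using hx
  · intro h
    exact ⟨g⁻¹ * y * g, h, by simp [mul_assoc]⟩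

omit [Finite G] in
/-- `H` controls (strongly) the fusion of its involutions. -/
theorem se_mem_of_conj_mem (hH : Cfsg.IsStronglyEmbedded H) {t g : G} (ht : orderOf t = 2)
    (htH : t ∈ H) (hg : g * t * g⁻¹ ∈ H) : g ∈ H := by
  by_contra hgH
  have hgH' : g⁻¹ ∉ H := fun h => hgH (by simpa using H.inv_mem h)
  have hodd := hH.2.2 g⁻¹ hgH'
  have htD : t ∈ H ⊓ H.map (MulAut.conj g⁻¹).toMonoidHom := by
    refine mem_inf.2 ⟨htH, ?_⟩
    rw [mem_map_conj_iff']
    simpa using hg
  have hdvd : 2 ∣ Nat.card ↥(H ⊓ H.map (MulAut.conj g⁻¹).toMonoidHom) := by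
    rw [← ht]
    exact Subgroup.orderOf_dvd_natCard _ htD
  exact (Nat.not_even_iff_odd.2 hodd) (even_iff_two_dvd.2 hdvd)

omit [Finite G] in
theorem se_centralizer_le (hH : Cfsg.IsStronglyEmbedded H) {t : G} (ht : orderOf t = 2)
    (htH : t ∈ H) : centralizer {t} ≤ H := by
  intro g hg
  rw [mem_centralizer_singleton_iff] at hg
  apply se_mem_of_conj_mem hH ht htH (g := g)
  have : g * t * g⁻¹ = t := by rw [hg]; group
  rw [this]; exact htH

theorem se_exists_invol_mem (hH : Cfsg.IsStronglyEmbedded H) : ∃ t : G, orderOf t = 2 ∧ t ∈ H := by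
  have h2 : 2 ∣ Nat.card H := even_iff_two_dvd.1 hH.2.1
  have : Fact (Nat.Prime 2) := ⟨Nat.prime_two⟩
  obtain ⟨x, hx⟩ := exists_prime_orderOf_dvd_card' 2 h2
  refine ⟨x, ?_, x.2⟩
  rw [Subgroup.orderOf_coe]; exact hx

theorem se_exists_invol_not_mem (hH : Cfsg.IsStronglyEmbedded H) :
    ∃ u : G, orderOf u = 2 ∧ u ∉ H := by
  obtain ⟨t, ht, htH⟩ := se_exists_invol_mem hH
  obtain ⟨g, hg⟩ : ∃ g : G, g ∉ H := by
    by_contra h
    push Not at h
    exact hH.1 (eq_top_iff.2 fun x _ => h x)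
  refine ⟨g * t * g⁻¹, by rw [orderOf_conj_eq]; exact ht, fun h => hg ?_⟩
  exact se_mem_of_conj_mem hH ht htH h

/-- The product of an involution of `H` and an involution outside `H` has odd order. -/
theorem se_odd_orderOf_mul (hH : Cfsg.IsStronglyEmbedded H) {z u : G} (hz : orderOf z = 2)
    (hzH : z ∈ H) (hu : orderOf u = 2) (huH : u ∉ H) : Odd (orderOf (z * u)) := by
  rw [← Nat.not_even_iff_odd]
  intro heven
  obtain ⟨l, hl⟩ := heven
  have hl2 : orderOf (z * u) = 2 * l := by rw [hl, two_mul]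
  have hn0 : orderOf (z * u) ≠ 0 := (orderOf_pos _).ne'
  have hl0 : l ≠ 0 := by rintro rfl; exact hn0 (hl2.trans (mul_zero 2))
  have hz2 := sq_eq_one_of_orderOf hz
  have hu2 := sq_eq_one_of_orderOf hu
  have hpow : (z * u) ^ (2 * l) = 1 := by rw [← hl2]; exact pow_orderOf_eq_one _
  obtain ⟨hc1, hc2⟩ := rot_pow_commutes hz2 hu2 l hpow
  set w := (z * u) ^ l with hw
  have hwo : orderOf w = 2 := by
    rw [hw, orderOf_pow_of_dvd hl0 (Dvd.intro_left 2 hl2.symm), hl2]
    exact Nat.mul_div_cancel _ (Nat.pos_of_ne_zero hl0)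
  have hwH : w ∈ H := by
    apply se_centralizer_le hH hz hzH
    rw [mem_centralizer_singleton_iff]; exact hc1
  have huH' : u ∈ H := by
    apply se_centralizer_le hH hwo hwH
    rw [mem_centralizer_singleton_iff]; exact hc2.symm
  exact huH huH'

/-- An involution of `H` and an involution outside `H` are conjugate via an involution. -/
theorem se_exists_invol_conj (hH : Cfsg.IsStronglyEmbedded H) {z u : G} (hz : orderOf z = 2)
    (hzH : z ∈ H) (hu : orderOf u = 2) (huH : u ∉ H) :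
    ∃ i : G, i ^ 2 = 1 ∧ i * z * i⁻¹ = u := by
  obtain ⟨l, hl⟩ := se_odd_orderOf_mul hH hz hzH hu huH
  apply exists_invol_conj_of_odd (sq_eq_one_of_orderOf hz) (sq_eq_one_of_orderOf hu) l
  rw [← hl]; exact pow_orderOf_eq_one _

/-- All involutions are conjugate. -/
theorem se_isConj (hH : Cfsg.IsStronglyEmbedded H) {a b : G} (ha : orderOf a = 2)
    (hb : orderOf b = 2) : IsConj a b := by
  obtain ⟨z, hz, hzH⟩ := se_exists_invol_mem hH
  obtain ⟨u, hu, huH⟩ := se_exists_invol_not_mem hH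
  have key : ∀ x : G, orderOf x = 2 → IsConj z x := by
    intro x hx
    by_cases hxH : x ∈ H
    · obtain ⟨i, -, hi⟩ := se_exists_invol_conj hH hz hzH hu huH
      obtain ⟨i', -, hi'⟩ := se_exists_invol_conj hH hx hxH hu huH
      have h1 : IsConj z u := isConj_iff.2 ⟨i, hi⟩
      have h2 : IsConj x u := isConj_iff.2 ⟨i', hi'⟩
      exact h1.trans h2.symm
    · obtain ⟨i, -, hi⟩ := se_exists_invol_conj hH hz hzH hx hxH
      exact isConj_iff.2 ⟨i, hi⟩
  exact (key a ha).symm.trans (key b hb)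

end SE

end Cfsg.Agent.Lib.Helper21
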