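import Mathlib.GroupTheory.Sylow
import Mathlib.GroupTheory.SpecificGroups.Cyclic
import Cfsg.Agent.Lib.Helper21.StronglyEmbedded

set_option autoImplicit false

namespace Cfsg.Agent.Lib.Helper21

open Subgroup

section
variable {G : Type*} [Group G] [Finite G] (T : Sylow 2 G)

omit [Finite G] in
/-- a `2`-element of the normalizer of a Sylow `2`-subgroup lies in it -/
theorem mem_sylow_of_mem_normalizer {t : G} (ht : IsPGroup 2 (zpowers t))
    (htN : t ∈ normalizer ((T : Subgroup G) : Set G)) : t ∈ (T : Subgroup G) := by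
  have h1 : IsPGroup 2 (zpowers t ⊔ (T : Subgroup G) : Subgroup G) :=
    ht.to_sup_of_normal_right' T.2 (zpowers_le.2 htN)
  have h2 := T.is_maximal' h1 le_sup_right
  rw [← h2]
  exact mem_sup_left (mem_zpowers t)

omit [Finite G] in
theorem isPGroup_zpowers_of_orderOf_two {t : G} (ht : orderOf t = 2) : IsPGroup 2 (zpowers t) := by
  apply IsPGroup.of_card (n := 1)
  rw [Nat.card_zpowers, ht, pow_one]

/-- If `T` is nontrivial, then it is the centralizer of a central involution. -/
theorem exists_central_invol (hT : (T : Subgroup G) ≠ ⊥) :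
    ∃ z : G, orderOf z = 2 ∧ z ∈ (T : Subgroup G) ∧ (T : Subgroup G) ≤ centralizer {z} := by
  have hnt : Nontrivial (T : Subgroup G) := (Subgroup.nontrivial_iff_ne_bot _).2 hT
  have hcn : Nontrivial (center (T : Subgroup G)) := T.2.center_nontrivial
  have hp : IsPGroup 2 (center (T : Subgroup G)) := T.2.to_subgroup _
  have : Fact (Nat.Prime 2) := ⟨Nat.prime_two⟩
  have h2 : 2 ∣ Nat.card (center (T : Subgroup G)) := by
    obtain ⟨n, hn0, hn⟩ := hp.nontrivial_iff_card.1 hcn
    rw [hn]
    exact dvd_pow_self 2 hn0.ne'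
  obtain ⟨z, hz⟩ := exists_prime_orderOf_dvd_card' 2 h2
  refine ⟨((z : (T : Subgroup G)) : G), ?_, (z : (T : Subgroup G)).2, ?_⟩
  · rw [Subgroup.orderOf_coe, Subgroup.orderOf_coe]; exact hz
  · intro x hx
    rw [mem_centralizer_singleton_iff]
    have := z.2
    rw [mem_center_iff] at this
    exact congrArg Subtype.val (this ⟨x, hx⟩)

variable (hC : ∀ t : G, orderOf t = 2 → IsMulCommutative (Subgroup.centralizer ({t} : Set G)) ∧
  ∀ c ∈ Subgroup.centralizer ({t} : Set G), c ^ 2 = 1)
include hC

omit [Finite G] in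
theorem isPGroup_centralizer {t : G} (ht : orderOf t = 2) :
    IsPGroup 2 (centralizer ({t} : Set G)) := by
  intro c
  refine ⟨1, ?_⟩
  apply Subtype.ext
  rw [pow_one, SubmonoidClass.coe_pow]
  exact (hC t ht).2 c c.2

theorem sylow_eq_centralizer_central (hT : (T : Subgroup G) ≠ ⊥) :
    ∃ z : G, orderOf z = 2 ∧ centralizer {z} = (T : Subgroup G) := by
  obtain ⟨z, hz, -, hle⟩ := exists_central_invol T hT
  exact ⟨z, hz, T.is_maximal' (isPGroup_centralizer hC hz) hle⟩

theorem sylow_commutative (hT : (T : Subgroup G) ≠ ⊥) : IsMulCommutative (T : Subgroup G) := by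
  obtain ⟨z, hz, he⟩ := sylow_eq_centralizer_central T hC hT
  rw [← he]
  exact (hC z hz).1

theorem sylow_sq_eq_one (hT : (T : Subgroup G) ≠ ⊥) : ∀ c ∈ (T : Subgroup G), c ^ 2 = 1 := by
  obtain ⟨z, hz, he⟩ := sylow_eq_centralizer_central T hC hT
  rw [← he]
  exact (hC z hz).2

/-- The centralizer of an involution of `T` is `T`. -/
theorem centralizer_eq_sylow {t : G} (ht : orderOf t = 2) (htT : t ∈ (T : Subgroup G)) :
    centralizer {t} = (T : Subgroup G) := by
  have hT : (T : Subgroup G) ≠ ⊥ := by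
    intro h
    rw [h, mem_bot] at htT
    rw [htT, orderOf_one] at ht
    exact absurd ht (by norm_num)
  have hcomm := sylow_commutative T hC hT
  apply T.is_maximal' (isPGroup_centralizer hC ht)
  intro x hx
  rw [mem_centralizer_singleton_iff]
  have := hcomm.is_comm.comm (⟨x, hx⟩ : (T : Subgroup G)) ⟨t, htT⟩
  exact congrArg Subtype.val this

/-- `N_G(T)` is strongly embedded. -/
theorem normalizer_stronglyEmbedded (hnc : ¬ IsCyclic (T : Subgroup G))
    (hnn : ¬ (T : Subgroup G).Normal) :
    Cfsg.IsStronglyEmbedded (Subgroup.normalizer ((T : Subgroup G) : Set G)) := by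
  have hT : (T : Subgroup G) ≠ ⊥ := by
    intro h
    apply hnc
    rw [h]
    infer_instance
  refine ⟨?_, ?_, ?_⟩
  · rw [Ne, normalizer_eq_top_iff]
    exact hnn
  · obtain ⟨z, hz, hzT, -⟩ := exists_central_invol T hT
    have := Subgroup.orderOf_dvd_natCard _ (le_normalizer (H := (T : Subgroup G)) hzT)
    rw [hz] at this
    exact even_iff_two_dvd.2 this
  · intro g hg
    rw [← Nat.not_even_iff_odd]
    intro heven
    have : Fact (Nat.Prime 2) := ⟨Nat.prime_two⟩
    obtain ⟨t, ht⟩ := exists_prime_orderOf_dvd_card' 2 (even_iff_two_dvd.1 heven)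
    have hto : orderOf (t : G) = 2 := by rw [Subgroup.orderOf_coe]; exact ht
    obtain ⟨ht1, ht2⟩ := mem_inf.1 t.2
    rw [mem_map_conj_iff'] at ht2
    have htT : (t : G) ∈ (T : Subgroup G) :=
      mem_sylow_of_mem_normalizer T (isPGroup_zpowers_of_orderOf_two hto) ht1
    have hto' : orderOf (g⁻¹ * (t : G) * g) = 2 := by
      have := orderOf_conj_eq g⁻¹ (t : G)
      rw [inv_inv] at this
      rw [this]; exact hto
    have htT' : g⁻¹ * (t : G) * g ∈ (T : Subgroup G) :=
      mem_sylow_of_mem_normalizer T (isPGroup_zpowers_of_orderOf_two hto') ht2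
    have e1 := centralizer_eq_sylow T hC hto htT
    have e2 := centralizer_eq_sylow T hC hto' htT'
    apply hg
    have hginv : g⁻¹ ∈ normalizer ((T : Subgroup G) : Set G) := by
      rw [mem_normalizer_iff]
      intro x
      rw [inv_inv]
      constructor
      · intro hx
        rw [← e2, mem_centralizer_singleton_iff]
        rw [← e1, mem_centralizer_singleton_iff] at hx
        calc g⁻¹ * x * g * (g⁻¹ * (t : G) * g) = g⁻¹ * (x * (t : G)) * g := by group
          _ = g⁻¹ * ((t : G) * x) * g := by rw [hx]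
          _ = g⁻¹ * (t : G) * g * (g⁻¹ * x * g) := by group
      · intro hx
        rw [← e1, mem_centralizer_singleton_iff]
        rw [← e2, mem_centralizer_singleton_iff] at hx
        calc x * (t : G) = g * (g⁻¹ * x * g * (g⁻¹ * (t : G) * g)) * g⁻¹ := by group
          _ = g * (g⁻¹ * (t : G) * g * (g⁻¹ * x * g)) * g⁻¹ := by rw [hx]
          _ = (t : G) * x := by group
    simpa using inv_mem hginv

end

end Cfsg.Agent.Lib.Helper21
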