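import Mathlib.GroupTheory.Complement
import Cfsg.Agent.Lib.Helper21.ElemInvCent

set_option autoImplicit false

namespace Cfsg.Agent.Lib.Helper21

open Subgroup

section SEConj
variable {G : Type*} [Group G] [Finite G] {H : Subgroup G}

/-- In a group with a strongly embedded subgroup `H`, two involutions of `H` are conjugate under
`H ∩ uHu⁻¹` for any involution `u` outside `H`. -/
theorem se_exists_conj_inter (hH : Cfsg.IsStronglyEmbedded H) {u : G} (hu : orderOf u = 2)
    (huH : u ∉ H) {s t : G} (hs : orderOf s = 2) (hsH : s ∈ H) (ht : orderOf t = 2) (htH : t ∈ H) :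
    ∃ d ∈ (H ⊓ H.map (MulAut.conj u).toMonoidHom), d * s * d⁻¹ = t := by
  have hu2 := sq_eq_one_of_orderOf hu
  have hro : orderOf (u * t * u⁻¹) = 2 := by rw [orderOf_conj_eq]; exact ht
  have hrH : u * t * u⁻¹ ∉ H := fun h => huH (se_mem_of_conj_mem hH ht htH h)
  obtain ⟨i, hi2, hi⟩ := se_exists_invol_conj hH hs hsH hro hrH
  have hconj : u * i * s * (u * i)⁻¹ = t := by
    calc u * i * s * (u * i)⁻¹ = u * (i * s * i⁻¹) * u⁻¹ := by group
      _ = u * (u * t * u⁻¹) * u⁻¹ := by rw [hi]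
      _ = (u * u) * t * (u * u)⁻¹ := by group
      _ = t := by rw [← sq, hu2]; group
  refine ⟨u * i, Subgroup.mem_inf.2 ⟨?_, ?_⟩, hconj⟩
  · apply se_mem_of_conj_mem hH hs hsH
    rw [hconj]; exact htH
  · rw [mem_map_conj_iff']
    have e : u⁻¹ * (u * i) * u = i * u := by group
    rw [e]
    apply se_mem_of_conj_mem hH ht htH
    have : i * u * t * (i * u)⁻¹ = s := by
      calc i * u * t * (i * u)⁻¹ = i * (u * t * u⁻¹) * i⁻¹ := by group
        _ = i * (i * s * i⁻¹) * i⁻¹ := by rw [hi]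
        _ = (i * i) * s * (i * i)⁻¹ := by group
        _ = s := by rw [← sq, hi2]; group
    rw [this]; exact hsH

end SEConj

/-- the normalizer of the Sylow subgroup -/
abbrev eicH {G : Type*} [Group G] (T : Sylow 2 G) : Subgroup G :=
  Subgroup.normalizer ((T : Subgroup G) : Set G)

/-- the two-point stabilizer `H ∩ uHu⁻¹` -/
abbrev eicD {G : Type*} [Group G] (T : Sylow 2 G) (u : G) : Subgroup G :=
  Subgroup.normalizer ((T : Subgroup G) : Set G) ⊓
    (Subgroup.normalizer ((T : Subgroup G) : Set G)).map (MulAut.conj u).toMonoidHom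

section
variable {G : Type*} [Group G] [Finite G] (T : Sylow 2 G)
variable (hnc : ¬ IsCyclic (T : Subgroup G)) (hnn : ¬ (T : Subgroup G).Normal)
variable (hC : ∀ t : G, orderOf t = 2 → IsMulCommutative (Subgroup.centralizer ({t} : Set G)) ∧
  ∀ c ∈ Subgroup.centralizer ({t} : Set G), c ^ 2 = 1)
variable {u : G} (hu : orderOf u = 2) (huH : u ∉ Subgroup.normalizer ((T : Subgroup G) : Set G))


include hnc in
omit [Finite G] in
theorem eic_T_ne_bot : (T : Subgroup G) ≠ ⊥ := by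
  intro h
  apply hnc
  rw [h]
  infer_instance

include hnc hnn hC huH in
theorem eic_D_odd : Odd (Nat.card ↥(eicD T u)) :=
  (normalizer_stronglyEmbedded T hC hnc hnn).2.2 u huH

include hnc hnn hC huH in
/-- an element of `D` whose square is trivial is trivial -/
theorem eic_D_sq {c : G} (hc : c ∈ eicD T u) (hc2 : c ^ 2 = 1) : c = 1 := by
  have hodd := eic_D_odd T hnc hnn hC huH
  have h1 : orderOf c ∣ Nat.card ↥(eicD T u) := Subgroup.orderOf_dvd_natCard _ hc
  have h2 : orderOf c ∣ 2 := orderOf_dvd_of_pow_eq_one hc2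
  have h3 : Nat.Coprime (Nat.card ↥(eicD T u)) 2 := Nat.Coprime.symm (Nat.coprime_two_left.2 hodd)
  have := Nat.eq_one_of_dvd_coprimes h3 h1 h2
  rwa [orderOf_eq_one_iff] at this

include hnc hnn hC huH in
theorem eic_D_inf_T : (eicD T u) ⊓ (T : Subgroup G) = ⊥ := by
  rw [eq_bot_iff]
  intro x hx
  obtain ⟨hxD, hxT⟩ := mem_inf.1 hx
  rw [mem_bot]
  exact eic_D_sq T hnc hnn hC huH hxD (sylow_sq_eq_one T hC (eic_T_ne_bot T hnc) x hxT)

include hu in
omit [Finite G] in
theorem eic_u_normalizes {d : G} (hd : d ∈ eicD T u) : u * d * u⁻¹ ∈ eicD T u := by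
  have hu2 := sq_eq_one_of_orderOf hu
  have hu' := inv_eq_self_of_sq hu2
  obtain ⟨h1, h2⟩ := mem_inf.1 hd
  rw [mem_map_conj_iff'] at h2
  refine mem_inf.2 ⟨?_, ?_⟩
  · have : u * d * u⁻¹ = u⁻¹ * d * u := by rw [hu']
    rw [this]; exact h2
  · rw [mem_map_conj_iff']
    have : u⁻¹ * (u * d * u⁻¹) * u = d := by group
    rw [this]; exact h1

include hnc hnn hC hu huH in
/-- `u` inverts every element of `D`. -/
theorem eic_u_inverts : ∀ d ∈ eicD T u, u * d * u⁻¹ = d⁻¹ := by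
  have hu2 := sq_eq_one_of_orderOf hu
  have hu' := inv_eq_self_of_sq hu2
  let f : ↥(eicD T u) → ↥(eicD T u) := fun d =>
    ⟨(d : G)⁻¹ * (u * d * u⁻¹), mul_mem (inv_mem d.2) (eic_u_normalizes T hu d.2)⟩
  have hf : Function.Injective f := by
    intro d e hde
    have h1 : (d : G)⁻¹ * (u * d * u⁻¹) = (e : G)⁻¹ * (u * e * u⁻¹) := congrArg Subtype.val hde
    have h2 : ((e : G) * (d : G)⁻¹) * u = u * ((e : G) * (d : G)⁻¹) := by
      calc (e : G) * (d : G)⁻¹ * u = (e : G) * ((d : G)⁻¹ * (u * d * u⁻¹)) * (u * (d : G)⁻¹) := by group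
        _ = (e : G) * ((e : G)⁻¹ * (u * e * u⁻¹)) * (u * (d : G)⁻¹) := by rw [h1]
        _ = u * ((e : G) * (d : G)⁻¹) := by group
    have h3 : (e : G) * (d : G)⁻¹ ∈ centralizer {u} := by
      rw [mem_centralizer_singleton_iff]; exact h2
    have h4 := (hC u hu).2 _ h3
    have h5 := eic_D_sq T hnc hnn hC huH (mul_mem e.2 (inv_mem d.2)) h4
    apply Subtype.ext
    have : (e : G) = d := by
      rw [mul_inv_eq_one] at h5; exact h5
    exact this.symm
  have hs : Function.Surjective f := Finite.surjective_of_injective hf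
  intro d hd
  obtain ⟨e, he⟩ := hs ⟨d, hd⟩
  have he' : (e : G)⁻¹ * (u * e * u⁻¹) = d := congrArg Subtype.val he
  rw [← he']
  calc u * ((e : G)⁻¹ * (u * e * u⁻¹)) * u⁻¹ = (u * (e : G)⁻¹ * u⁻¹) * ((u * u) * e * (u * u)⁻¹) := by
        group
    _ = (u * (e : G)⁻¹ * u⁻¹) * e := by rw [← sq, hu2]; group
    _ = ((e : G)⁻¹ * (u * e * u⁻¹))⁻¹ := by group

include hnc hnn hC hu huH in
/-- `D` is transitive on the involutions of `T`. -/
theorem eic_D_transitive {s t : G} (hs : orderOf s = 2) (hsT : s ∈ (T : Subgroup G))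
    (ht : orderOf t = 2) (htT : t ∈ (T : Subgroup G)) : ∃ d ∈ eicD T u, d * s * d⁻¹ = t :=
  se_exists_conj_inter (normalizer_stronglyEmbedded T hC hnc hnn) hu huH hs (le_normalizer hsT) ht
    (le_normalizer htT)

include hnc hnn hC hu huH in
/-- `H = D T`. -/
theorem eic_H_eq_mul {h : G} (hh : h ∈ eicH T) : ∃ d ∈ eicD T u, ∃ t ∈ (T : Subgroup G), h = d * t := by
  obtain ⟨s, hs, hsT, -⟩ := exists_central_invol T (eic_T_ne_bot T hnc)
  have hconjT : h * s * h⁻¹ ∈ (T : Subgroup G) := (mem_normalizer_iff.1 hh s).1 hsT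
  have hconjo : orderOf (h * s * h⁻¹) = 2 := by rw [orderOf_conj_eq]; exact hs
  obtain ⟨d, hd, hds⟩ := eic_D_transitive T hnc hnn hC hu huH hs hsT hconjo hconjT
  refine ⟨d, hd, d⁻¹ * h, ?_, by group⟩
  rw [← centralizer_eq_sylow T hC hs hsT, mem_centralizer_singleton_iff]
  calc d⁻¹ * h * s = d⁻¹ * (h * s * h⁻¹) * h := by group
    _ = d⁻¹ * (d * s * d⁻¹) * h := by rw [hds]
    _ = s * (d⁻¹ * h) := by group

include hnc hnn hC hu huH in
theorem eic_isComplement' :
    Subgroup.IsComplement' ((eicD T u).subgroupOf (eicH T)) ((T : Subgroup G).subgroupOf (eicH T)) := by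
  apply isComplement'_of_disjoint_and_mul_eq_univ
  · rw [disjoint_iff, eq_bot_iff]
    intro x hx
    obtain ⟨h1, h2⟩ := mem_inf.1 hx
    rw [mem_subgroupOf] at h1 h2
    have : (x : G) ∈ (eicD T u) ⊓ (T : Subgroup G) := mem_inf.2 ⟨h1, h2⟩
    rw [eic_D_inf_T T hnc hnn hC huH, mem_bot] at this
    rw [mem_bot]
    exact Subtype.ext this
  · rw [Set.eq_univ_iff_forall]
    intro h
    obtain ⟨d, hd, t, ht, hdt⟩ := eic_H_eq_mul T hnc hnn hC hu huH h.2
    refine ⟨⟨d, (mem_inf.1 hd).1⟩, mem_subgroupOf.2 hd, ⟨t, le_normalizer ht⟩, mem_subgroupOf.2 ht, ?_⟩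
    apply Subtype.ext
    simp only [Subgroup.coe_mul]
    exact hdt.symm

include hnc hnn hC hu huH in
theorem eic_card_D : Nat.card ↥(eicD T u) = Nat.card (T : Subgroup G) - 1 := by
  classical
  obtain ⟨s, hs, hsT, -⟩ := exists_central_invol T (eic_T_ne_bot T hnc)
  have hT2 := sylow_sq_eq_one T hC (eic_T_ne_bot T hnc)
  have : Fintype (T : Subgroup G) := Fintype.ofFinite _
  have hcard : Nat.card {x : (T : Subgroup G) // x ≠ 1} = Nat.card (T : Subgroup G) - 1 := by
    rw [Nat.card_eq_fintype_card, Nat.card_eq_fintype_card]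
    exact Set.card_ne_eq (1 : (T : Subgroup G))
  rw [← hcard]
  have hDH : ∀ d : ↥(eicD T u), (d : G) ∈ eicH T := fun d => (mem_inf.1 d.2).1
  refine Nat.card_congr (Equiv.ofBijective
    (fun d : ↥(eicD T u) => (⟨⟨(d : G) * s * (d : G)⁻¹, (mem_normalizer_iff.1 (hDH d) s).1 hsT⟩, by
      intro h
      have h1 : (d : G) * s * (d : G)⁻¹ = 1 := congrArg Subtype.val h
      have h2 : s = 1 := by
        have : s = (d : G)⁻¹ * ((d : G) * s * (d : G)⁻¹) * d := by group
        rw [this, h1]; group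
      rw [h2, orderOf_one] at hs
      exact absurd hs (by norm_num)⟩ : {x : (T : Subgroup G) // x ≠ 1})) ⟨?_, ?_⟩)
  · intro d e hde
    have h1 : (d : G) * s * (d : G)⁻¹ = (e : G) * s * (e : G)⁻¹ :=
      congrArg Subtype.val (congrArg Subtype.val hde)
    have h2 : (e : G)⁻¹ * d ∈ centralizer {s} := by
      rw [mem_centralizer_singleton_iff]
      calc (e : G)⁻¹ * d * s = (e : G)⁻¹ * ((d : G) * s * (d : G)⁻¹) * d := by group
        _ = (e : G)⁻¹ * ((e : G) * s * (e : G)⁻¹) * d := by rw [h1]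
        _ = s * ((e : G)⁻¹ * d) := by group
    rw [centralizer_eq_sylow T hC hs hsT] at h2
    have h3 : (e : G)⁻¹ * d ∈ (eicD T u) ⊓ (T : Subgroup G) := mem_inf.2 ⟨mul_mem (inv_mem e.2) d.2, h2⟩
    rw [eic_D_inf_T T hnc hnn hC huH, mem_bot, inv_mul_eq_one] at h3
    exact (Subtype.ext h3).symm
  · rintro ⟨⟨t, htT⟩, ht1⟩
    have hto : orderOf t = 2 := by
      apply orderOf_eq_prime (hT2 t htT)
      intro h
      exact ht1 (Subtype.ext h)
    obtain ⟨d, hd, hds⟩ := eic_D_transitive T hnc hnn hC hu huH hs hsT hto htT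
    exact ⟨⟨d, hd⟩, Subtype.ext (Subtype.ext hds)⟩

include hnc hnn hC hu huH in
theorem eic_card_H : Nat.card ↥(eicH T) = Nat.card (T : Subgroup G) * (Nat.card (T : Subgroup G) - 1) := by
  have h := (eic_isComplement' T hnc hnn hC hu huH).card_mul_card
  rw [Nat.card_congr (Subgroup.subgroupOfEquivOfLe (inf_le_left : eicD T u ≤ eicH T)).toEquiv,
    Nat.card_congr (Subgroup.subgroupOfEquivOfLe (le_normalizer : (T : Subgroup G) ≤ eicH T)).toEquiv,
    eic_card_D T hnc hnn hC hu huH] at h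
  rw [← h, mul_comm]

end

end Cfsg.Agent.Lib.Helper21
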