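import Mathlib.GroupTheory.Coset.Basic
import Mathlib.GroupTheory.GroupAction.Quotient
import Mathlib.SetTheory.Cardinal.Finite
import Mathlib.Algebra.Order.BigOperators.Group.Finset
import Cfsg.Agent.Lib.Helper21.StronglyEmbedded

set_option autoImplicit false

namespace Cfsg.Agent.Lib.Helper21

open Subgroup

section
variable {G : Type*} [Group G] {H : Subgroup G}

theorem smul_mk_eq_iff (i g : G) :
    i • (QuotientGroup.mk g : G ⧸ H) = QuotientGroup.mk g ↔ g⁻¹ * i * g ∈ H := by
  rw [MulAction.Quotient.smul_mk, QuotientGroup.eq, smul_eq_mul]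
  constructor
  · intro h
    have := H.inv_mem h
    simpa [mul_assoc] using this
  · intro h
    have := H.inv_mem h
    simpa [mul_assoc] using this

variable [Finite G]

/-- every involution fixes some coset -/
theorem se_exists_fixed (hH : Cfsg.IsStronglyEmbedded H) {i : G} (hi : orderOf i = 2) :
    ∃ z : G ⧸ H, i • z = z := by
  obtain ⟨z₀, hz₀, hz₀H⟩ := se_exists_invol_mem hH
  obtain ⟨c, hc⟩ := isConj_iff.1 (se_isConj hH hz₀ hi)
  refine ⟨QuotientGroup.mk c, ?_⟩
  rw [smul_mk_eq_iff, ← hc]
  have : c⁻¹ * (c * z₀ * c⁻¹) * c = z₀ := by group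
  rw [this]; exact hz₀H

omit [Finite G] in
/-- an involution fixes at most one coset -/
theorem se_fixed_unique (hH : Cfsg.IsStronglyEmbedded H) {i : G} (hi : orderOf i = 2)
    {z z' : G ⧸ H} (hz : i • z = z) (hz' : i • z' = z') : z = z' := by
  induction z using QuotientGroup.induction_on with
  | H a =>
  induction z' using QuotientGroup.induction_on with
  | H b =>
  rw [smul_mk_eq_iff] at hz hz'
  rw [QuotientGroup.eq]
  have ht : orderOf (a⁻¹ * i * a) = 2 := by
    have := orderOf_conj_eq a⁻¹ i
    rw [inv_inv] at this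
    rw [this]; exact hi
  have h1 : (b⁻¹ * a) * (a⁻¹ * i * a) * (b⁻¹ * a)⁻¹ ∈ H := by
    have : (b⁻¹ * a) * (a⁻¹ * i * a) * (b⁻¹ * a)⁻¹ = b⁻¹ * i * b := by group
    rw [this]; exact hz'
  have := se_mem_of_conj_mem hH ht hz h1
  have := H.inv_mem this
  simpa using this

omit [Finite G] in
/-- the number of involutions fixing a given coset -/
theorem se_card_fixing (z : G ⧸ H) :
    Nat.card {i : G // orderOf i = 2 ∧ i • z = z} = Nat.card {t : G // orderOf t = 2 ∧ t ∈ H} := by
  induction z using QuotientGroup.induction_on with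
  | H g =>
  symm
  refine Nat.card_congr
    { toFun := fun t => ⟨g * t.1 * g⁻¹, by rw [orderOf_conj_eq]; exact t.2.1, by
        rw [smul_mk_eq_iff]
        have : g⁻¹ * (g * t.1 * g⁻¹) * g = t.1 := by group
        rw [this]; exact t.2.2⟩
      invFun := fun i => ⟨g⁻¹ * i.1 * g, by
        have := orderOf_conj_eq g⁻¹ i.1
        rw [inv_inv] at this
        rw [this]; exact i.2.1, (smul_mk_eq_iff _ _).1 i.2.2⟩
      left_inv := fun t => by apply Subtype.ext; simp only; group
      right_inv := fun i => by apply Subtype.ext; simp only; group }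

/-- Two involutions with different fixed cosets are conjugate by an involution. -/
theorem se_exists_invol_conj' (hH : Cfsg.IsStronglyEmbedded H) {s r : G} (hs : orderOf s = 2)
    (hr : orderOf r = 2) {x : G ⧸ H} (hsx : s • x = x) (hrx : r • x ≠ x) :
    ∃ i : G, orderOf i = 2 ∧ i * s * i⁻¹ = r := by
  induction x using QuotientGroup.induction_on with
  | H g =>
  rw [smul_mk_eq_iff] at hsx
  rw [Ne, smul_mk_eq_iff] at hrx
  have hs' : orderOf (g⁻¹ * s * g) = 2 := by
    have := orderOf_conj_eq g⁻¹ s
    rw [inv_inv] at this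
    rw [this]; exact hs
  have hr' : orderOf (g⁻¹ * r * g) = 2 := by
    have := orderOf_conj_eq g⁻¹ r
    rw [inv_inv] at this
    rw [this]; exact hr
  obtain ⟨i', hi'2, hi'⟩ := se_exists_invol_conj hH hs' hsx hr' hrx
  have hconj : (g * i' * g⁻¹) * s * (g * i' * g⁻¹)⁻¹ = r := by
    calc (g * i' * g⁻¹) * s * (g * i' * g⁻¹)⁻¹ = g * (i' * (g⁻¹ * s * g) * i'⁻¹) * g⁻¹ := by group
      _ = g * (g⁻¹ * r * g) * g⁻¹ := by rw [hi']
      _ = r := by group
  refine ⟨g * i' * g⁻¹, ?_, hconj⟩
  rw [orderOf_conj_eq]
  apply orderOf_eq_prime hi'2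
  rintro rfl
  apply hrx
  rw [← hi']
  simpa using hsx

theorem se_card_swapping (hH : Cfsg.IsStronglyEmbedded H) (x y : G ⧸ H) (hxy : x ≠ y) :
    Nat.card {i : G // orderOf i = 2 ∧ i • x = y} =
      Nat.card {t : G // orderOf t = 2 ∧ t ∈ H} := by
  classical
  have : Fintype (G ⧸ H) := Fintype.ofFinite _
  set m := Nat.card {t : G // orderOf t = 2 ∧ t ∈ H} with hm
  let Inv := {i : G // orderOf i = 2}
  -- Step A
  have hex : ∀ i : Inv, ∃ z : G ⧸ H, (i : G) • z = z := fun i => se_exists_fixed hH i.2
  let fix : Inv → G ⧸ H := fun i => Classical.choose (hex i)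
  have fix_spec : ∀ i : Inv, (i : G) • fix i = fix i := fun i => Classical.choose_spec (hex i)
  have hA : Nat.card Inv = ∑ _z : G ⧸ H, m := by
    rw [← Nat.card_congr (Equiv.sigmaFiberEquiv fix), Nat.card_sigma]
    apply Finset.sum_congr rfl
    intro z _
    rw [hm, ← se_card_fixing z]
    refine Nat.card_congr
      { toFun := fun i => ⟨i.1.1, i.1.2, by
          have := fix_spec i.1
          rw [i.2] at this
          exact this⟩
        invFun := fun i => ⟨⟨i.1, i.2.1⟩, se_fixed_unique hH i.2.1 (fix_spec ⟨i.1, i.2.1⟩) i.2.2⟩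
        left_inv := fun i => rfl
        right_inv := fun i => rfl }
  -- Step B
  have hB : Nat.card Inv = ∑ y' : G ⧸ H, Nat.card {i : G // orderOf i = 2 ∧ i • x = y'} := by
    rw [← Nat.card_congr (Equiv.sigmaFiberEquiv (fun i : Inv => (i : G) • x)), Nat.card_sigma]
    apply Finset.sum_congr rfl
    intro z _
    exact Nat.card_congr (Equiv.subtypeSubtypeEquivSubtypeInter (fun i : G => orderOf i = 2)
      (fun i : G => i • x = z))
  -- Step C
  have hC : ∀ y' ∈ (Finset.univ : Finset (G ⧸ H)),
      m ≤ Nat.card {i : G // orderOf i = 2 ∧ i • x = y'} := by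
    intro y' _
    by_cases hy' : y' = x
    · subst hy'
      rw [se_card_fixing]
    · -- pick an involution fixing x
      obtain ⟨s, hs, hsx⟩ : ∃ s : G, orderOf s = 2 ∧ s • x = x := by
        obtain ⟨z₀, hz₀, hz₀H⟩ := se_exists_invol_mem hH
        induction x using QuotientGroup.induction_on with
        | H g =>
        refine ⟨g * z₀ * g⁻¹, by rw [orderOf_conj_eq]; exact hz₀, ?_⟩
        rw [smul_mk_eq_iff]
        have : g⁻¹ * (g * z₀ * g⁻¹) * g = z₀ := by group
        rw [this]; exact hz₀H
      rw [hm, ← se_card_fixing y']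
      have hex' : ∀ r : {r : G // orderOf r = 2 ∧ r • y' = y'},
          ∃ i : G, orderOf i = 2 ∧ i * s * i⁻¹ = r.1 := by
        intro r
        apply se_exists_invol_conj' hH hs r.2.1 hsx
        intro h
        exact hy' (se_fixed_unique hH r.2.1 r.2.2 h)
      let F : {r : G // orderOf r = 2 ∧ r • y' = y'} → {i : G // orderOf i = 2 ∧ i • x = y'} :=
        fun r => ⟨Classical.choose (hex' r), (Classical.choose_spec (hex' r)).1, by
          have hc := (Classical.choose_spec (hex' r)).2
          set i := Classical.choose (hex' r)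
          apply se_fixed_unique hH r.2.1 _ r.2.2
          rw [← hc]
          calc (i * s * i⁻¹) • i • x = i • s • x := by simp [smul_smul, mul_assoc]
            _ = i • x := by rw [hsx]⟩
      apply Nat.card_le_card_of_injective F
      intro r r' hrr'
      have h1 := (Classical.choose_spec (hex' r)).2
      have h2 := (Classical.choose_spec (hex' r')).2
      have h3 : Classical.choose (hex' r) = Classical.choose (hex' r') := congrArg Subtype.val hrr'
      apply Subtype.ext
      rw [← h1, ← h2, h3]
  have hD := (Finset.sum_eq_sum_iff_of_le hC).1 (hA.symm.trans hB)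
  exact (hD y (Finset.mem_univ y)).symm

end

end Cfsg.Agent.Lib.Helper21
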