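import Cfsg.Agent.Lib.Helper21.ElemInvCent2
import Cfsg.Agent.Lib.Helper21.SECount

set_option autoImplicit false

namespace Cfsg.Agent.Lib.Helper21

open Subgroup

section SESwap
variable {G : Type*} [Group G] [Finite G] {H : Subgroup G}

/-- two distinct cosets of a strongly embedded subgroup are swapped by an involution -/
theorem se_exists_invol_smul (hH : Cfsg.IsStronglyEmbedded H) {x y : G ⧸ H} (hxy : x ≠ y) :
    ∃ w : G, orderOf w = 2 ∧ w • x = y := by
  have h := se_card_swapping hH x y hxy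
  obtain ⟨z, hz, hzH⟩ := se_exists_invol_mem hH
  have hne : Nonempty {t : G // orderOf t = 2 ∧ t ∈ H} := ⟨⟨z, hz, hzH⟩⟩
  have hpos : 0 < Nat.card {t : G // orderOf t = 2 ∧ t ∈ H} := Nat.card_pos
  rw [← h] at hpos
  obtain ⟨⟨w, hw, hwx⟩⟩ := (Nat.card_pos_iff.1 hpos).1
  exact ⟨w, hw, hwx⟩

omit [Finite G] in
theorem mk_eq_mk_one_iff {g : G} : (QuotientGroup.mk g : G ⧸ H) = QuotientGroup.mk 1 ↔ g ∈ H := by
  rw [QuotientGroup.eq]
  constructor
  · intro h
    have := H.inv_mem h
    simpa using this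
  · intro h
    have := H.inv_mem h
    simpa using this

end SESwap

section
variable {G : Type*} [Group G] [Finite G] (T : Sylow 2 G)
variable (hnc : ¬ IsCyclic (T : Subgroup G)) (hnn : ¬ (T : Subgroup G).Normal)
variable (hC : ∀ t : G, orderOf t = 2 → IsMulCommutative (Subgroup.centralizer ({t} : Set G)) ∧
  ∀ c ∈ Subgroup.centralizer ({t} : Set G), c ^ 2 = 1)
variable {u : G} (hu : orderOf u = 2) (huH : u ∉ Subgroup.normalizer ((T : Subgroup G) : Set G))

omit [Finite G] in
/-- `D = H ∩ uHu⁻¹` is the pointwise stabilizer of the cosets `H` and `uH`. -/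
theorem eic_mem_D_iff {d : G} : d ∈ eicD T u ↔
    d • (QuotientGroup.mk 1 : G ⧸ eicH T) = QuotientGroup.mk 1 ∧
    d • (QuotientGroup.mk u : G ⧸ eicH T) = QuotientGroup.mk u := by
  rw [smul_mk_eq_iff, smul_mk_eq_iff, mem_inf, mem_map_conj_iff']
  simp only [inv_one, one_mul, mul_one]

include hnc hnn hC hu huH in
/-- `D ≠ 1` -/
theorem eic_exists_D_ne_one : ∃ d ∈ eicD T u, d ≠ 1 := by
  by_contra hcon
  push Not at hcon
  have hbot : eicD T u = ⊥ := (Subgroup.eq_bot_iff_forall _).2 hcon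
  have hcard := eic_card_D T hnc hnn hC hu huH
  have h1 : Nat.card ↥(eicD T u) = 1 := by rw [hbot]; exact Subgroup.card_bot
  rw [h1] at hcard
  have hpos : 0 < Nat.card (T : Subgroup G) := Nat.card_pos
  have h2 : Nat.card (T : Subgroup G) = 2 := by omega
  apply hnc
  have : Fact (Nat.Prime 2) := ⟨Nat.prime_two⟩
  exact isCyclic_of_prime_card h2

include hnc hnn hC hu huH in
/-- `N_H(D) = D`. -/
theorem eic_mem_D_of_normalizes {n : G} (hnH : n ∈ eicH T)
    (hn : ∀ d ∈ eicD T u, n * d * n⁻¹ ∈ eicD T u) : n ∈ eicD T u := by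
  obtain ⟨d, hd, t, ht, rfl⟩ := eic_H_eq_mul T hnc hnn hC hu huH hnH
  have htn : ∀ d' ∈ eicD T u, t * d' * t⁻¹ ∈ eicD T u := by
    intro d' hd'
    have h1 := hn d' hd'
    have e : t * d' * t⁻¹ = d⁻¹ * (d * t * d' * (d * t)⁻¹) * d := by group
    rw [e]
    exact mul_mem (mul_mem (inv_mem hd) h1) hd
  have htc : ∀ d' ∈ eicD T u, t * d' * t⁻¹ = d' := by
    intro d' hd'
    have h1 : t * d' * t⁻¹ * d'⁻¹ ∈ eicD T u := mul_mem (htn d' hd') (inv_mem hd')
    have h2 : t * d' * t⁻¹ * d'⁻¹ ∈ (T : Subgroup G) := by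
      have hd'H : d' ∈ eicH T := (mem_inf.1 hd').1
      have h3 : d' * t⁻¹ * d'⁻¹ ∈ (T : Subgroup G) :=
        (mem_normalizer_iff.1 hd'H t⁻¹).1 (inv_mem ht)
      have e : t * d' * t⁻¹ * d'⁻¹ = t * (d' * t⁻¹ * d'⁻¹) := by group
      rw [e]; exact mul_mem ht h3
    have h3 : t * d' * t⁻¹ * d'⁻¹ ∈ eicD T u ⊓ (T : Subgroup G) := mem_inf.2 ⟨h1, h2⟩
    rw [eic_D_inf_T T hnc hnn hC huH, mem_bot] at h3
    exact mul_inv_eq_one.1 h3
  by_cases ht1 : t = 1
  · subst ht1; simpa using hd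
  · exfalso
    have hT2 := sylow_sq_eq_one T hC (eic_T_ne_bot T hnc)
    have : Fact (Nat.Prime 2) := ⟨Nat.prime_two⟩
    have hto : orderOf t = 2 := orderOf_eq_prime (hT2 t ht) ht1
    obtain ⟨d', hd', hd'1⟩ := eic_exists_D_ne_one T hnc hnn hC hu huH
    apply hd'1
    apply eic_D_sq T hnc hnn hC huH hd'
    apply (hC t hto).2
    rw [mem_centralizer_singleton_iff]
    have := htc d' hd'
    calc d' * t = (t * d' * t⁻¹) * t := by rw [this]
      _ = t * d' := by group

include hnc hnn hC hu huH in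
/-- if `D_u` fixes the coset `wH` for an involution `w ∉ H`, then `D_u = D_w`. -/
theorem eic_D_eq_of_fixes {w : G} (hw : orderOf w = 2)
    (hwH : w ∉ Subgroup.normalizer ((T : Subgroup G) : Set G))
    (hfix : ∀ d ∈ eicD T u, d • (QuotientGroup.mk w : G ⧸ eicH T) = QuotientGroup.mk w) :
    eicD T u = eicD T w := by
  have hle : eicD T u ≤ eicD T w := by
    intro d hd
    rw [eic_mem_D_iff]
    exact ⟨((eic_mem_D_iff T).1 hd).1, hfix d hd⟩
  apply Subgroup.eq_of_le_of_card_ge hle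
  rw [eic_card_D T hnc hnn hC hu huH, eic_card_D T hnc hnn hC hw hwH]

include hnc hnn hC hu huH in
/-- `u⁻¹ d u = d⁻¹` for `d ∈ D`. -/
theorem eic_u_inverts' {d : G} (hd : d ∈ eicD T u) : u⁻¹ * d * u = d⁻¹ := by
  have h := eic_u_inverts T hnc hnn hC hu huH d hd
  have hu' := inv_eq_self_of_sq (sq_eq_one_of_orderOf hu)
  calc u⁻¹ * d * u = u * d * u⁻¹ := by rw [hu']
    _ = d⁻¹ := h

include hnc hnn hC hu huH in
/-- The cosets fixed by `D = H ∩ uHu⁻¹` are exactly `H` and `uH`. -/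
theorem eic_fixed_iff (g : G) :
    (∀ d ∈ eicD T u, d • (QuotientGroup.mk g : G ⧸ eicH T) = QuotientGroup.mk g) ↔
    (QuotientGroup.mk g : G ⧸ eicH T) = QuotientGroup.mk 1 ∨
      (QuotientGroup.mk g : G ⧸ eicH T) = QuotientGroup.mk u := by
  have hse := normalizer_stronglyEmbedded T hC hnc hnn
  constructor
  · intro hfix
    by_contra hcon
    push Not at hcon
    obtain ⟨hg1, hgu⟩ := hcon
    -- an involution `w` with `wH = gH`
    obtain ⟨w, hw, hwg⟩ := se_exists_invol_smul hse (Ne.symm hg1)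
    rw [MulAction.Quotient.smul_mk, smul_eq_mul, mul_one] at hwg
    rw [← hwg] at hfix hg1 hgu
    have hwH : w ∉ Subgroup.normalizer ((T : Subgroup G) : Set G) := fun h =>
      hg1 (mk_eq_mk_one_iff.2 h)
    have hDw := eic_D_eq_of_fixes T hnc hnn hC hu huH hw hwH hfix
    -- `u w` centralizes `D`
    have hcent : ∀ d ∈ eicD T u, (u * w)⁻¹ * d * (u * w) = d := by
      intro d hd
      have h1 := eic_u_inverts' T hnc hnn hC hu huH hd
      have hdw : d⁻¹ ∈ eicD T w := by rw [← hDw]; exact inv_mem hd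
      have h2 := eic_u_inverts' T hnc hnn hC hw hwH hdw
      calc (u * w)⁻¹ * d * (u * w) = w⁻¹ * (u⁻¹ * d * u) * w := by group
        _ = w⁻¹ * d⁻¹ * w := by rw [h1]
        _ = d := by rw [h2, inv_inv]
    -- the coset `uwH` is not `H`
    have huw1 : (QuotientGroup.mk (u * w) : G ⧸ eicH T) ≠ QuotientGroup.mk 1 := by
      intro h
      apply hgu
      rw [mk_eq_mk_one_iff] at h
      rw [QuotientGroup.eq]
      have hu' := inv_eq_self_of_sq (sq_eq_one_of_orderOf hu)
      have hw' := inv_eq_self_of_sq (sq_eq_one_of_orderOf hw)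
      have := (eicH T).inv_mem h
      have e : (u * w)⁻¹ = w⁻¹ * u := by rw [mul_inv_rev, hu']
      rwa [e] at this
    -- `D` fixes `uwH`
    have hfix' : ∀ d ∈ eicD T u,
        d • (QuotientGroup.mk (u * w) : G ⧸ eicH T) = QuotientGroup.mk (u * w) := by
      intro d hd
      rw [smul_mk_eq_iff, hcent d hd]
      exact (mem_inf.1 hd).1
    obtain ⟨v, hv, hvg⟩ := se_exists_invol_smul hse (Ne.symm huw1)
    rw [MulAction.Quotient.smul_mk, smul_eq_mul, mul_one] at hvg
    have hvH : v ∉ Subgroup.normalizer ((T : Subgroup G) : Set G) := fun h =>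
      huw1 (by rw [← hvg]; exact mk_eq_mk_one_iff.2 h)
    have hfixv : ∀ d ∈ eicD T u,
        d • (QuotientGroup.mk v : G ⧸ eicH T) = QuotientGroup.mk v := by
      rw [hvg]; exact hfix'
    have hDv := eic_D_eq_of_fixes T hnc hnn hC hu huH hv hvH hfixv
    -- `e = v⁻¹ u w ∈ H` normalizes `D`, hence lies in `D`
    have heH : v⁻¹ * (u * w) ∈ eicH T := QuotientGroup.eq.1 hvg
    have hvinv : ∀ d ∈ eicD T u, v⁻¹ * d * v = d⁻¹ := by
      intro d hd
      have hdv : d ∈ eicD T v := by rw [← hDv]; exact hd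
      exact eic_u_inverts' T hnc hnn hC hv hvH hdv
    have hcent' : ∀ d ∈ eicD T u, (u * w) * d * (u * w)⁻¹ = d := by
      intro d hd
      have := hcent d hd
      calc (u * w) * d * (u * w)⁻¹ = (u * w) * ((u * w)⁻¹ * d * (u * w)) * (u * w)⁻¹ := by
            rw [this]
        _ = d := by group
    have heD : v⁻¹ * (u * w) ∈ eicD T u := by
      apply eic_mem_D_of_normalizes T hnc hnn hC hu huH heH
      intro d hd
      have e1 : v⁻¹ * (u * w) * d * (v⁻¹ * (u * w))⁻¹ = v⁻¹ * ((u * w) * d * (u * w)⁻¹) * v := by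
        group
      rw [e1, hcent' d hd, hvinv d hd]
      exact inv_mem hd
    -- `e` is centralized by `uw` and inverted by `v`, so `e = 1`
    set e := v⁻¹ * (u * w) with he
    have huwv : u * w = v * e := by rw [he]; group
    have he1 : e = 1 := by
      apply eic_D_sq T hnc hnn hC huH heD
      have h1 := hvinv e heD
      have h2 := hcent e heD
      rw [huwv] at h2
      -- (v e)⁻¹ e (v e) = e⁻¹ (v⁻¹ e v) e = e⁻¹ e⁻¹ e = e⁻¹
      have h3 : (v * e)⁻¹ * e * (v * e) = e⁻¹ * (v⁻¹ * e * v) * e := by group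
      rw [h3, h1] at h2
      have h4 : e⁻¹ = e := by
        calc e⁻¹ = e⁻¹ * e⁻¹ * e := by group
          _ = e := h2
      calc e ^ 2 = e * e := sq e
        _ = e⁻¹ * e := by rw [h4]
        _ = 1 := by group
    rw [he1, mul_one] at huwv
    -- now `v = uw` centralizes and inverts `D`
    obtain ⟨d, hd, hd1⟩ := eic_exists_D_ne_one T hnc hnn hC hu huH
    apply hd1
    apply eic_D_sq T hnc hnn hC huH hd
    have h1 := hvinv d hd
    have h2 := hcent d hd
    rw [huwv, h1] at h2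
    calc d ^ 2 = d * d := sq d
      _ = d⁻¹ * d := by rw [h2]
      _ = 1 := by group
  · rintro (h | h) d hd
    · rw [h]; exact ((eic_mem_D_iff T).1 hd).1
    · rw [h]; exact ((eic_mem_D_iff T).1 hd).2

include hnc hnn hC hu huH in
/-- `N_G(D) = D ⟨u⟩`. -/
theorem eic_normalizer_D :
    Subgroup.normalizer ((eicD T u : Subgroup G) : Set G) = eicD T u ⊔ Subgroup.zpowers u := by
  have hu' := inv_eq_self_of_sq (sq_eq_one_of_orderOf hu)
  have hunorm : u ∈ Subgroup.normalizer ((eicD T u : Subgroup G) : Set G) := by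
    rw [mem_normalizer_iff]
    intro h
    constructor
    · intro hh; exact eic_u_normalizes T hu hh
    · intro hh
      have := eic_u_normalizes T hu hh
      have e : u * (u * h * u⁻¹) * u⁻¹ = h := by
        calc u * (u * h * u⁻¹) * u⁻¹ = u⁻¹ * (u * h * u⁻¹) * u := by rw [hu']
          _ = h := by group
      rwa [e] at this
  apply le_antisymm
  · intro n hn
    rw [mem_normalizer_iff] at hn
    have hconj : ∀ d ∈ eicD T u, n⁻¹ * d * n ∈ eicD T u := by
      intro d hd
      rw [hn (n⁻¹ * d * n)]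
      have e : n * (n⁻¹ * d * n) * n⁻¹ = d := by group
      rwa [e]
    have hfix : ∀ d ∈ eicD T u, d • (QuotientGroup.mk n : G ⧸ eicH T) = QuotientGroup.mk n := by
      intro d hd
      rw [smul_mk_eq_iff]
      exact (mem_inf.1 (hconj d hd)).1
    rcases (eic_fixed_iff T hnc hnn hC hu huH n).1 hfix with h | h
    · rw [mk_eq_mk_one_iff] at h
      apply mem_sup_left
      apply eic_mem_D_of_normalizes T hnc hnn hC hu huH h
      intro d hd
      exact (hn d).1 hd
    · have h1 : u⁻¹ * n ∈ eicH T := QuotientGroup.eq.1 h.symm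
      have h2 : u⁻¹ * n ∈ eicD T u := by
        apply eic_mem_D_of_normalizes T hnc hnn hC hu huH h1
        intro d hd
        have e : u⁻¹ * n * d * (u⁻¹ * n)⁻¹ = u⁻¹ * (n * d * n⁻¹) * u := by group
        rw [e]
        have h3 : n * d * n⁻¹ ∈ eicD T u := (hn d).1 hd
        rw [eic_u_inverts' T hnc hnn hC hu huH h3]
        exact inv_mem h3
      have e : n = u * (u⁻¹ * n) := by group
      rw [e, sup_comm]
      exact Subgroup.mul_mem_sup (mem_zpowers u) h2
  · apply sup_le le_normalizer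
    rw [zpowers_le]
    exact hunorm

end

end Cfsg.Agent.Lib.Helper21
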