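import Cfsg.Agent.Lib.Helper21.ElemInvCent4
import Cfsg.Agent.Lib.Helper21.SL2Recognize
import Mathlib.FieldTheory.Finite.Basic
import Mathlib.Algebra.CharP.Two

set_option autoImplicit false

namespace Cfsg.Agent.Lib.Helper21

open Subgroup Matrix OnePoint

section
variable {G : Type*} [Group G] [Finite G] (T : Sylow 2 G)
variable (hnc : ¬ IsCyclic (T : Subgroup G)) (hnn : ¬ (T : Subgroup G).Normal)
variable (hC : ∀ t : G, orderOf t = 2 → IsMulCommutative (Subgroup.centralizer ({t} : Set G)) ∧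
  ∀ c ∈ Subgroup.centralizer ({t} : Set G), c ^ 2 = 1)
variable {u : G} (hu : orderOf u = 2) (huH : u ∉ Subgroup.normalizer ((T : Subgroup G) : Set G))
variable {K : Type*} [Field K] [DecidableEq K] [Finite K]
variable (ι : K ≃ ↥(T : Subgroup G))
variable (hadd : ∀ a b : K, ι (a + b) = ι a * ι b)
variable (hD : ∀ d ∈ eicD T u, ∃ m : K, ∀ a : K, ((ι (m * a) : ↥(T : Subgroup G)) : G) = d * ι a * d⁻¹)
variable (htr : ∀ a : K, a ≠ 0 → ∃ d ∈ eicD T u,
  ∀ b : K, ((ι (a * b) : ↥(T : Subgroup G)) : G) = d * ι b * d⁻¹)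

include hadd in
omit [Finite G] [DecidableEq K] [Finite K] in
theorem coord_ι_zero : ι 0 = 1 := by
  have h := hadd 0 0
  rw [add_zero] at h
  exact left_eq_mul.1 h

include hnc hC hadd in
omit [DecidableEq K] [Finite K] in
theorem coord_two_eq_zero : (2 : K) = 0 := by
  have h := hadd 1 1
  have hsq : ι 1 * ι 1 = 1 := by
    apply Subtype.ext
    have := sylow_sq_eq_one T hC (eic_T_ne_bot T hnc) (ι 1 : G) (ι 1).2
    rw [sq] at this
    exact this
  rw [hsq, ← coord_ι_zero T ι hadd] at h
  have := ι.injective h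
  rw [← this]; norm_num

include hnc hC hadd in
omit [DecidableEq K] in
theorem coord_exists_sqrt (m : K) : ∃ r : K, m = r * r := by
  have h2 := coord_two_eq_zero T hnc hC ι hadd
  have : CharP K 2 := CharTwo.of_one_ne_zero_of_two_eq_zero one_ne_zero h2
  exact isSquare_of_charTwo' m

/-- the coordinate map from the projective line to the coset space -/
noncomputable def coordFun (u : G) (p : OnePoint K) : G ⧸ eicH T :=
  p.elim (QuotientGroup.mk 1) (fun a => (ι a : G) • (QuotientGroup.mk u : G ⧸ eicH T))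

omit [Finite G] [Field K] [DecidableEq K] [Finite K] in
theorem coordFun_infty : coordFun T ι u (∞ : OnePoint K) = QuotientGroup.mk 1 := rfl

omit [Finite G] [Field K] [DecidableEq K] [Finite K] in
theorem coordFun_coe (a : K) :
    coordFun T ι u (a : OnePoint K) = (ι a : G) • (QuotientGroup.mk u : G ⧸ eicH T) := rfl

omit [Finite G] in
theorem eic_T_fix {s : G} (hs : s ∈ (T : Subgroup G)) :
    s • (QuotientGroup.mk 1 : G ⧸ eicH T) = QuotientGroup.mk 1 := by
  rw [smul_mk_eq_iff, inv_one, one_mul, mul_one]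
  exact le_normalizer hs

include hnc hnn hC hu huH in
omit [Field K] [DecidableEq K] [Finite K] in
theorem coordFun_bijective : Function.Bijective (coordFun T ι u) := by
  have hu1 : (QuotientGroup.mk u : G ⧸ eicH T) ≠ QuotientGroup.mk 1 := fun h =>
    huH (mk_eq_mk_one_iff.1 h)
  constructor
  · intro p q hpq
    cases p with
    | infty =>
      cases q with
      | infty => rfl
      | coe b =>
        exfalso
        rw [coordFun_infty, coordFun_coe] at hpq
        apply hu1
        have := congrArg (fun x => (ι b : G)⁻¹ • x) hpq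
        simp only [inv_smul_smul] at this
        rw [← this]
        exact eic_T_fix T (inv_mem (ι b).2)
    | coe a =>
      cases q with
      | infty =>
        exfalso
        rw [coordFun_infty, coordFun_coe] at hpq
        apply hu1
        have := congrArg (fun x => (ι a : G)⁻¹ • x) hpq
        simp only [inv_smul_smul] at this
        rw [this]
        exact eic_T_fix T (inv_mem (ι a).2)
      | coe b =>
        rw [coordFun_coe, coordFun_coe] at hpq
        have h1 : ((ι b : G)⁻¹ * (ι a : G)) • (QuotientGroup.mk u : G ⧸ eicH T) =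
            QuotientGroup.mk u := by
          rw [mul_smul, hpq, inv_smul_smul]
        have h2 := eic_T_free T hnc hnn hC (mul_mem (inv_mem (ι b).2) (ι a).2) hu1 h1
        have h3 : (ι a : G) = ι b := (inv_mul_eq_one.1 h2).symm
        rw [ι.injective (Subtype.ext h3)]
  · intro x
    by_cases hx : x = QuotientGroup.mk 1
    · exact ⟨∞, by rw [coordFun_infty, hx]⟩
    · induction x using QuotientGroup.induction_on with
      | H a =>
      obtain ⟨s, hs, hsa⟩ := eic_T_transitive T hnc hnn hC hu huH hx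
      refine ⟨((ι.symm ⟨s, hs⟩ : K) : OnePoint K), ?_⟩
      rw [coordFun_coe, Equiv.apply_symm_apply]
      exact hsa

/-- the coordinate bijection -/
noncomputable def coordEquiv : OnePoint K ≃ G ⧸ eicH T :=
  Equiv.ofBijective (coordFun T ι u) (coordFun_bijective T hnc hnn hC hu huH ι)

omit [Field K] [DecidableEq K] [Finite K] in
theorem coordEquiv_infty :
    coordEquiv T hnc hnn hC hu huH ι (∞ : OnePoint K) = QuotientGroup.mk 1 := rfl

omit [Field K] [DecidableEq K] [Finite K] in
theorem coordEquiv_coe (a : K) : coordEquiv T hnc hnn hC hu huH ι (a : OnePoint K) =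
    (ι a : G) • (QuotientGroup.mk u : G ⧸ eicH T) := rfl

/-- `g` acts on the coset space as the matrix `A` acts on the projective line -/
def CoordRep (g : G) (A : SpecialLinearGroup (Fin 2) K) : Prop :=
  ∀ p : OnePoint K, g • coordEquiv T hnc hnn hC hu huH ι p =
    coordEquiv T hnc hnn hC hu huH ι (slSmul A p)

omit [Finite K] in
theorem CoordRep.mul {g h : G} {A B : SpecialLinearGroup (Fin 2) K}
    (hg : CoordRep T hnc hnn hC hu huH ι g A) (hh : CoordRep T hnc hnn hC hu huH ι h B) :
    CoordRep T hnc hnn hC hu huH ι (g * h) (A * B) := by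
  intro p
  rw [mul_smul, hh p, hg, slSmul_mul]

include hadd in
omit [Finite K] in
/-- translations -/
theorem coordRep_T (b : K) : ∃ A : SpecialLinearGroup (Fin 2) K,
    CoordRep T hnc hnn hC hu huH ι (ι b : G) A := by
  refine ⟨⟨!![1, b; 0, 1], by simp [det_fin_two]⟩, ?_⟩
  intro p
  cases p with
  | infty =>
    rw [slSmul_mk_infty, if_pos rfl, coordEquiv_infty]
    exact eic_T_fix T (ι b).2
  | coe a =>
    rw [slSmul_mk_coe, coordEquiv_coe]
    simp only [zero_mul, zero_add, one_ne_zero, if_false, one_mul, div_one]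
    rw [coordEquiv_coe, ← mul_smul, add_comm, hadd]
    rfl

include hnc hC hadd hD in
/-- the torus -/
theorem coordRep_D {d : G} (hd : d ∈ eicD T u) : ∃ A : SpecialLinearGroup (Fin 2) K,
    CoordRep T hnc hnn hC hu huH ι d A := by
  obtain ⟨m, hm⟩ := hD d hd
  have h0 := coord_ι_zero T ι hadd
  have hm0 : m ≠ 0 := by
    intro h
    have h1 := hm 1
    rw [h, zero_mul, h0] at h1
    have h2 : (ι 1 : G) = 1 := by
      have : (ι 1 : G) = d⁻¹ * (d * ι 1 * d⁻¹) * d := by group
      rw [this, ← h1]; simp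
    have h3 : ι 1 = ι 0 := by rw [h0]; exact Subtype.ext h2
    exact one_ne_zero (ι.injective h3)
  obtain ⟨r, hr⟩ := coord_exists_sqrt T hnc hC ι hadd m
  have hr0 : r ≠ 0 := by
    intro h; rw [h, mul_zero] at hr; exact hm0 hr
  obtain ⟨hd1, hdu⟩ := (eic_mem_D_iff T).1 hd
  refine ⟨⟨!![r, 0; 0, r⁻¹], by simp [det_fin_two, hr0]⟩, ?_⟩
  intro p
  cases p with
  | infty =>
    rw [slSmul_mk_infty, if_pos rfl, coordEquiv_infty]
    exact hd1
  | coe a =>
    rw [slSmul_mk_coe, coordEquiv_coe]
    simp only [zero_mul, zero_add, add_zero, inv_eq_zero, hr0, if_false]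
    rw [coordEquiv_coe]
    have e1 : r * a / r⁻¹ = m * a := by
      rw [hr]; field_simp
    rw [e1, hm a]
    calc d • (ι a : G) • (QuotientGroup.mk u : G ⧸ eicH T)
        = (d * ι a * d⁻¹) • d • (QuotientGroup.mk u : G ⧸ eicH T) := by
          rw [← mul_smul, ← mul_smul]; congr 1; group
      _ = (d * ι a * d⁻¹) • (QuotientGroup.mk u : G ⧸ eicH T) := by rw [hdu]

include hadd htr in
omit [Finite K] in
/-- the Weyl element -/
theorem coordRep_u (hsqrt : ∀ m : K, ∃ r : K, m = r * r) (h2 : (2 : K) = 0) :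
    ∃ A : SpecialLinearGroup (Fin 2) K, CoordRep T hnc hnn hC hu huH ι u A := by
  have hu1 : (QuotientGroup.mk u : G ⧸ eicH T) ≠ QuotientGroup.mk 1 := fun h =>
    huH (mk_eq_mk_one_iff.1 h)
  have h0 := coord_ι_zero T ι hadd
  have hu2 := sq_eq_one_of_orderOf hu
  have huu : u • (QuotientGroup.mk u : G ⧸ eicH T) = QuotientGroup.mk 1 := by
    rw [MulAction.Quotient.smul_mk, smul_eq_mul, ← sq, hu2]
  have hu1' : u • (QuotientGroup.mk 1 : G ⧸ eicH T) = QuotientGroup.mk u := by
    rw [MulAction.Quotient.smul_mk, smul_eq_mul, mul_one]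
  have huux : ∀ x : G ⧸ eicH T, u • u • x = x := by
    intro x; rw [← mul_smul, ← sq, hu2, one_smul]
  have hι1 : (ι 1 : G) ≠ 1 := by
    intro h
    have : ι 1 = ι 0 := by rw [h0]; exact Subtype.ext h
    exact one_ne_zero (ι.injective this)
  -- the point `1`
  have hp1a : (ι 1 : G) • (QuotientGroup.mk u : G ⧸ eicH T) ≠ QuotientGroup.mk u := fun h =>
    hι1 (eic_T_free T hnc hnn hC (ι 1).2 hu1 h)
  have hp1b : (ι 1 : G) • (QuotientGroup.mk u : G ⧸ eicH T) ≠ QuotientGroup.mk 1 := by
    intro h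
    apply hu1
    have := congrArg (fun x => (ι 1 : G)⁻¹ • x) h
    simp only [inv_smul_smul] at this
    rw [this]
    exact eic_T_fix T (inv_mem (ι 1).2)
  obtain ⟨q, hq⟩ := (coordEquiv T hnc hnn hC hu huH ι).surjective
    (u • (ι 1 : G) • (QuotientGroup.mk u : G ⧸ eicH T))
  obtain ⟨c, rfl⟩ : ∃ c : K, q = (c : OnePoint K) := by
    cases q with
    | infty =>
      exfalso
      rw [coordEquiv_infty] at hq
      apply hp1a
      have := congrArg (fun x => u • x) hq
      rw [hu1', huux] at this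
      exact this.symm
    | coe c => exact ⟨c, rfl⟩
  rw [coordEquiv_coe] at hq
  have hc0 : c ≠ 0 := by
    intro h
    rw [h, h0] at hq
    simp only [OneMemClass.coe_one, one_smul] at hq
    apply hp1b
    have := congrArg (fun x => u • x) hq
    rw [huu, huux] at this
    exact this.symm
  -- the key formula
  have key : ∀ a : K, a ≠ 0 → u • (ι a : G) • (QuotientGroup.mk u : G ⧸ eicH T) =
      ((ι (c / a) : ↥(T : Subgroup G)) : G) • (QuotientGroup.mk u : G ⧸ eicH T) := by
    intro a ha
    obtain ⟨d, hd, hda⟩ := htr a ha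
    obtain ⟨hd1, hdu⟩ := (eic_mem_D_iff T).1 hd
    have hinv := eic_u_inverts T hnc hnn hC hu huH d hd
    have hdinvu : d⁻¹ • (QuotientGroup.mk u : G ⧸ eicH T) = QuotientGroup.mk u := by
      rw [inv_smul_eq_iff, hdu]
    have e1 : (ι a : G) = d * ι 1 * d⁻¹ := by
      have := hda 1; rwa [mul_one] at this
    have e2 : (ι c : G) = d * ι (c / a) * d⁻¹ := by
      have := hda (c / a)
      rwa [mul_div_cancel₀ _ ha] at this
    have hswap : ∀ X : G ⧸ eicH T, u • d • X = (u * d * u⁻¹) • (u • X) := by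
      intro X
      rw [← mul_smul, ← mul_smul]
      congr 1
      group
    calc u • (ι a : G) • (QuotientGroup.mk u : G ⧸ eicH T)
        = u • d • ((ι 1 : G) • (d⁻¹ • (QuotientGroup.mk u : G ⧸ eicH T))) := by
          rw [e1, mul_smul, mul_smul]
      _ = u • d • ((ι 1 : G) • (QuotientGroup.mk u : G ⧸ eicH T)) := by rw [hdinvu]
      _ = (u * d * u⁻¹) • (u • ((ι 1 : G) • (QuotientGroup.mk u : G ⧸ eicH T))) :=
          hswap _
      _ = d⁻¹ • ((ι c : G) • (QuotientGroup.mk u : G ⧸ eicH T)) := by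
          rw [hinv, hq]
      _ = ((ι (c / a) : ↥(T : Subgroup G)) : G) • (QuotientGroup.mk u : G ⧸ eicH T) := by
          rw [e2, mul_smul, mul_smul, hdinvu, inv_smul_smul]
  obtain ⟨r, hr⟩ := hsqrt c
  have hr0 : r ≠ 0 := by
    intro h; rw [h, mul_zero] at hr; exact hc0 hr
  have hneg : (-1 : K) = 1 := by
    have h11 : (1 : K) + 1 = 0 := by rw [one_add_one_eq_two, h2]
    exact neg_eq_of_add_eq_zero_left h11
  refine ⟨⟨!![0, r; r⁻¹, 0], by simp [det_fin_two, hr0, hneg]⟩, ?_⟩
  intro p
  cases p with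
  | infty =>
    rw [slSmul_mk_infty, if_neg (inv_ne_zero hr0), zero_div, coordEquiv_infty, coordEquiv_coe,
      h0, hu1']
    simp
  | coe a =>
    rw [slSmul_mk_coe, coordEquiv_coe]
    by_cases ha : a = 0
    · rw [ha, mul_zero, add_zero, if_pos rfl, coordEquiv_infty, h0]
      simp only [OneMemClass.coe_one, one_smul]
      exact huu
    · have hne : r⁻¹ * a + 0 ≠ 0 := by
        rw [add_zero]; exact mul_ne_zero (inv_ne_zero hr0) ha
      rw [if_neg hne, coordEquiv_coe, key a ha]
      have e : (0 * a + r) / (r⁻¹ * a + 0) = c / a := by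
        rw [zero_mul, zero_add, add_zero, hr]; field_simp
      rw [e]

include hnc hC hadd hD in
/-- the point stabilizer -/
theorem coordRep_H {h : G} (hh : h ∈ eicH T) : ∃ A : SpecialLinearGroup (Fin 2) K,
    CoordRep T hnc hnn hC hu huH ι h A := by
  obtain ⟨d, hd, t, ht, rfl⟩ := eic_H_eq_mul T hnc hnn hC hu huH hh
  obtain ⟨A, hA⟩ := coordRep_D T hnc hnn hC hu huH ι hadd hD hd
  obtain ⟨B, hB⟩ := coordRep_T T hnc hnn hC hu huH ι hadd (ι.symm ⟨t, ht⟩)
  rw [Equiv.apply_symm_apply] at hB
  exact ⟨A * B, CoordRep.mul T hnc hnn hC hu huH ι hA hB⟩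

include hadd hD htr in
/-- every element of `G` acts as a Moebius transformation -/
theorem coord_exists_rep (g : G) : ∃ A : SpecialLinearGroup (Fin 2) K,
    CoordRep T hnc hnn hC hu huH ι g A := by
  by_cases hg : g ∈ eicH T
  · exact coordRep_H T hnc hnn hC hu huH ι hadd hD hg
  · have hg1 : (QuotientGroup.mk g : G ⧸ eicH T) ≠ QuotientGroup.mk 1 := fun h =>
      hg (mk_eq_mk_one_iff.1 h)
    obtain ⟨s, hs, hsg⟩ := eic_T_transitive T hnc hnn hC hu huH hg1
    rw [MulAction.Quotient.smul_mk, smul_eq_mul] at hsg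
    have hh : (s * u)⁻¹ * g ∈ eicH T := QuotientGroup.eq.1 hsg
    obtain ⟨A, hA⟩ := coordRep_T T hnc hnn hC hu huH ι hadd (ι.symm ⟨s, hs⟩)
    rw [Equiv.apply_symm_apply] at hA
    obtain ⟨B, hB⟩ := coordRep_u T hnc hnn hC hu huH ι hadd htr
      (coord_exists_sqrt T hnc hC ι hadd) (coord_two_eq_zero T hnc hC ι hadd)
    obtain ⟨C, hC'⟩ := coordRep_H T hnc hnn hC hu huH ι hadd hD hh
    refine ⟨A * B * C, ?_⟩
    have e : g = s * u * ((s * u)⁻¹ * g) := by group
    rw [e]
    exact CoordRep.mul T hnc hnn hC hu huH ι (CoordRep.mul T hnc hnn hC hu huH ι hA hB) hC'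

end

end Cfsg.Agent.Lib.Helper21
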