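import Mathlib.GroupTheory.NoncommPiCoprod
import Cfsg.Agent.Lib.Helper21.Components

set_option autoImplicit false

namespace Cfsg.Agent.Lib.Helper21

open Subgroup
open scoped commutatorElement

theorem mem_map_center_iff {G : Type*} [Group G] {K : Subgroup G} {z : G} :
    z ∈ (center ↥K).map K.subtype ↔ z ∈ K ∧ ∀ k ∈ K, k * z = z * k := by
  constructor
  · rintro ⟨⟨z, hz⟩, hc, rfl⟩
    refine ⟨hz, fun k hk => ?_⟩
    rw [SetLike.mem_coe, mem_center_iff] at hc
    exact congrArg Subtype.val (hc ⟨k, hk⟩)
  · rintro ⟨hz, hc⟩
    refine ⟨⟨z, hz⟩, ?_, rfl⟩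
    rw [SetLike.mem_coe, mem_center_iff]
    intro k
    exact Subtype.ext (hc k k.2)

/-- The centre of a join of finitely many pairwise commuting subgroups is the join of the centres. -/
theorem center_iSup_of_commute {G : Type*} [Group G] {ι : Type*} [Finite ι] (H : ι → Subgroup G)
    (hcomm : Pairwise fun i j : ι => ∀ x y : G, x ∈ H i → y ∈ H j → Commute x y) :
    (center ↥(⨆ i, H i)).map (⨆ i, H i).subtype = ⨆ i, (center ↥(H i)).map (H i).subtype := by
  classical
  have : Fintype ι := Fintype.ofFinite ι
  apply le_antisymm
  · intro z hz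
    rw [mem_map_center_iff] at hz
    obtain ⟨hzE, hzc⟩ := hz
    rw [← Subgroup.noncommPiCoprod_range (hcomm := hcomm)] at hzE
    obtain ⟨f, rfl⟩ := hzE
    have key : ∀ j, ((f j : H j) : G) ∈ (center ↥(H j)).map (H j).subtype := by
      intro j
      rw [mem_map_center_iff]
      refine ⟨(f j).2, fun x hx => ?_⟩
      have hxE : x ∈ ⨆ i, H i := (le_iSup H j) hx
      have h1 := hzc x hxE
      have hf : f = Pi.mulSingle j (f j) * Function.update f j 1 := by
        funext i
        by_cases hij : i = j
        · subst hij; simp
        · simp [hij]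
      have h2 : Commute x (Subgroup.noncommPiCoprod hcomm (Function.update f j 1)) := by
        rw [Subgroup.noncommPiCoprod_apply]
        apply Finset.noncommProd_induction
        · exact fun a b => Commute.mul_right
        · exact Commute.one_right _
        · intro i _
          by_cases hij : i = j
          · subst hij; simp
          · rw [Function.update_of_ne hij]
            exact (hcomm (Ne.symm hij) x _ hx (f i).2)
      rw [hf, map_mul, Subgroup.noncommPiCoprod_mulSingle] at h1
      have h3 := h2.eq
      set w := Subgroup.noncommPiCoprod hcomm (Function.update f j 1) with hw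
      have h4 : x * (f j : G) * w = (f j : G) * x * w := by
        calc x * (f j : G) * w = x * ((f j : G) * w) := by rw [mul_assoc]
          _ = (f j : G) * w * x := h1
          _ = (f j : G) * (w * x) := by rw [mul_assoc]
          _ = (f j : G) * (x * w) := by rw [h3]
          _ = (f j : G) * x * w := by rw [mul_assoc]
      exact mul_right_cancel h4
    rw [Subgroup.noncommPiCoprod_apply]
    apply Subgroup.noncommProd_mem
    intro i _
    exact (le_iSup (fun i => (center ↥(H i)).map (H i).subtype) i) (key i)
  · apply iSup_le
    intro i z hz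
    rw [mem_map_center_iff] at hz ⊢
    obtain ⟨hzi, hzc⟩ := hz
    refine ⟨(le_iSup H i) hzi, ?_⟩
    have : (⨆ j, H j) ≤ centralizer {z} := by
      apply iSup_le
      intro j k hk
      rw [mem_centralizer_singleton_iff]
      by_cases hij : j = i
      · subst hij; exact hzc k hk
      · exact (hcomm hij k z hk hzi).eq
    intro k hk
    have := this hk
    rwa [mem_centralizer_singleton_iff] at this

/-- A component contained in another component equals it. -/
theorem component_eq_of_le {G : Type*} [Group G] {L₁ L₂ : Subgroup G}
    (h₁ : Cfsg.IsComponent L₁) (h₂ : Cfsg.IsComponent L₂) (hle : L₁ ≤ L₂) : L₁ = L₂ := by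
  have h3 : (L₁.subgroupOf L₂).IsSubnormal := h₁.1.subgroupOf
  rcases quasisimple_subnormal h₂.2 h3 with h | h
  · rw [Subgroup.subgroupOf_eq_top] at h
    exact le_antisymm hle h
  · exfalso
    -- L₁ is commutative, hence solvable
    have hperf : ⁅L₁, L₁⁆ = L₁ := by
      have := h₁.2.1
      exact Subgroup.commutator_eq_self
    have hbot : ⁅L₁, L₁⁆ = ⊥ := by
      rw [commutator_eq_bot_iff_le_centralizer]
      intro x hx
      rw [mem_centralizer_iff]
      intro y hy
      have hx' : (⟨x, hle hx⟩ : L₂) ∈ L₁.subgroupOf L₂ := by rw [mem_subgroupOf]; exact hx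
      have := h hx'
      rw [mem_center_iff] at this
      exact congrArg Subtype.val (this ⟨y, hle hy⟩)
    rw [hperf] at hbot
    have := quasisimple_nontrivial h₁.2
    rw [Subgroup.nontrivial_iff_ne_bot] at this
    exact this hbot

/-- Distinct components commute. -/
theorem components_commute {G : Type*} [Group G] {L₁ L₂ : Subgroup G}
    (h₁ : Cfsg.IsComponent L₁) (h₂ : Cfsg.IsComponent L₂) (hne : L₁ ≠ L₂) : ⁅L₁, L₂⁆ = ⊥ := by
  rcases component_le_or_commutes h₁ h₂.1 with h | h
  · exact absurd (component_eq_of_le h₁ h₂ h) hne
  · exact h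

/-- The centre of the layer is the join of the centres of the components. -/
theorem center_layer {G : Type*} [Group G] [Finite G] :
    (Subgroup.center ↥(Cfsg.layer G)).map (Cfsg.layer G).subtype =
      ⨆ L : {K : Subgroup G // Cfsg.IsComponent K},
        (Subgroup.center ↥(L : Subgroup G)).map (L : Subgroup G).subtype := by
  have hl : Cfsg.layer G = ⨆ L : {K : Subgroup G // Cfsg.IsComponent K}, (L : Subgroup G) := by
    unfold Cfsg.layer
    rw [sSup_eq_iSup']
    rfl
  have hcomm : Pairwise fun i j : {K : Subgroup G // Cfsg.IsComponent K} =>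
      ∀ x y : G, x ∈ (i : Subgroup G) → y ∈ (j : Subgroup G) → Commute x y := by
    intro i j hij x y hx hy
    have h := components_commute i.2 j.2 (fun h => hij (Subtype.ext h))
    rw [commutator_eq_bot_iff_le_centralizer] at h
    have := h hx
    rw [mem_centralizer_iff] at this
    exact (this y hy).symm
  have := center_iSup_of_commute (fun L : {K : Subgroup G // Cfsg.IsComponent K} => (L : Subgroup G)) hcomm
  rw [← hl] at this
  exact this

end Cfsg.Agent.Lib.Helper21
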