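import Mathlib
import Cfsg.Agent.Lib.Helper45.LtCore

/-! # S2363 hive "Lt" (helper45), leaves LT-E6, LT-E7 (helper21): the order bounds for `E_6(q)`, `E_7(q)`, via a generic lemma `e678_list` for orders of the form `d * g = q^N * ∏_{a ∈ L} (q^a - 1)`. -/

set_option autoImplicit false

namespace Cfsg.Agent.Lib.Helper45.Lt

/-- `p ∤ ∏_{a ∈ L} (q^a - 1)` -/
theorem e678_not_dvd {p f : ℕ} (hp : p.Prime) (hf : 1 ≤ f) (L : List ℕ) (hL : ∀ a ∈ L, 1 ≤ a) :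
    ¬ p ∣ (L.map (fun a => (p ^ f) ^ a - 1)).prod := by
  induction L with
  | nil => simpa using hp.one_lt.ne'
  | cons a L ih =>
    rw [List.map_cons, List.prod_cons]
    exact lt_not_dvd_mul hp (lt_not_dvd_sub_one hp hf (hL a (by simp)))
      (ih (fun b hb => hL b (by simp [hb])))

/-- `∏_{a ∈ L} (q^a - 1) ≤ q^(∑ L)` -/
theorem e678_le {q : ℕ} (_hq : 1 ≤ q) (L : List ℕ) :
    (L.map (fun a => q ^ a - 1)).prod ≤ q ^ L.sum := by
  induction L with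
  | nil => simp
  | cons a L ih =>
    rw [List.map_cons, List.prod_cons, List.sum_cons, pow_add]
    exact Nat.mul_le_mul (Nat.sub_le _ _) ih

/-- `∏_{a ∈ L} (q^a - 1) < q^(∑ L)` for a nonempty list -/
theorem e678_lt {q : ℕ} (hq : 1 ≤ q) (L : List ℕ) (hne : L ≠ []) :
    (L.map (fun a => q ^ a - 1)).prod < q ^ L.sum := by
  cases L with
  | nil => exact absurd rfl hne
  | cons a L =>
    rw [List.map_cons, List.prod_cons, List.sum_cons, pow_add]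
    have h1 : q ^ a - 1 < q ^ a := Nat.sub_lt (pow_pos hq _) Nat.one_pos
    have h2 := e678_le hq L
    have h3 : 0 < q ^ L.sum := pow_pos hq _
    calc (q ^ a - 1) * (L.map (fun a => q ^ a - 1)).prod ≤ (q ^ a - 1) * q ^ L.sum :=
          Nat.mul_le_mul_left _ h2
      _ < q ^ a * q ^ L.sum := Nat.mul_lt_mul_of_pos_right h1 h3

/-- generic: `d * g = q^N * ∏_{a ∈ L} (q^a - 1)` with `∑ L = N + l`, `p ∤ d` -/
theorem e678_list {p f g d N l : ℕ} (hp : p.Prime) (hf : 1 ≤ f) (hg : 0 < g) (L : List ℕ)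
    (hL : ∀ a ∈ L, 1 ≤ a) (hne : L ≠ [])
    (hcard : d * g = (p ^ f) ^ N * (L.map (fun a => (p ^ f) ^ a - 1)).prod)
    (hpd : ¬ p ∣ d) (hd : 1 ≤ d) (hsum : L.sum = N + l) (hl : l ≤ N) (h3 : 3 * l ≤ 2 * N) :
    g < p ^ (3 * g.factorization p) ∧ g ^ 3 < p ^ (8 * g.factorization p) := by
  have hq : 1 ≤ p ^ f := Nat.one_le_pow _ _ hp.pos
  have hM : (L.map (fun a => (p ^ f) ^ a - 1)).prod < d * (p ^ f) ^ (N + l) := by
    have h1 := e678_lt hq L hne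
    rw [hsum] at h1
    calc _ < (p ^ f) ^ (N + l) := h1
      _ = 1 * (p ^ f) ^ (N + l) := (one_mul _).symm
      _ ≤ d * (p ^ f) ^ (N + l) := Nat.mul_le_mul_right _ hd
  obtain ⟨_, h2, h3'⟩ := lt_core hp hf hg hcard hpd (e678_not_dvd hp hf L hL) hM hl
  exact ⟨h2, h3' h3⟩

/-- `p ∤ gcd(k, q - 1)` -/
theorem e678_gcd {p f k : ℕ} (hp : p.Prime) (hf : 1 ≤ f) : ¬ p ∣ Nat.gcd k (p ^ f - 1) := by
  have h := lt_not_dvd_sub_one hp hf (le_refl 1)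
  rw [pow_one] at h
  exact lt_not_dvd_of_dvd (Nat.gcd_dvd_right _ _) h

/-- LT-E6 (S1063): `N = 36`, `l = 6`, `d = gcd(3, q-1)`. -/
theorem lt_e6 {p f g : ℕ} (hp : p.Prime) (hf : 1 ≤ f) (hg : 0 < g)
    (hcard : Nat.gcd 3 (p ^ f - 1) * g = (p ^ f) ^ 36 * ((p ^ f) ^ 2 - 1) * ((p ^ f) ^ 5 - 1) *
      ((p ^ f) ^ 6 - 1) * ((p ^ f) ^ 8 - 1) * ((p ^ f) ^ 9 - 1) * ((p ^ f) ^ 12 - 1)) :
    g < p ^ (3 * g.factorization p) ∧ g ^ 3 < p ^ (8 * g.factorization p) := by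
  refine e678_list (d := Nat.gcd 3 (p ^ f - 1)) (N := 36) (l := 6) hp hf hg [2, 5, 6, 8, 9, 12]
    (by simp) (by simp) ?_ (e678_gcd hp hf) (Nat.gcd_pos_of_pos_left _ (by norm_num)) (by simp)
    (by norm_num) (by norm_num)
  rw [hcard]
  simp only [List.map_cons, List.map_nil, List.prod_cons, List.prod_nil]
  ring

/-- LT-E7 (S1064): `N = 63`, `l = 7`, `d = gcd(2, q-1)`. -/
theorem lt_e7 {p f g : ℕ} (hp : p.Prime) (hf : 1 ≤ f) (hg : 0 < g)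
    (hcard : Nat.gcd 2 (p ^ f - 1) * g = (p ^ f) ^ 63 * ((p ^ f) ^ 2 - 1) * ((p ^ f) ^ 6 - 1) *
      ((p ^ f) ^ 8 - 1) * ((p ^ f) ^ 10 - 1) * ((p ^ f) ^ 12 - 1) * ((p ^ f) ^ 14 - 1) *
      ((p ^ f) ^ 18 - 1)) :
    g < p ^ (3 * g.factorization p) ∧ g ^ 3 < p ^ (8 * g.factorization p) := by
  refine e678_list (d := Nat.gcd 2 (p ^ f - 1)) (N := 63) (l := 7) hp hf hg [2, 6, 8, 10, 12, 14, 18]
    (by simp) (by simp) ?_ (e678_gcd hp hf) (Nat.gcd_pos_of_pos_left _ (by norm_num)) (by simp)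
    (by norm_num) (by norm_num)
  rw [hcard]
  simp only [List.map_cons, List.map_nil, List.prod_cons, List.prod_nil]
  ring

end Cfsg.Agent.Lib.Helper45.Lt
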