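import Mathlib
import Cfsg.Prelude.Def_ClassicalGeometry
import Cfsg.Prelude.Def_GeometricClasses
import Cfsg.Agent.Lib.Helper46.OmDefs
import Cfsg.Agent.Lib.Helper14.FiniteQuad

/-! # OM-UE4 (helper21, for helper46's S5991 "Om" hive): a similitude of `quadFormMinus` with a nonsquare
multiplier -/

set_option autoImplicit false

namespace Cfsg.Agent.Lib.Helper46.Om

open Module
open Cfsg.Agent.Lib.Helper2.BG Cfsg.Agent.Lib.Helper99 Cfsg.Agent.Lib.Helper48.Ti

section concrete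

variable {F : Type*} [Field F] [Fintype F]

/-- the anisotropic binary form represents a nonsquare -/
theorem ue4_exists_nonsquare (h2 : (2 : F) ≠ 0) (a b : F)
    (hab : ∀ x y : F, x ^ 2 + a * x * y + b * y ^ 2 = 0 → x = 0 ∧ y = 0) :
    ∃ s t : F, ¬ IsSquare (s ^ 2 + a * s * t + b * t ^ 2) := by
  have h4 : (4 : F) ≠ 0 := by
    have : (4 : F) = 2 * 2 := by norm_num
    rw [this]; exact mul_ne_zero h2 h2
  have hc : b - a ^ 2 / 4 ≠ 0 := by
    intro hc
    have h := hab (-a / 2) 1 (by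
      have : (-a / 2) ^ 2 + a * (-a / 2) * 1 + b * 1 ^ 2 = b - a ^ 2 / 4 := by
        field_simp; ring
      rw [this, hc])
    exact one_ne_zero h.2
  have hchar : ringChar F ≠ 2 := by
    intro h
    apply h2
    have := ringChar.Nat.cast_ringChar (R := F)
    rw [h] at this
    exact_mod_cast this
  obtain ⟨lam, hlam⟩ := FiniteField.exists_nonsquare hchar
  obtain ⟨x, y, hxy⟩ := Cfsg.Agent.Lib.Helper14.exists_binary_rep h2 1 (b - a ^ 2 / 4) lam one_ne_zero hc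
  refine ⟨x - a * y / 2, y, ?_⟩
  have : (x - a * y / 2) ^ 2 + a * (x - a * y / 2) * y + b * y ^ 2 = lam := by
    rw [← hxy]; field_simp; ring
  rw [this]; exact hlam

omit [Fintype F] in
/-- the multiplier identity on the anisotropic plane -/
theorem ue4_plane (a b s t z₁ z₂ : F) :
    (s * z₁ - b * t * z₂) ^ 2 + a * (s * z₁ - b * t * z₂) * (t * z₁ + (s + a * t) * z₂)
      + b * (t * z₁ + (s + a * t) * z₂) ^ 2 =
    (s ^ 2 + a * s * t + b * t ^ 2) * (z₁ ^ 2 + a * z₁ * z₂ + b * z₂ ^ 2) := by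
  ring

/-- the similitude matrix -/
noncomputable def ue4_M (k : ℕ) (a b s t : F) :
    Matrix ((Fin k ⊕ Fin k) ⊕ Fin 2) ((Fin k ⊕ Fin k) ⊕ Fin 2) F :=
  Matrix.fromBlocks
    (Matrix.diagonal (Sum.elim (fun _ => s ^ 2 + a * s * t + b * t ^ 2) (fun _ => 1))) 0 0
    !![s, -(b * t); t, s + a * t]

/-- its inverse -/
noncomputable def ue4_M' (k : ℕ) (a b s t : F) :
    Matrix ((Fin k ⊕ Fin k) ⊕ Fin 2) ((Fin k ⊕ Fin k) ⊕ Fin 2) F :=
  Matrix.fromBlocks
    (Matrix.diagonal (Sum.elim (fun _ => (s ^ 2 + a * s * t + b * t ^ 2)⁻¹) (fun _ => 1))) 0 0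
    ((s ^ 2 + a * s * t + b * t ^ 2)⁻¹ • !![s + a * t, b * t; -t, s])

omit [Fintype F] in
theorem ue4_M_mul_M' (k : ℕ) (a b s t : F) (hlam : s ^ 2 + a * s * t + b * t ^ 2 ≠ 0) :
    ue4_M k a b s t * ue4_M' k a b s t = 1 := by
  unfold ue4_M ue4_M'
  rw [Matrix.fromBlocks_multiply, ← Matrix.fromBlocks_one]
  congr 1
  · rw [Matrix.zero_mul, add_zero, Matrix.diagonal_mul_diagonal, ← Matrix.diagonal_one]
    congr 1
    funext i
    rcases i with i | i
    · simp [hlam]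
    · simp
  · simp
  · simp
  · rw [Matrix.zero_mul, zero_add]
    have hprod : (!![s, -(b * t); t, s + a * t] : Matrix (Fin 2) (Fin 2) F) *
        !![s + a * t, b * t; -t, s] = (s ^ 2 + a * s * t + b * t ^ 2) • (1 : Matrix (Fin 2) (Fin 2) F) := by
      ext i j
      fin_cases i <;> fin_cases j <;> simp [Matrix.mul_apply, Fin.sum_univ_two] <;> ring
    rw [Matrix.mul_smul, hprod, smul_smul, inv_mul_cancel₀ hlam, one_smul]

omit [Fintype F] in
theorem ue4_mulVec_inl (k : ℕ) (a b s t : F) (v : VM k F) (x : Fin k ⊕ Fin k) :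
    (ue4_M k a b s t).mulVec v (Sum.inl x) =
      Sum.elim (fun _ => s ^ 2 + a * s * t + b * t ^ 2) (fun _ => (1 : F)) x * v (Sum.inl x) := by
  unfold ue4_M
  rw [Matrix.fromBlocks_mulVec, Sum.elim_inl, Matrix.zero_mulVec, add_zero, Matrix.mulVec_diagonal]
  rfl

omit [Fintype F] in
theorem ue4_mulVec_inr (k : ℕ) (a b s t : F) (v : VM k F) (j : Fin 2) :
    (ue4_M k a b s t).mulVec v (Sum.inr j) =
      (!![s, -(b * t); t, s + a * t] : Matrix (Fin 2) (Fin 2) F).mulVec (v ∘ Sum.inr) j := by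
  unfold ue4_M
  rw [Matrix.fromBlocks_mulVec, Sum.elim_inr, Matrix.zero_mulVec, zero_add]

omit [Fintype F] in
theorem ue4_quad (k : ℕ) (a b s t : F) (v : VM k F) :
    Cfsg.quadFormMinus k F a b ((ue4_M k a b s t).mulVec v) =
      (s ^ 2 + a * s * t + b * t ^ 2) * Cfsg.quadFormMinus k F a b v := by
  unfold Cfsg.quadFormMinus
  simp only [ue4_mulVec_inl, ue4_mulVec_inr, Sum.elim_inl, Sum.elim_inr, one_mul]
  have h0 : (!![s, -(b * t); t, s + a * t] : Matrix (Fin 2) (Fin 2) F).mulVec (v ∘ Sum.inr) 0 =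
      s * v (Sum.inr 0) - b * t * v (Sum.inr 1) := by
    simp [Matrix.mulVec, dotProduct, Fin.sum_univ_two]; ring
  have h1 : (!![s, -(b * t); t, s + a * t] : Matrix (Fin 2) (Fin 2) F).mulVec (v ∘ Sum.inr) 1 =
      t * v (Sum.inr 0) + (s + a * t) * v (Sum.inr 1) := by
    simp [Matrix.mulVec, dotProduct, Fin.sum_univ_two]
  rw [h0, h1, ue4_plane]
  conv_rhs => rw [mul_add, Finset.mul_sum]
  congr 1
  apply Finset.sum_congr rfl
  intro i _
  ring

/-- OM-UE4: a similitude of `quadFormMinus` with a nonsquare multiplier. -/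
theorem exists_similitude (h2 : (2 : F) ≠ 0) (k : ℕ) (a b : F)
    (hab : ∀ x y : F, x ^ 2 + a * x * y + b * y ^ 2 = 0 → x = 0 ∧ y = 0) :
    ∃ (g : Matrix.GeneralLinearGroup ((Fin k ⊕ Fin k) ⊕ Fin 2) F) (lam : F),
      ¬ IsSquare lam ∧ ∀ v : VM k F, Cfsg.quadFormMinus k F a b
        (Matrix.mulVec (g : Matrix ((Fin k ⊕ Fin k) ⊕ Fin 2) ((Fin k ⊕ Fin k) ⊕ Fin 2) F) v) =
        lam * Cfsg.quadFormMinus k F a b v := by
  obtain ⟨s, t, hst⟩ := ue4_exists_nonsquare h2 a b hab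
  have hlam : s ^ 2 + a * s * t + b * t ^ 2 ≠ 0 := by
    intro h
    apply hst
    rw [h]
    exact ⟨0, by simp⟩
  have h1 := ue4_M_mul_M' k a b s t hlam
  have h1' : ue4_M' k a b s t * ue4_M k a b s t = 1 := mul_eq_one_comm.mp h1
  refine ⟨⟨ue4_M k a b s t, ue4_M' k a b s t, h1, h1'⟩, s ^ 2 + a * s * t + b * t ^ 2, hst, ?_⟩
  intro v
  exact ue4_quad k a b s t v

end concrete

end Cfsg.Agent.Lib.Helper46.Om
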