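import Mathlib
import Cfsg.Agent.Lib.Helper40.OpBNDefs

/-!
# S2548 hive ("OpBN", owner helper40), leaf OPBN-TOP (core): `Ω = O' ≤ Bo ⊔ No`, with the other leaves
(PERM, FLIPB, FLIPN, TOPALL, TOPABS) as hypotheses
-/

set_option autoImplicit false

namespace Cfsg.Agent.Lib.Helper40.OpBN

open Matrix Cfsg Cfsg.Agent.Lib.Helper13 Cfsg.Agent.Lib.Helper41.SpBN

variable {F : Type*} [Field F] {m : ℕ}

/-- the flip `(e_k f_k)` commutes with `Sum.swap` -/
theorem top_flip_swap (k : Fin m) (a : Idx m) :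
    (Equiv.swap (Sum.inl k : Idx m) (Sum.inr k)) a.swap =
      ((Equiv.swap (Sum.inl k : Idx m) (Sum.inr k)) a).swap := by
  rcases a with i | i
  · by_cases h : i = k
    · subst h
      simp
    · have h1 : (Sum.inl i : Idx m) ≠ Sum.inl k := fun e => h (Sum.inl.inj e)
      have h2 : (Sum.inl i : Idx m) ≠ Sum.inr k := by simp
      have h3 : (Sum.inr i : Idx m) ≠ Sum.inl k := by simp
      have h4 : (Sum.inr i : Idx m) ≠ Sum.inr k := fun e => h (Sum.inr.inj e)
      rw [Equiv.swap_apply_of_ne_of_ne h1 h2, Sum.swap_inl, Equiv.swap_apply_of_ne_of_ne h3 h4]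
  · by_cases h : i = k
    · subst h
      simp
    · have h1 : (Sum.inl i : Idx m) ≠ Sum.inl k := fun e => h (Sum.inl.inj e)
      have h2 : (Sum.inl i : Idx m) ≠ Sum.inr k := by simp
      have h3 : (Sum.inr i : Idx m) ≠ Sum.inl k := by simp
      have h4 : (Sum.inr i : Idx m) ≠ Sum.inr k := fun e => h (Sum.inr.inj e)
      rw [Equiv.swap_apply_of_ne_of_ne h3 h4, Sum.swap_inr, Equiv.swap_apply_of_ne_of_ne h1 h2]

/-- an isometry whose matrix is the permutation matrix of an involution is an involution -/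
theorem top_sq_eq_one {π : Equiv.Perm (Idx m)} (hπ : π * π = 1) {r : OG F m}
    (hr : mt r = permMat F π) : r * r = 1 := by
  apply mt_ext
  rw [mt_mul, mt_one, hr]
  have h1 := isMono_mul (permMat_isMono (F := F) π) (permMat_isMono (F := F) π)
  rw [hπ] at h1
  ext a s
  rw [h1 a s, Matrix.one_apply, Equiv.Perm.one_apply, mul_one]

/-- LEAF TOP, core: the other leaves as hypotheses -/
theorem top_core (hm : 1 ≤ m)
    (hperm : ∀ π : Equiv.Perm (Idx m), (∀ a, π a.swap = (π a).swap) →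
      ∃ g : OG F m, mt g = permMat F π)
    (hflipB : ∀ {k : Fin m}, (k : ℕ) + 1 = m → ∀ {r : OG F m},
      mt r = permMat F (Equiv.swap (Sum.inl k) (Sum.inr k)) → ∀ b ∈ Bo F m, r * b * r⁻¹ ∈ Bo F m)
    (hcases : ∀ (k : Fin m) {r : OG F m},
      mt r = permMat F (Equiv.swap (Sum.inl k) (Sum.inr k)) →
      ∀ n ∈ NoAll F m, n ∈ No F m ∨ n * r ∈ No F m)
    (hNoconj : ∀ n ∈ NoAll F m, ∀ x ∈ No F m, n * x * n⁻¹ ∈ No F m)
    (htopall : Bo F m ⊔ NoAll F m = ⊤)
    (habs : ∀ (H : Subgroup (OG F m)) (r : OG F m), (∀ h ∈ H, r * h * r⁻¹ ∈ H) →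
      (∀ h ∈ H, r⁻¹ * h * r ∈ H) → H ⊔ Subgroup.zpowers r = ⊤ → commutator (OG F m) ≤ H) :
    commutator (OG F m) ≤ Bo F m ⊔ No F m := by
  classical
  set k : Fin m := ⟨m - 1, by omega⟩ with hk
  have hk1 : (k : ℕ) + 1 = m := by simp only [hk]; omega
  obtain ⟨r, hr⟩ := hperm (Equiv.swap (Sum.inl k) (Sum.inr k)) (top_flip_swap k)
  have hrr : r * r = 1 := top_sq_eq_one (Equiv.swap_mul_self _ _) hr
  have hrinv : r⁻¹ = r := inv_eq_of_mul_eq_one_right hrr
  have hrNoAll : r ∈ NoAll F m := ⟨_, _, by rw [hr]; exact permMat_isMono _⟩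
  have hconj : ∀ h ∈ Bo F m ⊔ No F m, r * h * r⁻¹ ∈ Bo F m ⊔ No F m := by
    intro h hh
    have h1 : (Bo F m ⊔ No F m).map (MulAut.conj r).toMonoidHom ≤ Bo F m ⊔ No F m := by
      rw [Subgroup.map_sup]
      apply sup_le
      · rintro _ ⟨b, hb, rfl⟩
        exact Subgroup.mem_sup_left (hflipB hk1 hr b hb)
      · rintro _ ⟨x, hx, rfl⟩
        exact Subgroup.mem_sup_right (hNoconj r hrNoAll x hx)
    exact h1 ⟨h, hh, rfl⟩
  apply habs (Bo F m ⊔ No F m) r hconj
  · intro h hh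
    have := hconj h hh
    rw [hrinv] at this ⊢
    nth_rewrite 2 [← hrinv]
    rw [hrinv]
    exact this
  · rw [eq_top_iff, ← htopall]
    apply sup_le
    · exact le_trans le_sup_left le_sup_left
    · intro n hn
      rcases hcases k hr n hn with h | h
      · exact Subgroup.mem_sup_left (Subgroup.mem_sup_right h)
      · have h1 : n = (n * r) * r⁻¹ := by rw [mul_assoc, mul_inv_cancel, mul_one]
        rw [h1]
        exact Subgroup.mul_mem _ (Subgroup.mem_sup_left (Subgroup.mem_sup_right h))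
          (Subgroup.mem_sup_right (Subgroup.inv_mem _ (Subgroup.mem_zpowers r)))

/-- own copy of LEAF TOPABS (pure group theory) -/
theorem top_abs {G : Type*} [Group G] (H : Subgroup G) (r : G)
    (hr : ∀ h ∈ H, r * h * r⁻¹ ∈ H) (hr' : ∀ h ∈ H, r⁻¹ * h * r ∈ H)
    (htop : H ⊔ Subgroup.zpowers r = ⊤) : commutator G ≤ H := by
  have hrn : r ∈ Subgroup.normalizer (H : Set G) := by
    rw [Subgroup.mem_normalizer_iff]
    intro h
    constructor
    · exact hr h
    · intro hh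
      have h1 := hr' _ hh
      have e : r⁻¹ * (r * h * r⁻¹) * r = h := by group
      rwa [e] at h1
  have hN : H.Normal := by
    rw [← Subgroup.normalizer_eq_top_iff, eq_top_iff, ← htop]
    apply sup_le Subgroup.le_normalizer
    rw [Subgroup.zpowers_le]; exact hrn
  have hdec : ∀ g : G, ∃ h ∈ H, ∃ i : ℤ, g = h * r ^ i := by
    intro g
    have hg : g ∈ H ⊔ Subgroup.zpowers r := by rw [htop]; trivial
    rw [← SetLike.mem_coe, Subgroup.normal_mul, Set.mem_mul] at hg
    obtain ⟨h, hh, z, hz, rfl⟩ := hg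
    obtain ⟨i, rfl⟩ := Subgroup.mem_zpowers_iff.1 hz
    exact ⟨h, hh, i, rfl⟩
  have hmk : ∀ g : G, ∃ i : ℤ, (QuotientGroup.mk' H g) = (QuotientGroup.mk' H r) ^ i := by
    intro g
    obtain ⟨h, hh, i, rfl⟩ := hdec g
    refine ⟨i, ?_⟩
    have h1 : (QuotientGroup.mk' H) h = 1 := (QuotientGroup.eq_one_iff h).2 hh
    rw [map_mul, map_zpow, h1, one_mul]
  let _ : CommGroup (G ⧸ H) :=
    { (inferInstance : Group (G ⧸ H)) with
      mul_comm := by
        intro x y
        obtain ⟨a, rfl⟩ := QuotientGroup.mk'_surjective H x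
        obtain ⟨b, rfl⟩ := QuotientGroup.mk'_surjective H y
        obtain ⟨i, hi⟩ := hmk a
        obtain ⟨j, hj⟩ := hmk b
        rw [hi, hj, ← _root_.zpow_add, ← _root_.zpow_add, add_comm] }
  have h1 := Abelianization.commutator_subset_ker (QuotientGroup.mk' H)
  rwa [QuotientGroup.ker_mk'] at h1

end Cfsg.Agent.Lib.Helper40.OpBN
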