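import Mathlib
import Cfsg.Agent.Lib.Helper40.OpBNDefs
import Cfsg.Agent.Lib.Helper21.OpBN_TOPcore
import Cfsg.Agent.Lib.Helper40.OpBN_PERM
import Cfsg.Agent.Lib.Helper86.OpBN_FLIPN
import Cfsg.Agent.Lib.Helper86.OpBN_FLIPBcore
import Cfsg.Agent.Lib.Helper87.OpBN_BOREL
import Cfsg.Agent.Lib.Helper87.OpBN_LOWER
import Cfsg.Agent.Lib.Helper82.OpBN_TOPALL

/-!
# S2548 hive ("OpBN", owner helper40), leaf OPBN-TOP: `Ω = O' ≤ Bo ⊔ No`

The exact skeleton statement `commutator_le_Bo_sup_No`, from `top_core` (`Helper21.OpBN_TOPcore`) and the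
leaves PERM (`exists_perm`), FLIPB (via `flipb_core` + BOREL / LOWER / LAST), FLIPN (`NoAll_cases`,
`No_conj`), TOPALL (`Bo_sup_NoAll`) and TOPABS (`top_abs`).
-/

set_option autoImplicit false

namespace Cfsg.Agent.Lib.Helper40.OpBN

open Matrix Cfsg Cfsg.Agent.Lib.Helper13 Cfsg.Agent.Lib.Helper41.SpBN

variable {F : Type*} [Field F] {m : ℕ}

/-- LEAF TOP: `Ω = O' ≤ Bo ⊔ No`. -/
theorem commutator_le_Bo_sup_No [Fintype F] (hm : 1 ≤ m) (hgood : ¬ (m = 2 ∧ Fintype.card F = 2)) :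
    commutator (OG F m) ≤ Bo F m ⊔ No F m :=
  top_core hm exists_perm
    (fun {_} hk {_} hr =>
      flipb_core mem_Bo_iff (fun _ hg => Bo_lower hg) (fun _ hg _ hk' => Bo_last hg hk') hk hr)
    (fun k {_} hr => NoAll_cases k hr) No_conj (Bo_sup_NoAll hgood)
    (fun H r h1 h2 h3 => top_abs H r h1 h2 h3)

end Cfsg.Agent.Lib.Helper40.OpBN
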