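import Mathlib
import Cfsg.Prelude.Def_LieClassical
import Cfsg.Agent.Lib.Helper14.P4Defs
import Cfsg.Agent.Lib.Helper14.Us3Basic
import Cfsg.Agent.Lib.Helper44.HermSpace
import Cfsg.Agent.Lib.Helper21.P4I2B

/-!
# S6001 hive (helper14): leaf P4U-F `exists_unitary_frame` (helper21)
-/

set_option autoImplicit false
set_option linter.unusedSectionVars false

namespace Cfsg.Agent.Lib.Helper14.P4

open Matrix

variable {F : Type*} [Field F]

theorem uf_eq_zero (h2 : (2 : F) ≠ 0) {x : F} (h : x = -x) : x = 0 := by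
  have : (2 : F) * x = 0 := by linear_combination h
  rcases mul_eq_zero.mp this with h' | h'
  · exact absurd h' h2
  · exact h'

/-- a matrix commuting with `X1, Z1, X2, Z2` is scalar -/
theorem uf_scalar_of_comm (h2 : (2 : F) ≠ 0) (S : Matrix (Fin 4) (Fin 4) F)
    (hX1 : mX1 * S = S * mX1) (hZ1 : mZ1 * S = S * mZ1)
    (hX2 : mX2 * S = S * mX2) (hZ2 : mZ2 * S = S * mZ2) : S = (S 0 0) • 1 := by
  have z1 := fun a b => congrFun (congrFun hZ1 a) b
  have z2 := fun a b => congrFun (congrFun hZ2 a) b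
  have x1 := fun a b => congrFun (congrFun hX1 a) b
  have x2 := fun a b => congrFun (congrFun hX2 a) b
  have e02 : S 0 2 = 0 := uf_eq_zero h2 (by
    have := z1 0 2; simpa [mZ1, Matrix.mul_apply, Fin.sum_univ_four] using this)
  have e03 : S 0 3 = 0 := uf_eq_zero h2 (by
    have := z1 0 3; simpa [mZ1, Matrix.mul_apply, Fin.sum_univ_four] using this)
  have e12 : S 1 2 = 0 := uf_eq_zero h2 (by
    have := z1 1 2; simpa [mZ1, Matrix.mul_apply, Fin.sum_univ_four] using this)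
  have e13 : S 1 3 = 0 := uf_eq_zero h2 (by
    have := z1 1 3; simpa [mZ1, Matrix.mul_apply, Fin.sum_univ_four] using this)
  have e20 : S 2 0 = 0 := uf_eq_zero h2 (by
    have := z1 2 0; simpa [mZ1, Matrix.mul_apply, Fin.sum_univ_four] using this.symm)
  have e30 : S 3 0 = 0 := uf_eq_zero h2 (by
    have := z1 3 0; simpa [mZ1, Matrix.mul_apply, Fin.sum_univ_four] using this.symm)
  have e21 : S 2 1 = 0 := uf_eq_zero h2 (by
    have := z1 2 1; simpa [mZ1, Matrix.mul_apply, Fin.sum_univ_four] using this.symm)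
  have e31 : S 3 1 = 0 := uf_eq_zero h2 (by
    have := z1 3 1; simpa [mZ1, Matrix.mul_apply, Fin.sum_univ_four] using this.symm)
  have e01 : S 0 1 = 0 := uf_eq_zero h2 (by
    have := z2 0 1; simpa [mZ2, Matrix.mul_apply, Fin.sum_univ_four] using this)
  have e23 : S 2 3 = 0 := uf_eq_zero h2 (by
    have := z2 2 3; simpa [mZ2, Matrix.mul_apply, Fin.sum_univ_four] using this)
  have e10 : S 1 0 = 0 := uf_eq_zero h2 (by
    have := z2 1 0; simpa [mZ2, Matrix.mul_apply, Fin.sum_univ_four] using this.symm)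
  have e32 : S 3 2 = 0 := uf_eq_zero h2 (by
    have := z2 3 2; simpa [mZ2, Matrix.mul_apply, Fin.sum_univ_four] using this.symm)
  have d2 : S 2 2 = S 0 0 := by
    have := x1 0 2; simpa [mX1, Matrix.mul_apply, Fin.sum_univ_four] using this
  have d1 : S 1 1 = S 0 0 := by
    have := x2 0 1; simpa [mX2, Matrix.mul_apply, Fin.sum_univ_four] using this
  have d3 : S 3 3 = S 0 0 := by
    have := x2 2 3; simpa [mX2, Matrix.mul_apply, Fin.sum_univ_four, d2] using this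
  ext a b
  fin_cases a <;> fin_cases b <;> simp [e01, e02, e03, e10, e12, e13, e20, e21, e23, e30, e31, e32,
    d1, d2, d3]

section unitary

variable [Fintype F] {p : ℕ} [Fact p.Prime] [CharP F p]

theorem uf_p_odd (h2 : (2 : F) ≠ 0) : Odd p := by
  apply Nat.Prime.odd_of_ne_two Fact.out
  rintro rfl
  apply h2
  have := CharP.cast_eq_zero F 2
  exact_mod_cast this

/-- `H S = S H` for `S = M₀ᵀ M₀^φ` when `M₀ H M₀⁻¹` is unitary and `H` is a real symmetric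
involution -/
theorem uf_comm (hF : Fintype.card F = p ^ 2) (G M₀ H : Matrix (Fin 4) (Fin 4) F)
    (hG : Gᵀ * Cfsg.Agent.Lib.Helper14.Us3.frm p G = 1) (hGM : G * M₀ = M₀ * H)
    (hHt : Hᵀ = H) (hHf : Cfsg.Agent.Lib.Helper14.Us3.frm p H = H) (hHH : H * H = 1) :
    H * (M₀ᵀ * Cfsg.Agent.Lib.Helper14.Us3.frm p M₀)
      = (M₀ᵀ * Cfsg.Agent.Lib.Helper14.Us3.frm p M₀) * H := by
  have e1 : (G * M₀)ᵀ * Cfsg.Agent.Lib.Helper14.Us3.frm p (G * M₀)
      = M₀ᵀ * Cfsg.Agent.Lib.Helper14.Us3.frm p M₀ := by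
    rw [Matrix.transpose_mul, Cfsg.Agent.Lib.Helper14.Us3.frm_mul hF, Matrix.mul_assoc,
      ← Matrix.mul_assoc Gᵀ, hG, Matrix.one_mul]
  have e2 : (M₀ * H)ᵀ * Cfsg.Agent.Lib.Helper14.Us3.frm p (M₀ * H)
      = H * (M₀ᵀ * Cfsg.Agent.Lib.Helper14.Us3.frm p M₀) * H := by
    rw [Matrix.transpose_mul, Cfsg.Agent.Lib.Helper14.Us3.frm_mul hF, hHt, hHf]
    simp only [Matrix.mul_assoc]
  rw [hGM, e2] at e1
  calc H * (M₀ᵀ * Cfsg.Agent.Lib.Helper14.Us3.frm p M₀)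
      = H * (M₀ᵀ * Cfsg.Agent.Lib.Helper14.Us3.frm p M₀) * (H * H) := by
        rw [hHH, Matrix.mul_one]
    _ = (H * (M₀ᵀ * Cfsg.Agent.Lib.Helper14.Us3.frm p M₀) * H) * H := by
        simp only [Matrix.mul_assoc]
    _ = (M₀ᵀ * Cfsg.Agent.Lib.Helper14.Us3.frm p M₀) * H := by rw [e1]

/-- P4U-F (unitary frame).  If `R = P₀ R0 P₀⁻¹ ≤ GU` then `P₀` can be rescaled into `GU`. -/
theorem exists_unitary_frame (hF : Fintype.card F = p ^ 2) (h2 : (2 : F) ≠ 0) (i : F)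
    (hi : i * i = -1) (hip : i ^ p = -i) (R : Subgroup (GL (Fin 4) F)) (hRU : R ≤ Cfsg.GU 4 F p)
    (P₀ : GL (Fin 4) F) (hP₀ : R = (R0 i hi).map (MulAut.conj P₀).toMonoidHom) :
    ∃ P : GL (Fin 4) F, P ∈ Cfsg.GU 4 F p ∧ R = (R0 i hi).map (MulAut.conj P).toMonoidHom := by
  have hodd : Odd p := uf_p_odd h2
  have hneg : (-1 : F) ^ p = -1 := hodd.neg_one_pow
  have hp0 : p ≠ 0 := (Fact.out : p.Prime).ne_zero
  set M₀ : Matrix (Fin 4) (Fin 4) F := (P₀ : Matrix (Fin 4) (Fin 4) F) with hM₀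
  set S : Matrix (Fin 4) (Fin 4) F := M₀ᵀ * Cfsg.Agent.Lib.Helper14.Us3.frm p M₀ with hS
  -- conjugates of elements of `R0` are unitary
  have hconj : ∀ h ∈ R0 i hi,
      ((P₀ * h * P₀⁻¹ : GL (Fin 4) F) : Matrix (Fin 4) (Fin 4) F)ᵀ *
        Cfsg.Agent.Lib.Helper14.Us3.frm p
          ((P₀ * h * P₀⁻¹ : GL (Fin 4) F) : Matrix (Fin 4) (Fin 4) F) = 1 := by
    intro h hh
    rw [← Cfsg.Agent.Lib.Helper14.Us3.mem_GU_iff hF]
    apply hRU
    rw [hP₀]
    exact ⟨h, hh, by simp [MulAut.conj_apply]⟩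
  have hGM : ∀ h : GL (Fin 4) F,
      ((P₀ * h * P₀⁻¹ : GL (Fin 4) F) : Matrix (Fin 4) (Fin 4) F) * M₀
        = M₀ * (h : Matrix (Fin 4) (Fin 4) F) := by
    intro h
    have : (P₀ * h * P₀⁻¹) * P₀ = P₀ * h := by group
    exact congrArg Units.val this
  have cX1 : mX1 * S = S * mX1 := by
    apply uf_comm hF _ M₀ mX1 (hconj gX1 (i2b_gX1_mem i hi)) (hGM gX1)
    · ext a b; fin_cases a <;> fin_cases b <;> simp [mX1]
    · ext a b; fin_cases a <;> fin_cases b <;>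
        simp [mX1, Cfsg.Agent.Lib.Helper14.Us3.frm_apply, hp0]
    · exact mX1_mul_self
  have cZ1 : mZ1 * S = S * mZ1 := by
    apply uf_comm hF _ M₀ mZ1 (hconj gZ1 (i2b_gZ1_mem i hi)) (hGM gZ1)
    · ext a b; fin_cases a <;> fin_cases b <;> simp [mZ1]
    · ext a b; fin_cases a <;> fin_cases b <;>
        simp [mZ1, Cfsg.Agent.Lib.Helper14.Us3.frm_apply, hp0, hneg]
    · exact mZ1_mul_self
  have cX2 : mX2 * S = S * mX2 := by
    apply uf_comm hF _ M₀ mX2 (hconj gX2 (i2b_gX2_mem i hi)) (hGM gX2)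
    · ext a b; fin_cases a <;> fin_cases b <;> simp [mX2]
    · ext a b; fin_cases a <;> fin_cases b <;>
        simp [mX2, Cfsg.Agent.Lib.Helper14.Us3.frm_apply, hp0]
    · exact mX2_mul_self
  have cZ2 : mZ2 * S = S * mZ2 := by
    apply uf_comm hF _ M₀ mZ2 (hconj gZ2 (i2b_gZ2_mem i hi)) (hGM gZ2)
    · ext a b; fin_cases a <;> fin_cases b <;> simp [mZ2]
    · ext a b; fin_cases a <;> fin_cases b <;>
        simp [mZ2, Cfsg.Agent.Lib.Helper14.Us3.frm_apply, hp0, hneg]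
    · exact mZ2_mul_self
  have hSs : S = (S 0 0) • 1 := uf_scalar_of_comm h2 S cX1 cZ1 cX2 cZ2
  set lam : F := S 0 0 with hlam
  -- `lam ≠ 0`
  have hdetM : M₀.det ≠ 0 := by
    have : IsUnit M₀.det := (Matrix.isUnit_iff_isUnit_det M₀).mp P₀.isUnit
    exact this.ne_zero
  have hdetf : (Cfsg.Agent.Lib.Helper14.Us3.frm p M₀).det = M₀.det ^ p := by
    show (M₀.map (Cfsg.Agent.Lib.Helper5.frobQ hF)).det = M₀.det ^ p
    rw [← Cfsg.Agent.Lib.Helper5.frobQ_apply hF, RingHom.map_det]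
    rfl
  have hlam0 : lam ≠ 0 := by
    intro h0
    have h1 : S.det = 0 := by
      rw [hSs, h0, zero_smul, Matrix.det_zero]
    rw [hS, Matrix.det_mul, Matrix.det_transpose, hdetf] at h1
    rcases mul_eq_zero.mp h1 with h | h
    · exact hdetM h
    · exact hdetM (pow_eq_zero_iff hp0 |>.mp h)
  -- `lam ^ p = lam`
  have hherm : Cfsg.Agent.Lib.Helper14.Us3.frm p S = Sᵀ := by
    rw [hS, Cfsg.Agent.Lib.Helper14.Us3.frm_mul hF, Cfsg.Agent.Lib.Helper14.Us3.frm_transpose,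
      Cfsg.Agent.Lib.Helper14.Us3.frm_frm hF, Matrix.transpose_mul, Matrix.transpose_transpose]
  have hlamp : lam ^ p = lam := by
    have h1 := congrFun (congrFun hherm 0) 0
    rw [Cfsg.Agent.Lib.Helper14.Us3.frm_apply, Matrix.transpose_apply] at h1
    exact h1
  obtain ⟨mu, hmu⟩ := Cfsg.Agent.Lib.Helper44.exists_norm_eq hF lam hlam0 hlamp
  have hmu0 : mu ≠ 0 := by
    rintro rfl
    rw [zero_pow (by omega)] at hmu
    exact hlam0 hmu.symm
  have hmui : mu⁻¹ ≠ 0 := inv_ne_zero hmu0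
  refine ⟨gScal mu⁻¹ hmui * P₀, ?_, ?_⟩
  · rw [Cfsg.Agent.Lib.Helper14.Us3.mem_GU_iff hF]
    have hval : ((gScal mu⁻¹ hmui * P₀ : GL (Fin 4) F) : Matrix (Fin 4) (Fin 4) F)
        = mu⁻¹ • M₀ := by
      rw [Units.val_mul, coe_gScal, Matrix.smul_mul, Matrix.one_mul]
    rw [hval, Cfsg.Agent.Lib.Helper14.Us3.frm_smul, Matrix.transpose_smul, Matrix.smul_mul,
      Matrix.mul_smul, smul_smul]
    have hS' : M₀ᵀ * Cfsg.Agent.Lib.Helper14.Us3.frm p M₀ = lam • 1 := hSs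
    rw [hS', smul_smul]
    have : mu⁻¹ * mu⁻¹ ^ p * lam = 1 := by
      rw [← pow_succ', inv_pow, hmu]
      exact inv_mul_cancel₀ hlam0
    rw [this, one_smul]
  · rw [hP₀]
    congr 1
    ext x
    simp only [MulEquiv.toMonoidHom_eq_coe, MonoidHom.coe_coe, MulAut.conj_apply]
    have hc : gScal mu⁻¹ hmui * (P₀ * x * P₀⁻¹) = (P₀ * x * P₀⁻¹) * gScal mu⁻¹ hmui := by
      have := i2b_conj_scal mu⁻¹ hmui (P₀ * x * P₀⁻¹)
      rw [mul_inv_eq_iff_eq_mul] at this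
      exact this.symm
    have : gScal mu⁻¹ hmui * P₀ * x * (gScal mu⁻¹ hmui * P₀)⁻¹
        = gScal mu⁻¹ hmui * (P₀ * x * P₀⁻¹) * (gScal mu⁻¹ hmui)⁻¹ := by group
    rw [this, hc, mul_inv_cancel_right]

end unitary

end Cfsg.Agent.Lib.Helper14.P4
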