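import Mathlib
import Cfsg.Prelude.Def_LieClassical
import Cfsg.Agent.Lib.Helper14.P4Defs
import Cfsg.Agent.Lib.Helper14.Us3Basic
import Cfsg.Agent.Lib.Helper21.P4I3B
import Cfsg.Agent.Lib.Helper21.P4I5B

/-!
# S6001 hive (helper14): leaf P4U-R `reps_mem_GU` (helper21)
-/

set_option autoImplicit false
set_option linter.unusedSectionVars false

namespace Cfsg.Agent.Lib.Helper14.P4

open Matrix

variable {F : Type*} [Field F] [Fintype F] {p : ℕ} [Fact p.Prime] [CharP F p]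

theorem ur_two_pow (p : ℕ) [Fact p.Prime] [CharP F p] : (2 : F) ^ p = 2 := by
  have h := map_natCast (frobenius F p) 2
  rw [frobenius_def] at h
  exact_mod_cast h

theorem ur_p_odd (h2 : (2 : F) ≠ 0) : Odd p := by
  apply Nat.Prime.odd_of_ne_two Fact.out
  rintro rfl
  apply h2
  have := CharP.cast_eq_zero F 2
  exact_mod_cast this

/-- `(A/2)` is unitary when `Aᵀ A^φ = 4` -/
theorem ur_half_unitary (hF : Fintype.card F = p ^ 2) (h2 : (2 : F) ≠ 0)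
    (A : Matrix (Fin 4) (Fin 4) F)
    (h : Aᵀ * A.map (Cfsg.Agent.Lib.Helper5.frobQ hF) = (4 : F) • 1) :
    ((2 : F)⁻¹ • A)ᵀ * Cfsg.Agent.Lib.Helper14.Us3.frm p ((2 : F)⁻¹ • A) = 1 := by
  rw [Cfsg.Agent.Lib.Helper14.Us3.frm_smul, Matrix.transpose_smul, Matrix.smul_mul,
    Matrix.mul_smul, smul_smul]
  have h' : Aᵀ * Cfsg.Agent.Lib.Helper14.Us3.frm p A = (4 : F) • 1 := h
  rw [h', smul_smul, inv_pow, ur_two_pow]
  have : (2 : F)⁻¹ * (2 : F)⁻¹ * 4 = 1 := by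
    field_simp
    norm_num
  rw [this, one_smul]

theorem ur_A (hF : Fintype.card F = p ^ 2) (i : F) (hi : i * i = -1) (hip : i ^ p = -i) :
    (i3b_A i)ᵀ * (i3b_A i).map (Cfsg.Agent.Lib.Helper5.frobQ hF) = (4 : F) • 1 := by
  have hi2 : i ^ 2 = -1 := by rw [pow_two, hi]
  have hφ : Cfsg.Agent.Lib.Helper5.frobQ hF i = -i := hip
  ext a b
  fin_cases a <;> fin_cases b <;>
    simp [i3b_A, Matrix.mul_apply, Fin.sum_univ_four, hφ]
  all_goals try ring_nf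
  all_goals try simp only [hi2]
  all_goals try ring_nf

theorem ur_B (hF : Fintype.card F = p ^ 2) (i : F) (hi : i * i = -1) (hip : i ^ p = -i) :
    (i3b_B i)ᵀ * (i3b_B i).map (Cfsg.Agent.Lib.Helper5.frobQ hF) = (4 : F) • 1 := by
  have hi2 : i ^ 2 = -1 := by rw [pow_two, hi]
  have hφ : Cfsg.Agent.Lib.Helper5.frobQ hF i = -i := hip
  ext a b
  fin_cases a <;> fin_cases b <;>
    simp [i3b_B, Matrix.mul_apply, Fin.sum_univ_four, hφ]
  all_goals try ring_nf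
  all_goals try simp only [hi2]
  all_goals try ring_nf

theorem ur_A5 (hF : Fintype.card F = p ^ 2) (i : F) (hi : i * i = -1) (hip : i ^ p = -i) :
    (i5b_A i)ᵀ * (i5b_A i).map (Cfsg.Agent.Lib.Helper5.frobQ hF) = (4 : F) • 1 := by
  have hi2 : i ^ 2 = -1 := by rw [pow_two, hi]
  have hφ : Cfsg.Agent.Lib.Helper5.frobQ hF i = -i := hip
  ext a b
  fin_cases a <;> fin_cases b <;>
    simp [i5b_A, Matrix.mul_apply, Fin.sum_univ_four, hφ]
  all_goals try ring_nf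
  all_goals try simp only [hi2]
  all_goals try ring_nf

/-- P4U-R.  The representatives are unitary. -/
theorem reps_mem_GU (hF : Fintype.card F = p ^ 2) (h2 : (2 : F) ≠ 0) (i : F) (hi : i * i = -1)
    (hip : i ^ p = -i) :
    (gZ1 : GL (Fin 4) F) ∈ Cfsg.GU 4 F p ∧ (gCZ : GL (Fin 4) F) ∈ Cfsg.GU 4 F p ∧
    i3b_gYA h2 i hi ∈ Cfsg.GU 4 F p ∧ i3b_gYB h2 i hi ∈ Cfsg.GU 4 F p ∧
    i5b_gY5 h2 i hi ∈ Cfsg.GU 4 F p ∧
    (∀ (c : F) (hc : c ≠ 0), c ^ (p + 1) = 1 → gScal c hc ∈ Cfsg.GU 4 F p) := by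
  have hodd : Odd p := ur_p_odd h2
  have hneg : (-1 : F) ^ p = -1 := hodd.neg_one_pow
  have hp0 : p ≠ 0 := (Fact.out : p.Prime).ne_zero
  refine ⟨?_, ?_, ?_, ?_, ?_, ?_⟩
  · rw [Cfsg.Agent.Lib.Helper14.Us3.mem_GU_iff hF]
    show mZ1ᵀ * Cfsg.Agent.Lib.Helper14.Us3.frm p mZ1 = 1
    ext a b
    fin_cases a <;> fin_cases b <;>
      simp [mZ1, Matrix.mul_apply, Fin.sum_univ_four, Cfsg.Agent.Lib.Helper14.Us3.frm_apply,
        hneg, hp0]
  · rw [Cfsg.Agent.Lib.Helper14.Us3.mem_GU_iff hF]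
    show mCZᵀ * Cfsg.Agent.Lib.Helper14.Us3.frm p mCZ = 1
    ext a b
    fin_cases a <;> fin_cases b <;>
      simp [mCZ, Matrix.mul_apply, Fin.sum_univ_four, Cfsg.Agent.Lib.Helper14.Us3.frm_apply,
        hneg, hp0]
  · rw [Cfsg.Agent.Lib.Helper14.Us3.mem_GU_iff hF]
    show (mYA i)ᵀ * Cfsg.Agent.Lib.Helper14.Us3.frm p (mYA i) = 1
    rw [i3b_mYA]
    exact ur_half_unitary hF h2 _ (ur_A hF i hi hip)
  · rw [Cfsg.Agent.Lib.Helper14.Us3.mem_GU_iff hF]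
    show (mYB i)ᵀ * Cfsg.Agent.Lib.Helper14.Us3.frm p (mYB i) = 1
    rw [i3b_mYB]
    exact ur_half_unitary hF h2 _ (ur_B hF i hi hip)
  · rw [Cfsg.Agent.Lib.Helper14.Us3.mem_GU_iff hF]
    show (mY5 i)ᵀ * Cfsg.Agent.Lib.Helper14.Us3.frm p (mY5 i) = 1
    rw [i5b_mY5]
    exact ur_half_unitary hF h2 _ (ur_A5 hF i hi hip)
  · intro c hc hcp
    rw [Cfsg.Agent.Lib.Helper14.Us3.mem_GU_iff hF]
    show (c • (1 : Matrix (Fin 4) (Fin 4) F))ᵀ * Cfsg.Agent.Lib.Helper14.Us3.frm p (c • 1) = 1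
    rw [Cfsg.Agent.Lib.Helper14.Us3.frm_smul, Cfsg.Agent.Lib.Helper14.Us3.frm_one hF,
      Matrix.transpose_smul, Matrix.transpose_one, Matrix.smul_mul, Matrix.mul_smul, smul_smul,
      one_mul, ← pow_succ', hcp, one_smul]

end Cfsg.Agent.Lib.Helper14.P4
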