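import Mathlib
import Cfsg.Agent.Lib.Helper81.Q4Defs
import Cfsg.Agent.Lib.Helper59.Q4A1

/-! # S6002 hive (helper81), leaf Q4-A1M: the hypotheses of S6002 give `MinusLike R`
(adapted from helper14's `Lib/Helper14/P4A1.lean`). -/

set_option autoImplicit false
set_option linter.style.haveILetI false

namespace Cfsg.Agent.Lib.Helper81.Q4

open Matrix

variable {F : Type*} [Field F] [Fintype F]

/-- scalar with square one is `±1`. -/
theorem a1m_sq_one {c : F} (h : c * c = 1) : c = 1 ∨ c = -1 := by
  have : (c - 1) * (c + 1) = 0 := by linear_combination h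
  rcases mul_eq_zero.mp this with h1 | h1
  · left; linear_combination h1
  · right; linear_combination h1

theorem a1m_pow_four {M : Type*} [Monoid M] (a : M) : a ^ 4 = a * a * (a * a) := by
  rw [show (4 : ℕ) = 2 + 2 from rfl, pow_add, pow_two]

theorem a1m_smul_one_inj {c d : F}
    (h : c • (1 : Matrix I4 I4 F) = d • (1 : Matrix I4 I4 F)) : c = d := by
  have := congrFun (congrFun h (Sum.inl 0)) (Sum.inl 0)
  simpa using this

/-- Q4-A1M. -/
theorem minusLike_of_data (h2 : (2 : F) ≠ 0) (R : Subgroup (GL I4 F))
    (hRs : Cfsg.Geo.IsSymplecticTypeGroup 2 R)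
    (hRi : Cfsg.Geo.ActsAbsolutelyIrreducibly (Cfsg.Geo.matrixSet R))
    (hRf : R ≤ Cfsg.spGL 2 F) (hR5 : Nat.card R = 2 ^ 5)
    (hRZ : Nat.card (Subgroup.center R) = 2) (hRm : Cfsg.Geo.IsOfMinusType 2 R) :
    MinusLike R := by
  classical
  have hcard : Nat.card R = 32 := by rw [hR5]; norm_num
  haveI : Finite R := Nat.finite_of_card_ne_zero (by rw [hcard]; norm_num)
  -- the commutant
  have hcomm : ∀ M : Matrix I4 I4 F,
      (∀ g ∈ R, M * (g : Matrix I4 I4 F) = (g : Matrix I4 I4 F) * M) →
        ∃ c : F, M = c • (1 : Matrix I4 I4 F) := by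
    intro M hM
    apply hRi.2 M
    rintro s ⟨g, hg, rfl⟩
    exact hM g hg
  have hexp : Monoid.exponent R = 4 := by
    rw [hRs.exponent_eq]; rfl
  have hstruct := abstract_structure32 (G := R) hRs.pGroup
    hRs.cyclic_of_characteristic hexp hcard hRZ
  -- central elements are scalar
  have hcent : ∀ z : R, z ∈ Subgroup.center R →
      ∃ c : F, ((z : GL I4 F) : Matrix I4 I4 F) = c • 1 := by
    intro z hz
    apply hcomm
    intro g hg
    rw [Subgroup.mem_center_iff] at hz
    have := hz ⟨g, hg⟩
    have h2 := congrArg (fun u : R => ((u : GL I4 F) : Matrix I4 I4 F)) this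
    simp only [Subgroup.coe_mul, Units.val_mul] at h2
    exact h2.symm
  have hpow4 : ∀ g : R, g ^ 4 = 1 := by
    intro g
    have := Monoid.pow_exponent_eq_one g
    rwa [hexp] at this
  -- central elements square to one
  have hcsq : ∀ z : R, z ∈ Subgroup.center R → z * z = 1 := by
    intro z hz
    have h1 : (⟨z, hz⟩ : ↥(Subgroup.center ↥R)) ^ Nat.card ↥(Subgroup.center ↥R) = 1 :=
      pow_card_eq_one'
    rw [hRZ] at h1
    have := congrArg (fun w : ↥(Subgroup.center ↥R) => (w : ↥R)) h1
    simpa [pow_two] using this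
  -- a central scalar is `±1`
  have hcpm : ∀ z : R, z ∈ Subgroup.center R → ∀ c : F,
      ((z : GL I4 F) : Matrix I4 I4 F) = c • 1 → c = 1 ∨ c = -1 := by
    intro z hz c hc
    have h1 := congrArg (fun u : R => ((u : GL I4 F) : Matrix I4 I4 F)) (hcsq z hz)
    simp only [Subgroup.coe_mul, Units.val_mul, OneMemClass.coe_one, Units.val_one] at h1
    rw [hc, Matrix.smul_mul, Matrix.mul_smul, one_mul, smul_smul] at h1
    exact a1m_sq_one (a1m_smul_one_inj (by rw [h1, one_smul]))
  -- scalars in `R` are central
  have hscent : ∀ g : R, (∃ c : F, ((g : GL I4 F) : Matrix I4 I4 F) = c • 1) →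
      g ∈ Subgroup.center R := by
    rintro g ⟨c, hc⟩
    rw [Subgroup.mem_center_iff]
    intro h
    apply Subtype.ext
    apply Units.ext
    simp only [Subgroup.coe_mul, Units.val_mul]
    rw [hc, Matrix.smul_mul, Matrix.mul_smul, one_mul, mul_one]
  -- the element `-1`
  have hneg : ∃ g ∈ R, ((g : GL I4 F) : Matrix I4 I4 F) = -1 := by
    haveI : Nontrivial (Subgroup.center R) := by
      rw [← Finite.one_lt_card_iff_nontrivial, hRZ]; norm_num
    obtain ⟨z, hz⟩ := exists_ne (1 : Subgroup.center R)
    obtain ⟨c, hc⟩ := hcent z.1 z.2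
    refine ⟨((z : R) : GL I4 F), (z : R).2, ?_⟩
    rcases hcpm z.1 z.2 c hc with h | h
    · exfalso
      apply hz
      apply Subtype.ext
      apply Subtype.ext
      apply Units.ext
      rw [hc, h, one_smul]; rfl
    · rw [hc, h, neg_smul, one_smul]
  refine ⟨hcard, hcomm, ?_, ?_, hRf, hneg, ?_, ?_⟩
  · -- squares
    intro g hg
    obtain ⟨_, _, hsq⟩ := hstruct ⟨g, hg⟩ ⟨g, hg⟩
    obtain ⟨c, hc⟩ := hcent _ hsq
    have hc' : (g : Matrix I4 I4 F) * (g : Matrix I4 I4 F) = c • 1 := by
      rw [← hc, pow_two]; simp
    have h4 := congrArg (fun u : R => ((u : GL I4 F) : Matrix I4 I4 F))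
      (hpow4 ⟨g, hg⟩)
    have h4' : (g : Matrix I4 I4 F) * (g : Matrix I4 I4 F) *
        ((g : Matrix I4 I4 F) * (g : Matrix I4 I4 F)) = 1 := by
      have : ((⟨g, hg⟩ : R) ^ 4 : R) = ⟨g, hg⟩ * ⟨g, hg⟩ * (⟨g, hg⟩ * ⟨g, hg⟩) :=
        a1m_pow_four _
      rw [this] at h4
      simpa using h4
    rw [hc', Matrix.smul_mul, Matrix.mul_smul, one_mul, smul_smul] at h4'
    have hcc : c * c = 1 := a1m_smul_one_inj (by rw [h4', one_smul])
    rw [hc']
    rcases a1m_sq_one hcc with h | h
    · left; rw [h, one_smul]
    · right; rw [h, neg_smul, one_smul]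
  · -- commutators
    intro g hg h hh
    obtain ⟨hk, hk2, _⟩ := hstruct ⟨g, hg⟩ ⟨h, hh⟩
    obtain ⟨c, hc⟩ := hcent _ hk
    have hkk : (g * h * g⁻¹ * h⁻¹ : GL I4 F) * (g * h * g⁻¹ * h⁻¹) = 1 := by
      have := congrArg (fun u : R => (u : GL I4 F)) hk2
      simpa [pow_two] using this
    have hc1 : ((g * h * g⁻¹ * h⁻¹ : GL I4 F) : Matrix I4 I4 F) = c • 1 := by
      simpa using hc
    have hcc : c * c = 1 := by
      have := congrArg (fun u : GL I4 F => (u : Matrix I4 I4 F)) hkk
      simp only [Units.val_mul, Units.val_one] at this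
      simp only [Units.val_mul] at hc1
      rw [hc1, Matrix.smul_mul, Matrix.mul_smul, one_mul, smul_smul] at this
      exact a1m_smul_one_inj (by rw [this, one_smul])
    have hgh : (g : Matrix I4 I4 F) * (h : Matrix I4 I4 F) =
        c • ((h : Matrix I4 I4 F) * (g : Matrix I4 I4 F)) := by
      have h1 : g * h = (g * h * g⁻¹ * h⁻¹) * (h * g) := by group
      have := congrArg (fun u : GL I4 F => (u : Matrix I4 I4 F)) h1
      rw [Units.val_mul, Units.val_mul (g * h * g⁻¹ * h⁻¹), hc1, Units.val_mul, Matrix.smul_mul,
        one_mul] at this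
      exact this
    rcases a1m_sq_one hcc with h1 | h1
    · left; rw [hgh, h1, one_smul]
    · right; rw [hgh, h1, neg_smul, one_smul]
  · -- scalars
    intro g hg c hc
    exact hcpm ⟨g, hg⟩ (hscent ⟨g, hg⟩ ⟨c, hc⟩) c hc
  · -- minus type
    intro a ha b hb haa hbb hab
    by_contra hcon
    rw [not_or, not_or] at hcon
    obtain ⟨hna, hnb, hnab⟩ := hcon
    obtain ⟨z, hz, hz1⟩ := hneg
    -- group-level facts
    have haa' : a * a = 1 := Units.ext (by simpa using haa)
    have hbb' : b * b = 1 := Units.ext (by simpa using hbb)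
    have hab' : a * b = b * a := Units.ext (by simpa using hab)
    have hzz' : z * z = 1 := Units.ext (by simp [hz1])
    have hza' : z * a = a * z := Units.ext (by simp [hz1])
    have hzb' : z * b = b * z := Units.ext (by simp [hz1])
    have hs1 : IsScalar (1 : GL I4 F) := ⟨1, by simp⟩
    have hsz : IsScalar z := ⟨-1, by rw [hz1]; simp⟩
    have hz_ne : (1 : GL I4 F) ≠ z := by
      intro h
      have h3 := congrArg (fun u : GL I4 F => (u : Matrix I4 I4 F) (Sum.inl 0) (Sum.inl 0)) h
      simp only [hz1, Units.val_one, Matrix.one_apply_eq, Matrix.neg_apply] at h3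
      apply h2
      linear_combination h3
    set A : Subgroup R := Subgroup.closure ({⟨a, ha⟩, ⟨b, hb⟩, ⟨z, hz⟩} : Set R) with hA
    haveI hAc : IsMulCommutative A := by
      apply Subgroup.isMulCommutative_closure
      intro x hx y hy
      simp only [Set.mem_insert_iff, Set.mem_singleton_iff] at hx hy
      rcases hx with rfl | rfl | rfl <;> rcases hy with rfl | rfl | rfl <;>
        apply Subtype.ext <;> simp only [Subgroup.coe_mul] <;>
        (first
          | rfl | exact hab' | exact hab'.symm | exact hza' | exact hza'.symm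
          | exact hzb' | exact hzb'.symm)
    have hAsq : ∀ x ∈ A, x * x = 1 := by
      intro x hx
      induction hx using Subgroup.closure_induction with
      | mem x hx =>
        simp only [Set.mem_insert_iff, Set.mem_singleton_iff] at hx
        rcases hx with rfl | rfl | rfl <;> apply Subtype.ext <;>
          simp only [Subgroup.coe_mul, OneMemClass.coe_one] <;>
          (first | exact haa' | exact hbb' | exact hzz')
      | one => simp
      | mul x y hx hy hxx hyy =>
        have hxy : x * y = y * x := setLike_mul_comm (s := A) hx hy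
        calc x * y * (x * y) = x * (y * x) * y := by group
          _ = x * (x * y) * y := by rw [hxy]
          _ = (x * x) * (y * y) := by group
          _ = 1 := by rw [hxx, hyy, one_mul]
      | inv x hx hxx =>
        have : x⁻¹ = x := inv_eq_of_mul_eq_one_left hxx
        rw [this, hxx]
    have hlt := hRm A hAc hAsq
    have hmemA : ∀ x ∈ ({⟨a, ha⟩, ⟨b, hb⟩, ⟨z, hz⟩} : Set R), x ∈ A :=
      fun x hx => Subgroup.subset_closure hx
    have haA : (⟨a, ha⟩ : R) ∈ A := hmemA _ (by simp)
    have hbA : (⟨b, hb⟩ : R) ∈ A := hmemA _ (by simp)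
    have hzA : (⟨z, hz⟩ : R) ∈ A := hmemA _ (by simp)
    -- five different elements
    let f : Fin 5 → GL I4 F := ![1, z, a, b, a * b]
    have hfR : ∀ i, f i ∈ R := by
      intro i
      fin_cases i
      · exact R.one_mem
      · exact hz
      · exact ha
      · exact hb
      · exact R.mul_mem ha hb
    have hfA : ∀ i, (⟨f i, hfR i⟩ : R) ∈ A := by
      intro i
      fin_cases i
      · exact A.one_mem
      · exact hzA
      · exact haA
      · exact hbA
      · exact A.mul_mem haA hbA
    have hne : ∀ x y : GL I4 F, IsScalar x → ¬ IsScalar y → x ≠ y := by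
      rintro x y hx hy rfl
      exact hy hx
    have h_ab : a ≠ b := by
      rintro rfl
      apply hnab
      rw [haa']
      exact hs1
    have h_aab : a ≠ a * b := by
      intro h
      apply hnb
      have : b = 1 := by
        have h3 : a * 1 = a * b := by rw [mul_one]; exact h
        exact (mul_left_cancel h3).symm
      rw [this]
      exact hs1
    have h_bab : b ≠ a * b := by
      intro h
      apply hna
      have : a = 1 := by
        have h3 : 1 * b = a * b := by rw [one_mul]; exact h
        exact (mul_right_cancel h3).symm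
      rw [this]
      exact hs1
    have hfinj : Function.Injective f := by
      intro i j hij
      fin_cases i <;> fin_cases j <;> first
        | rfl
        | (exfalso; revert hij; simp only [f]; first
            | exact hz_ne | exact hz_ne.symm
            | exact hne _ _ hs1 hna | exact (hne _ _ hs1 hna).symm
            | exact hne _ _ hs1 hnb | exact (hne _ _ hs1 hnb).symm
            | exact hne _ _ hs1 hnab | exact (hne _ _ hs1 hnab).symm
            | exact hne _ _ hsz hna | exact (hne _ _ hsz hna).symm
            | exact hne _ _ hsz hnb | exact (hne _ _ hsz hnb).symm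
            | exact hne _ _ hsz hnab | exact (hne _ _ hsz hnab).symm
            | exact h_ab | exact h_ab.symm
            | exact h_aab | exact h_aab.symm
            | exact h_bab | exact h_bab.symm)
    have h5 : 5 ≤ Nat.card A := by
      have hinj : Function.Injective (fun i : Fin 5 => (⟨⟨f i, hfR i⟩, hfA i⟩ : A)) := by
        intro i j hij
        apply hfinj
        have := congrArg (fun w : A => ((w : R) : GL I4 F)) hij
        exact this
      have := Nat.card_le_card_of_injective _ hinj
      simpa using this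
    have hdvd : Nat.card A ∣ 32 := by
      rw [← hcard]
      exact Subgroup.card_subgroup_dvd_card A
    have hlt' : Nat.card A < 8 := by
      have : (2 : ℕ) ^ (2 + 1) = 8 := by norm_num
      rw [this] at hlt
      exact hlt
    interval_cases (Nat.card A) <;> omega

end Cfsg.Agent.Lib.Helper81.Q4
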