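import Mathlib
import Cfsg.Agent.Lib.Helper81.Q4Defs
import Cfsg.Agent.Lib.Helper14.Es3Group

/-!
# S6002 hive (helper81): leaf Q4-I5A `exists_order_five` (helper21)
-/

set_option autoImplicit false
set_option linter.unusedSectionVars false

namespace Cfsg.Agent.Lib.Helper81.Q4

open Matrix

variable {F : Type*} [Field F]

/-! ### ring identities -/

section ring
variable {A : Type*} [Ring A]

theorem i5a_sq {a b : A} (haa : a * a = 1) (hbb : b * b = 1) (hab : a * b = -(b * a)) :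
    (a * b) * (a * b) = -1 := by
  have h1 : a * b * (a * b) = a * (b * a) * b := by simp only [mul_assoc]
  have h2 : b * a = -(a * b) := by rw [hab, neg_neg]
  rw [h1, h2, mul_neg, neg_mul, ← mul_assoc, haa, one_mul, hbb]

theorem i5a_rel_i {a b : A} (haa : a * a = 1) (hbb : b * b = 1) (hab : a * b = -(b * a)) :
    (1 + a * b) * a = (-b) * (1 + a * b) := by
  have h2 : b * a = -(a * b) := by rw [hab, neg_neg]
  have e1 : a * b * a = -b := by
    rw [mul_assoc, h2, mul_neg, ← mul_assoc, haa, one_mul]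
  have e2 : b * (a * b) = -a := by
    rw [← mul_assoc, h2, neg_mul, mul_assoc, hbb, mul_one]
  rw [add_mul, one_mul, e1, mul_add, mul_one, neg_mul, e2]
  abel

theorem i5a_rel_j {a b : A} (haa : a * a = 1) (hbb : b * b = 1) (_hab : a * b = -(b * a)) :
    (1 + a * b) * b = a * (1 + a * b) := by
  rw [add_mul, one_mul, mul_assoc, hbb, mul_one, mul_add, mul_one, ← mul_assoc, haa, one_mul]
  abel

theorem i5a_rel_k {a b c : A} (hca : c * a = -(a * c)) (hcb : c * b = -(b * c)) :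
    (1 + a * b) * c = c * (1 + a * b) := by
  have e : a * b * c = c * (a * b) := by
    have hac : a * c = -(c * a) := by rw [hca, neg_neg]
    have hbc : b * c = -(c * b) := by rw [hcb, neg_neg]
    rw [mul_assoc, hbc, mul_neg, ← mul_assoc, hac, neg_mul, neg_neg, mul_assoc]
  rw [add_mul, one_mul, e, mul_add, mul_one]

theorem i5a_rel_comm {s g : A} (h : g * s = s * g) : (1 + s) * g = g * (1 + s) := by
  rw [add_mul, one_mul, mul_add, mul_one, h]

theorem i5a_rel_anti {s g : A} (hss : s * s = -1) (h : g * s = -(s * g)) :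
    (1 + s) * g = (s * g) * (1 + s) := by
  have e : s * g * s = g := by
    rw [mul_assoc, h, mul_neg, ← mul_assoc, hss, neg_mul, one_mul, neg_neg]
  rw [add_mul, one_mul, mul_add, mul_one, e]
  abel

end ring

/-! ### units -/

/-- the unit `1 + S` for `S * S = -1` -/
def i5a_unit (h2 : (2 : F) ≠ 0) (S : Matrix I4 I4 F) (hS : S * S = -1) : GL I4 F :=
  ⟨1 + S, (2 : F)⁻¹ • (1 - S), by
    have h : (1 + S) * (1 - S) = (2 : F) • (1 : Matrix I4 I4 F) := by
      simp only [add_mul, mul_sub, one_mul, mul_one, hS, two_smul]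
      abel
    rw [Matrix.mul_smul, h, smul_smul, inv_mul_cancel₀ h2, one_smul], by
    have h : (1 - S) * (1 + S) = (2 : F) • (1 : Matrix I4 I4 F) := by
      simp only [sub_mul, mul_add, one_mul, mul_one, hS, two_smul]
      abel
    rw [Matrix.smul_mul, h, smul_smul, inv_mul_cancel₀ h2, one_smul]⟩

@[simp] theorem i5a_unit_val (h2 : (2 : F) ≠ 0) (S : Matrix I4 I4 F) (hS : S * S = -1) :
    ((i5a_unit h2 S hS : GL I4 F) : Matrix I4 I4 F) = 1 + S := rfl

/-- the scalar unit `c • 1` -/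
def i5a_scal (c : F) (hc : c ≠ 0) : GL I4 F :=
  ⟨c • 1, c⁻¹ • 1, by
    rw [Matrix.smul_mul, Matrix.mul_smul, smul_smul, mul_one, mul_inv_cancel₀ hc, one_smul], by
    rw [Matrix.smul_mul, Matrix.mul_smul, smul_smul, mul_one, inv_mul_cancel₀ hc, one_smul]⟩

@[simp] theorem i5a_scal_val (c : F) (hc : c ≠ 0) :
    ((i5a_scal c hc : GL I4 F) : Matrix I4 I4 F) = c • 1 := rfl

/-- `n g = w n` on matrices gives `n g n⁻¹ = w` -/
theorem i5a_conj_eq {n g w : GL I4 F}
    (h : (n : Matrix I4 I4 F) * (g : Matrix I4 I4 F) = (w : Matrix I4 I4 F) * (n : Matrix I4 I4 F)) :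
    n * g * n⁻¹ = w := by
  have h' : n * g = w * n := Units.ext h
  rw [mul_inv_eq_iff_eq_mul, h']

theorem i5a_scal_comm (c : F) (hc : c ≠ 0) (g : GL I4 F) :
    i5a_scal c hc * g = g * i5a_scal c hc := by
  apply Units.ext
  rw [Units.val_mul, Units.val_mul, i5a_scal_val, Matrix.smul_mul, Matrix.mul_smul, Matrix.one_mul,
    Matrix.mul_one]

/-! ### similitudes of the symplectic form -/

/-- `A` multiplies the symplectic form by `c` -/
def i5a_sim (A : Matrix I4 I4 F) (c : F) : Prop :=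
  ∀ x y : I4 → F, Cfsg.sympForm 2 F (A *ᵥ x) (A *ᵥ y) = c * Cfsg.sympForm 2 F x y

theorem i5a_sim_mul {A B : Matrix I4 I4 F} {c d : F} (hA : i5a_sim A c) (hB : i5a_sim B d) :
    i5a_sim (A * B) (c * d) := by
  intro x y
  rw [← Matrix.mulVec_mulVec, ← Matrix.mulVec_mulVec, hA, hB, mul_assoc]

theorem i5a_sim_scal (k : F) : i5a_sim (k • (1 : Matrix I4 I4 F)) (k * k) := by
  intro x y
  simp only [Matrix.smul_mulVec, Matrix.one_mulVec, Cfsg.sympForm, Matrix.mulVec_smul,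
    smul_dotProduct, dotProduct_smul, smul_eq_mul]
  ring

theorem i5a_form_add_left (x x' y : I4 → F) :
    Cfsg.sympForm 2 F (x + x') y = Cfsg.sympForm 2 F x y + Cfsg.sympForm 2 F x' y := by
  simp only [Cfsg.sympForm, add_dotProduct]

theorem i5a_form_add_right (x y y' : I4 → F) :
    Cfsg.sympForm 2 F x (y + y') = Cfsg.sympForm 2 F x y + Cfsg.sympForm 2 F x y' := by
  simp only [Cfsg.sympForm, Matrix.mulVec_add, dotProduct_add]

theorem i5a_form_neg_left (x y : I4 → F) :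
    Cfsg.sympForm 2 F (-x) y = - Cfsg.sympForm 2 F x y := by
  simp only [Cfsg.sympForm, neg_dotProduct]

theorem i5a_sim_one_add {S : Matrix I4 I4 F} (hS : i5a_sim S 1) (hSS : S * S = -1) :
    i5a_sim (1 + S) 2 := by
  intro x y
  have h1 : Cfsg.sympForm 2 F (S *ᵥ x) y = - Cfsg.sympForm 2 F x (S *ᵥ y) := by
    have := hS (S *ᵥ x) y
    rw [one_mul, Matrix.mulVec_mulVec, hSS, Matrix.neg_mulVec, Matrix.one_mulVec,
      i5a_form_neg_left] at this
    rw [← this]
  have h2 : Cfsg.sympForm 2 F (S *ᵥ x) (S *ᵥ y) = Cfsg.sympForm 2 F x y := by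
    rw [hS, one_mul]
  rw [Matrix.add_mulVec, Matrix.add_mulVec, Matrix.one_mulVec, Matrix.one_mulVec,
    i5a_form_add_left, i5a_form_add_right, i5a_form_add_right, h1, h2]
  ring

/-! ### conjugation by `1 + a b` -/

theorem i5a_conj_i (h2 : (2 : F) ≠ 0) {a b z : GL I4 F}
    (haa : (a : Matrix I4 I4 F) * (a : Matrix I4 I4 F) = 1)
    (hbb : (b : Matrix I4 I4 F) * (b : Matrix I4 I4 F) = 1)
    (hab : (a : Matrix I4 I4 F) * (b : Matrix I4 I4 F)
      = -((b : Matrix I4 I4 F) * (a : Matrix I4 I4 F)))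
    (hz : (z : Matrix I4 I4 F) = -1) :
    MulAut.conj (i5a_unit h2 _ (i5a_sq haa hbb hab)) a = z * b := by
  rw [MulAut.conj_apply]
  apply i5a_conj_eq
  rw [i5a_unit_val, Units.val_mul, hz, neg_one_mul]
  exact i5a_rel_i haa hbb hab

theorem i5a_conj_j (h2 : (2 : F) ≠ 0) {a b : GL I4 F}
    (haa : (a : Matrix I4 I4 F) * (a : Matrix I4 I4 F) = 1)
    (hbb : (b : Matrix I4 I4 F) * (b : Matrix I4 I4 F) = 1)
    (hab : (a : Matrix I4 I4 F) * (b : Matrix I4 I4 F)
      = -((b : Matrix I4 I4 F) * (a : Matrix I4 I4 F))) :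
    MulAut.conj (i5a_unit h2 _ (i5a_sq haa hbb hab)) b = a := by
  rw [MulAut.conj_apply]
  apply i5a_conj_eq
  rw [i5a_unit_val]
  exact i5a_rel_j haa hbb hab

theorem i5a_conj_k (h2 : (2 : F) ≠ 0) {a b c : GL I4 F}
    (haa : (a : Matrix I4 I4 F) * (a : Matrix I4 I4 F) = 1)
    (hbb : (b : Matrix I4 I4 F) * (b : Matrix I4 I4 F) = 1)
    (hab : (a : Matrix I4 I4 F) * (b : Matrix I4 I4 F)
      = -((b : Matrix I4 I4 F) * (a : Matrix I4 I4 F)))
    (hca : (c : Matrix I4 I4 F) * (a : Matrix I4 I4 F)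
      = -((a : Matrix I4 I4 F) * (c : Matrix I4 I4 F)))
    (hcb : (c : Matrix I4 I4 F) * (b : Matrix I4 I4 F)
      = -((b : Matrix I4 I4 F) * (c : Matrix I4 I4 F))) :
    MulAut.conj (i5a_unit h2 _ (i5a_sq haa hbb hab)) c = c := by
  rw [MulAut.conj_apply]
  apply i5a_conj_eq
  rw [i5a_unit_val]
  exact i5a_rel_k hca hcb

theorem i5a_conj_z {u z : GL I4 F} (hz : (z : Matrix I4 I4 F) = -1) :
    MulAut.conj u z = z := by
  rw [MulAut.conj_apply]
  apply i5a_conj_eq
  rw [hz, mul_neg, mul_one, neg_mul, one_mul]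

theorem i5a_conj_scal (c : F) (hc : c ≠ 0) (g : GL I4 F) :
    MulAut.conj (i5a_scal c hc) g = g := by
  rw [MulAut.conj_apply, i5a_scal_comm, mul_inv_cancel_right]

theorem i5a_one_ne_neg_one (h2 : (2 : F) ≠ 0) : (1 : Matrix I4 I4 F) ≠ -1 := by
  intro h
  have := congrFun (congrFun h (Sum.inl 0)) (Sum.inl 0)
  simp at this
  apply h2
  linear_combination this

theorem i5a_ne (h2 : (2 : F) ≠ 0) {a b : Matrix I4 I4 F} (hbb : b * b = 1)
    (hab : a * b = -(b * a)) : a ≠ b ∧ a ≠ -b := by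
  constructor
  · rintro rfl
    rw [hbb] at hab
    exact i5a_one_ne_neg_one h2 hab
  · rintro rfl
    rw [neg_mul, mul_neg, hbb, neg_neg] at hab
    exact i5a_one_ne_neg_one h2 hab.symm

section leaf

variable [Fintype F]

theorem i5a_unit_mem_normalizer (h2 : (2 : F) ≠ 0) (R : Subgroup (GL I4 F)) (hR : MinusLike R)
    (s : GL I4 F) (hsR : s ∈ R)
    (hss : (s : Matrix I4 I4 F) * (s : Matrix I4 I4 F) = -1) :
    i5a_unit h2 _ hss ∈ Subgroup.normalizer (R : Set (GL I4 F)) := by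
  classical
  have : Finite (GL I4 F) := inferInstance
  apply Cfsg.Agent.Lib.Helper14.Es3.mem_normalizer_of_forall
  intro g hg
  rcases hR.anti g hg s hsR with h | h
  · have : i5a_unit h2 _ hss * g * (i5a_unit h2 _ hss)⁻¹ = g := by
      apply i5a_conj_eq
      rw [i5a_unit_val]
      exact i5a_rel_comm h
    rw [this]
    exact hg
  · have : i5a_unit h2 _ hss * g * (i5a_unit h2 _ hss)⁻¹ = s * g := by
      apply i5a_conj_eq
      rw [i5a_unit_val, Units.val_mul]
      exact i5a_rel_anti hss h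
    rw [this]
    exact R.mul_mem hsR hg

theorem i5a_scal_mem_normalizer (R : Subgroup (GL I4 F)) (c : F) (hc : c ≠ 0) :
    i5a_scal c hc ∈ Subgroup.normalizer (R : Set (GL I4 F)) := by
  classical
  have : Finite (GL I4 F) := inferInstance
  apply Cfsg.Agent.Lib.Helper14.Es3.mem_normalizer_of_forall
  intro g hg
  rw [i5a_scal_comm, mul_inv_cancel_right]
  exact hg

theorem i5a_sim_of_mem {g : GL I4 F} (hg : g ∈ Cfsg.spGL 2 F) :
    i5a_sim (g : Matrix I4 I4 F) 1 := by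
  intro x y
  rw [one_mul]
  exact hg x y

/-- Q4-I5A.  An element of order 5 in `N(R) ∩ Sp`. -/
theorem exists_order_five (h2 : (2 : F) ≠ 0) (R : Subgroup (GL I4 F)) (hR : MinusLike R)
    (e : Fin 5 → GL I4 F) (he : Frame R e) :
    ∃ y : GL I4 F, y ∈ Subgroup.normalizer (R : Set (GL I4 F)) ∧ y ∈ Cfsg.spGL 2 F ∧
      y ^ 5 = 1 ∧ y ≠ 1 := by
  classical
  have hfin : Finite (GL I4 F) := inferInstance
  obtain ⟨z, hzR, hz⟩ := hR.negone
  have sq := he.sq
  have anti := he.anti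
  have h4 : ((2 : F)⁻¹ * (2 : F)⁻¹) ≠ 0 := mul_ne_zero (inv_ne_zero h2) (inv_ne_zero h2)
  -- the four units
  have a01 := anti 0 1 (by decide)
  have a12 := anti 1 2 (by decide)
  have a23 := anti 2 3 (by decide)
  have a34 := anti 3 4 (by decide)
  set u01 := i5a_unit h2 _ (i5a_sq (sq 0) (sq 1) a01) with hu01
  set u12 := i5a_unit h2 _ (i5a_sq (sq 1) (sq 2) a12) with hu12
  set u23 := i5a_unit h2 _ (i5a_sq (sq 2) (sq 3) a23) with hu23
  set u34 := i5a_unit h2 _ (i5a_sq (sq 3) (sq 4) a34) with hu34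
  set sc := i5a_scal _ h4 with hsc
  set y0 : GL I4 F := sc * u01 * u12 * u23 * u34 with hy0
  set c : MulAut (GL I4 F) := MulAut.conj y0 with hc
  have hcdef : c = MulAut.conj sc * MulAut.conj u01 * MulAut.conj u12 * MulAut.conj u23 *
      MulAut.conj u34 := by
    rw [hc, hy0, map_mul, map_mul, map_mul, map_mul]
  -- action of the units on the frame
  have c0 : c (e 0) = z * e 1 := by
    rw [hcdef]
    simp only [MulAut.mul_apply]
    rw [hu34, i5a_conj_k h2 (sq 3) (sq 4) a34 (anti 0 3 (by decide)) (anti 0 4 (by decide)),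
      hu23, i5a_conj_k h2 (sq 2) (sq 3) a23 (anti 0 2 (by decide)) (anti 0 3 (by decide)),
      hu12, i5a_conj_k h2 (sq 1) (sq 2) a12 (anti 0 1 (by decide)) (anti 0 2 (by decide)),
      hu01, i5a_conj_i h2 (sq 0) (sq 1) a01 hz, i5a_conj_scal]
  have c1 : c (e 1) = z * e 2 := by
    rw [hcdef]
    simp only [MulAut.mul_apply]
    rw [hu34, i5a_conj_k h2 (sq 3) (sq 4) a34 (anti 1 3 (by decide)) (anti 1 4 (by decide)),
      hu23, i5a_conj_k h2 (sq 2) (sq 3) a23 (anti 1 2 (by decide)) (anti 1 3 (by decide)),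
      hu12, i5a_conj_i h2 (sq 1) (sq 2) a12 hz, map_mul, i5a_conj_z hz,
      hu01, i5a_conj_k h2 (sq 0) (sq 1) a01 (anti 2 0 (by decide)) (anti 2 1 (by decide)),
      i5a_conj_scal]
  have c2 : c (e 2) = z * e 3 := by
    rw [hcdef]
    simp only [MulAut.mul_apply]
    rw [hu34, i5a_conj_k h2 (sq 3) (sq 4) a34 (anti 2 3 (by decide)) (anti 2 4 (by decide)),
      hu23, i5a_conj_i h2 (sq 2) (sq 3) a23 hz, map_mul, i5a_conj_z hz,
      hu12, i5a_conj_k h2 (sq 1) (sq 2) a12 (anti 3 1 (by decide)) (anti 3 2 (by decide)),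
      map_mul, i5a_conj_z hz,
      hu01, i5a_conj_k h2 (sq 0) (sq 1) a01 (anti 3 0 (by decide)) (anti 3 1 (by decide)),
      i5a_conj_scal]
  have c3 : c (e 3) = z * e 4 := by
    rw [hcdef]
    simp only [MulAut.mul_apply]
    rw [hu34, i5a_conj_i h2 (sq 3) (sq 4) a34 hz, map_mul, i5a_conj_z hz,
      hu23, i5a_conj_k h2 (sq 2) (sq 3) a23 (anti 4 2 (by decide)) (anti 4 3 (by decide)),
      map_mul, i5a_conj_z hz,
      hu12, i5a_conj_k h2 (sq 1) (sq 2) a12 (anti 4 1 (by decide)) (anti 4 2 (by decide)),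
      map_mul, i5a_conj_z hz,
      hu01, i5a_conj_k h2 (sq 0) (sq 1) a01 (anti 4 0 (by decide)) (anti 4 1 (by decide)),
      i5a_conj_scal]
  have c4 : c (e 4) = e 0 := by
    rw [hcdef]
    simp only [MulAut.mul_apply]
    rw [hu34, i5a_conj_j h2 (sq 3) (sq 4) a34, hu23, i5a_conj_j h2 (sq 2) (sq 3) a23,
      hu12, i5a_conj_j h2 (sq 1) (sq 2) a12, hu01, i5a_conj_j h2 (sq 0) (sq 1) a01,
      i5a_conj_scal]
  have cz : c z = z := i5a_conj_z hz
  have zz : z * z = 1 := by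
    apply Units.ext
    rw [Units.val_mul, hz, neg_mul_neg, one_mul]
    rfl
  -- the orbit of `e 0`
  have p1 : (c ^ 1) (e 0) = z * e 1 := by rw [pow_one, c0]
  have p2 : (c ^ 2) (e 0) = e 2 := by
    rw [pow_succ', MulAut.mul_apply, p1, map_mul, cz, c1, ← mul_assoc, zz, one_mul]
  have p3 : (c ^ 3) (e 0) = z * e 3 := by
    rw [pow_succ', MulAut.mul_apply, p2, c2]
  have p4 : (c ^ 4) (e 0) = e 4 := by
    rw [pow_succ', MulAut.mul_apply, p3, map_mul, cz, c3, ← mul_assoc, zz, one_mul]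
  have p5 : (c ^ 5) (e 0) = e 0 := by
    rw [pow_succ', MulAut.mul_apply, p4, c4]
  have p5q : ∀ q : ℕ, ((c ^ 5) ^ q) (e 0) = e 0 := by
    intro q
    induction q with
    | zero => simp
    | succ q ih => rw [pow_succ', MulAut.mul_apply, ih, p5]
  -- distinctness
  have d1 : e 0 ≠ z * e 1 := by
    intro h
    have h' := congrArg Units.val h
    rw [Units.val_mul, hz, neg_one_mul] at h'
    exact (i5a_ne h2 (sq 1) a01).2 h'
  have d2 : e 0 ≠ e 2 := by
    intro h
    have h' := congrArg Units.val h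
    exact (i5a_ne h2 (sq 2) (anti 0 2 (by decide))).1 h'
  have d3 : e 0 ≠ z * e 3 := by
    intro h
    have h' := congrArg Units.val h
    rw [Units.val_mul, hz, neg_one_mul] at h'
    exact (i5a_ne h2 (sq 3) (anti 0 3 (by decide))).2 h'
  have d4 : e 0 ≠ e 4 := by
    intro h
    have h' := congrArg Units.val h
    exact (i5a_ne h2 (sq 4) (anti 0 4 (by decide))).1 h'
  -- `5 ∣ orderOf y0`
  set n := orderOf y0 with hn
  have hnpos : 0 < n := orderOf_pos y0
  have hyn : y0 ^ n = 1 := pow_orderOf_eq_one y0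
  have hcn : c ^ n = 1 := by
    rw [hc, ← map_pow, hyn, map_one]
  have hr : (c ^ (n % 5)) (e 0) = e 0 := by
    have h1 : c ^ n = c ^ (n % 5) * (c ^ 5) ^ (n / 5) := by
      rw [← pow_mul, ← pow_add, Nat.mod_add_div]
    have h2' : (c ^ n) (e 0) = e 0 := by rw [hcn]; rfl
    rw [h1, MulAut.mul_apply, p5q] at h2'
    exact h2'
  have hmod : n % 5 = 0 := by
    have hlt : n % 5 < 5 := Nat.mod_lt _ (by norm_num)
    interval_cases hk : n % 5
    · rfl
    · exact absurd (hr.symm.trans p1) d1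
    · exact absurd (hr.symm.trans p2) d2
    · exact absurd (hr.symm.trans p3) d3
    · exact absurd (hr.symm.trans p4) d4
  obtain ⟨q, hq⟩ : ∃ q, n = 5 * q := ⟨n / 5, by omega⟩
  have hqpos : 0 < q := by omega
  -- membership of `y0`
  have hsR : ∀ i j : Fin 5, e i * e j ∈ R := fun i j => R.mul_mem (he.mem i) (he.mem j)
  have hy0N : y0 ∈ Subgroup.normalizer (R : Set (GL I4 F)) := by
    rw [hy0]
    refine Subgroup.mul_mem _ (Subgroup.mul_mem _ (Subgroup.mul_mem _ (Subgroup.mul_mem _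
      (i5a_scal_mem_normalizer R _ h4) ?_) ?_) ?_) ?_
    · exact i5a_unit_mem_normalizer h2 R hR (e 0 * e 1) (hsR 0 1) _
    · exact i5a_unit_mem_normalizer h2 R hR (e 1 * e 2) (hsR 1 2) _
    · exact i5a_unit_mem_normalizer h2 R hR (e 2 * e 3) (hsR 2 3) _
    · exact i5a_unit_mem_normalizer h2 R hR (e 3 * e 4) (hsR 3 4) _
  have hsim : ∀ i j : Fin 5, i5a_sim (((e i : GL I4 F) : Matrix I4 I4 F) *
      ((e j : GL I4 F) : Matrix I4 I4 F)) 1 := by
    intro i j
    have := i5a_sim_mul (i5a_sim_of_mem (hR.symp (he.mem i))) (i5a_sim_of_mem (hR.symp (he.mem j)))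
    rwa [one_mul] at this
  have hy0S : y0 ∈ Cfsg.spGL 2 F := by
    have h1 : i5a_sim ((y0 : GL I4 F) : Matrix I4 I4 F)
        ((2 : F)⁻¹ * (2 : F)⁻¹ * ((2 : F)⁻¹ * (2 : F)⁻¹) * 2 * 2 * 2 * 2) := by
      rw [hy0]
      simp only [Units.val_mul]
      exact i5a_sim_mul (i5a_sim_mul (i5a_sim_mul (i5a_sim_mul (i5a_sim_scal _)
        (i5a_sim_one_add (hsim 0 1) (i5a_sq (sq 0) (sq 1) a01)))
        (i5a_sim_one_add (hsim 1 2) (i5a_sq (sq 1) (sq 2) a12)))
        (i5a_sim_one_add (hsim 2 3) (i5a_sq (sq 2) (sq 3) a23)))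
        (i5a_sim_one_add (hsim 3 4) (i5a_sq (sq 3) (sq 4) a34))
    have h2' : (2 : F)⁻¹ * (2 : F)⁻¹ * ((2 : F)⁻¹ * (2 : F)⁻¹) * 2 * 2 * 2 * 2 = 1 := by
      field_simp
    rw [h2'] at h1
    intro x y
    have := h1 x y
    rw [one_mul] at this
    exact this
  refine ⟨y0 ^ q, Subgroup.pow_mem _ hy0N q, Subgroup.pow_mem _ hy0S q, ?_, ?_⟩
  · rw [← pow_mul, mul_comm, ← hq, hyn]
  · intro h1
    have hdvd : n ∣ q := orderOf_dvd_of_pow_eq_one h1
    have := Nat.le_of_dvd hqpos hdvd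
    omega

end leaf

end Cfsg.Agent.Lib.Helper81.Q4
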