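import Mathlib
import Cfsg.Agent.Lib.Helper81.Q4Defs
import Cfsg.Agent.Lib.Helper10.P4I5A

/-! # S6002 hive (helper81), leaf Q4-I5C: commuting elements of order 5 of `GL_4(F)` generate a
cyclic group when `Φ₅` is irreducible over `F`. -/

set_option autoImplicit false
set_option linter.style.haveILetI false
set_option linter.unusedSectionVars false

namespace Cfsg.Agent.Lib.Helper81.Q4

open Matrix Polynomial

section
variable {F : Type*} [Field F]

theorem i5c_aeval_commute {V : Type*} [AddCommGroup V] [Module F V] (f : Module.End F V)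
    (p : F[X]) : aeval f p * f = f * aeval f p := by
  have h1 : aeval f (p * X) = aeval f (X * p) := by rw [mul_comm]
  rw [map_mul, map_mul, aeval_X] at h1
  exact h1

theorem i5c_commute_pow_apply {V : Type*} [AddCommGroup V] [Module F V] (P f : Module.End F V)
    (hPf : P * f = f * P) (n : ℕ) (v : V) : P ((f ^ n) v) = (f ^ n) (P v) := by
  have h1 : P * f ^ n = f ^ n * P := (Commute.pow_right (show Commute P f from hPf) n).eq
  have h2 := LinearMap.congr_fun h1 v
  simpa [Module.End.mul_apply] using h2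

/-- the abstract statement. -/
theorem i5c_core {V : Type*} [AddCommGroup V] [Module F V] [FiniteDimensional F V]
    (hV : Module.finrank F V = 4)
    (hirr : Irreducible (cyclotomic 5 F)) (f g : Module.End F V) (hf : f ^ 5 = 1) (hf1 : f ≠ 1)
    (hg : g ^ 5 = 1) (hfg : f * g = g * f) : ∃ k : ℕ, g = f ^ k := by
  haveI : Fact (Nat.Prime 5) := ⟨by norm_num⟩
  obtain ⟨v, hv0, hv⟩ := Cfsg.Agent.Lib.Helper14.P4.i5a_exists_vec f hf hf1
  have hli := Cfsg.Agent.Lib.Helper44.Sfr.linearIndependent_pow_apply f _ hirr v hv0 hv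
  have hnd : (cyclotomic 5 F).natDegree = 4 := by rw [natDegree_cyclotomic]; decide
  -- span
  have hspan : Submodule.span F
      (Set.range (fun i : Fin (cyclotomic 5 F).natDegree => (f ^ (i : ℕ)) v)) = ⊤ := by
    apply hli.span_eq_top_of_card_eq_finrank'
    rw [Fintype.card_fin, hnd, hV]
  -- uniqueness
  have huniq : ∀ P Q : Module.End F V, P * f = f * P → Q * f = f * Q → P v = Q v → P = Q := by
    intro P Q hP hQ hPQ
    apply LinearMap.ext_on hspan
    rintro _ ⟨i, rfl⟩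
    show P ((f ^ (i : ℕ)) v) = Q ((f ^ (i : ℕ)) v)
    rw [i5c_commute_pow_apply P f hP, i5c_commute_pow_apply Q f hQ, hPQ]
  -- Φ(f) = 0
  have hΦ : aeval f (cyclotomic 5 F) = 0 := by
    apply huniq _ _ (i5c_aeval_commute f _) (by simp)
    rw [hv]; simp
  -- divisibility
  have hdvd : ∀ P : F[X], aeval f P = 0 → cyclotomic 5 F ∣ P := by
    intro P hP
    by_contra hnd'
    obtain ⟨u, w, huw⟩ := (hirr.coprime_iff_not_dvd).2 hnd'
    have h1 : aeval f (u * cyclotomic 5 F + w * P) v = v := by rw [huw]; simp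
    rw [map_add, map_mul, map_mul, hΦ, hP, mul_zero, mul_zero, add_zero] at h1
    exact hv0 (by simpa using h1.symm)
  have hdvd' : ∀ P : F[X], cyclotomic 5 F ∣ P → aeval f P = 0 := by
    rintro P ⟨Q, rfl⟩
    rw [map_mul, hΦ, zero_mul]
  -- coefficients
  have hgv : g v ∈ Submodule.span F
      (Set.range (fun i : Fin (cyclotomic 5 F).natDegree => (f ^ (i : ℕ)) v)) := by
    rw [hspan]; exact Submodule.mem_top
  obtain ⟨c, hc⟩ := (Submodule.mem_span_range_iff_exists_fun F).1 hgv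
  set cp : F[X] := ∑ i : Fin (cyclotomic 5 F).natDegree, C (c i) * X ^ (i : ℕ) with hcp
  have hcpv : aeval f cp v = g v := by
    rw [hcp, map_sum, LinearMap.sum_apply, ← hc]
    refine Finset.sum_congr rfl fun i _ => ?_
    rw [map_mul, aeval_C, map_pow, aeval_X, Module.End.mul_apply, Module.algebraMap_end_apply]
  have hgcp : g = aeval f cp := huniq _ _ hfg.symm (i5c_aeval_commute f cp) hcpv.symm
  -- the field
  haveI : Fact (Irreducible (cyclotomic 5 F)) := ⟨hirr⟩
  have hζ5 : (AdjoinRoot.root (cyclotomic 5 F)) ^ 5 = 1 := by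
    have h1 : cyclotomic 5 F ∣ X ^ 5 - 1 := ⟨X - 1, (cyclotomic_prime_mul_X_sub_one F 5).symm⟩
    have h2 := AdjoinRoot.mk_eq_zero.2 h1
    rw [map_sub, map_pow, AdjoinRoot.mk_X, map_one, sub_eq_zero] at h2
    exact h2
  have hζ1 : (AdjoinRoot.root (cyclotomic 5 F)) ≠ 1 := by
    intro h
    have h1 : AdjoinRoot.mk (cyclotomic 5 F) (X - C 1) = 0 := by
      rw [map_sub, AdjoinRoot.mk_X, AdjoinRoot.mk_C, map_one, sub_eq_zero]; exact h
    have h2 := AdjoinRoot.mk_eq_zero.1 h1
    have h3 : (X - C (1 : F)).degree < (cyclotomic 5 F).degree := by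
      rw [degree_X_sub_C, degree_eq_natDegree hirr.ne_zero, hnd]
      norm_num
    exact X_sub_C_ne_zero 1 (Polynomial.eq_zero_of_dvd_of_degree_lt h2 h3)
  have hord : orderOf (AdjoinRoot.root (cyclotomic 5 F)) = 5 := orderOf_eq_prime hζ5 hζ1
  have hprim : IsPrimitiveRoot (AdjoinRoot.root (cyclotomic 5 F)) 5 := by
    have h0 := IsPrimitiveRoot.orderOf (AdjoinRoot.root (cyclotomic 5 F))
    rw [hord] at h0
    exact h0
  have hγ : (AdjoinRoot.mk (cyclotomic 5 F) cp) ^ 5 = 1 := by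
    have h1 : cyclotomic 5 F ∣ cp ^ 5 - 1 := by
      apply hdvd
      rw [map_sub, map_pow, ← hgcp, hg, map_one, sub_self]
    have h2 := AdjoinRoot.mk_eq_zero.2 h1
    rw [map_sub, map_pow, map_one, sub_eq_zero] at h2
    exact h2
  obtain ⟨k, _, hk⟩ := hprim.eq_pow_of_pow_eq_one hγ
  refine ⟨k, ?_⟩
  have h1 : AdjoinRoot.mk (cyclotomic 5 F) (cp - X ^ k) = 0 := by
    rw [map_sub, map_pow, AdjoinRoot.mk_X, sub_eq_zero]; exact hk.symm
  have h2 := hdvd' _ (AdjoinRoot.mk_eq_zero.1 h1)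
  rw [map_sub, map_pow, aeval_X, sub_eq_zero] at h2
  rw [hgcp, h2]

end

variable {F : Type*} [Field F] [Fintype F]

/-- Q4-I5C. -/
theorem mem_zpowers_of_commute (hirr : Irreducible (Polynomial.cyclotomic 5 F))
    (a b : GL I4 F) (ha : a ^ 5 = 1) (ha1 : a ≠ 1) (hb : b ^ 5 = 1) (hab : a * b = b * a) :
    b ∈ Subgroup.zpowers a := by
  have hpow : ∀ (z : GL I4 F) (n : ℕ), (Matrix.toLin' (z : Matrix I4 I4 F)) ^ n =
      Matrix.toLin' ((z ^ n : GL I4 F) : Matrix I4 I4 F) := by
    intro z n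
    rw [Units.val_pow_eq_pow_val]
    exact (map_pow (Matrix.toLinAlgEquiv' : Matrix I4 I4 F ≃ₐ[F] _) _ n).symm
  have hone : Matrix.toLin' ((1 : GL I4 F) : Matrix I4 I4 F) = 1 := by
    rw [Units.val_one, Matrix.toLin'_one]; rfl
  have hV : Module.finrank F (I4 → F) = 4 := by
    rw [Module.finrank_fintype_fun_eq_card]; simp
  have hf5 : (Matrix.toLin' (a : Matrix I4 I4 F)) ^ 5 = 1 := by rw [hpow, ha, hone]
  have hg5 : (Matrix.toLin' (b : Matrix I4 I4 F)) ^ 5 = 1 := by rw [hpow, hb, hone]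
  have hf1 : Matrix.toLin' (a : Matrix I4 I4 F) ≠ 1 := by
    intro h
    apply ha1
    apply Units.ext
    rw [← hone] at h
    exact Matrix.toLin'.injective h
  have hfg : Matrix.toLin' (a : Matrix I4 I4 F) * Matrix.toLin' (b : Matrix I4 I4 F) =
      Matrix.toLin' (b : Matrix I4 I4 F) * Matrix.toLin' (a : Matrix I4 I4 F) := by
    rw [Module.End.mul_eq_comp, Module.End.mul_eq_comp, ← Matrix.toLin'_mul, ← Matrix.toLin'_mul,
      ← Units.val_mul, ← Units.val_mul, hab]
  obtain ⟨k, hk⟩ := i5c_core hV hirr _ _ hf5 hf1 hg5 hfg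
  rw [hpow] at hk
  have hbk : b = a ^ k := Units.ext (Matrix.toLin'.injective hk)
  rw [hbk]
  exact Subgroup.npow_mem_zpowers a k

end Cfsg.Agent.Lib.Helper81.Q4
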