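import Mathlib
import Cfsg.Agent.Lib.Helper21.S11Defs
import Cfsg.Agent.Lib.Helper80.S11EX
import Cfsg.Agent.Lib.Helper24.S11CONJ
import Cfsg.Agent.Lib.Helper11.S11CARD
import Cfsg.Agent.Lib.Helper68.S11CYC
import Cfsg.Agent.Lib.Helper9.S11PCOMM
import Cfsg.Agent.Lib.Helper8.S11CHAIN
import Cfsg.Agent.Lib.Helper27.S11FRAT
import Cfsg.Agent.Lib.Helper34.S11SZ
import Cfsg.Agent.Lib.Helper78.S11AB
import Cfsg.Agent.Lib.Helper65.S11SYLQ
import Cfsg.Agent.Lib.Helper69.S11INJ

/-!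
# S3911: assembly of the S11 hive

Abelian subgroups of equal order conjugate in `G`, `M` normal of odd order: the same holds in `G ⧸ M`.
-/

set_option autoImplicit false

namespace Cfsg.Agent.Lib.Helper21.S11

variable {G : Type*} [Group G] [Finite G]

/-- ASSEMBLY 1 (helper21): the abelian lift with its order. -/
theorem exists_lift
    (hB : ∀ A B : Subgroup G, IsMulCommutative ↥A → IsMulCommutative ↥B → Nat.card ↥A = Nat.card ↥B →
      ∃ g : G, B = A.map (MulAut.conj g).toMonoidHom)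
    (M : Subgroup G) [M.Normal] (hM : Odd (Nat.card ↥M)) (Ab : Subgroup (G ⧸ M)) (hAb : IsMulCommutative ↥Ab) :
    ∃ X : Subgroup G, IsMulCommutative ↥X ∧ X.map (QuotientGroup.mk' M) = Ab ∧
      ∀ q : ℕ, q.Prime → (Nat.card ↥X).factorization q =
        if q ∣ Nat.card ↥Ab then (Nat.card ↥Ab).factorization q + (Nat.card ↥M).factorization q else 0 := by
  obtain ⟨X, hX⟩ := exists_isMinSupp M Ab
  have hmap : X.map (QuotientGroup.mk' M) = Ab := hX.1
  have hnorm : ∀ (q : ℕ) [Fact q.Prime] (Q : Sylow q ↥X), (Q : Subgroup ↥X).Normal :=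
    fun q _ Q => sylow_normal_of_isMinSupp M Ab hAb X hX q Q
  have hAb' : IsMulCommutative ↥(X.map (QuotientGroup.mk' M)) := by rw [hmap]; exact hAb
  have hidx : Nat.card ↥Ab ∣ M.index := by
    rw [Subgroup.index_eq_card]; exact Subgroup.card_subgroup_dvd_card Ab
  have hcyc : ∀ (q : ℕ) [Fact q.Prime], q ∣ Nat.card ↥Ab → q ∣ Nat.card ↥M →
      ∀ P : Sylow q G, IsCyclic ↥(P : Subgroup G) :=
    fun q _ h1 h2 P => sylow_cyclic hB M hM q h2 (h1.trans hidx) P
  have hcomm : ∀ (q : ℕ) [Fact q.Prime] (Q : Sylow q ↥X), ∀ a ∈ (Q : Subgroup ↥X),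
      ∀ b ∈ (Q : Subgroup ↥X), a * b = b * a := by
    intro q _ Q a ha b hb
    by_cases hqA : q ∣ Nat.card ↥Ab
    · have hQG : IsPGroup q ↥((Q : Subgroup ↥X).map X.subtype) := Q.2.map _
      have hQX : (Q : Subgroup ↥X).map X.subtype ≤ X := by
        rintro _ ⟨x, _, rfl⟩; exact x.2
      have haG : (a : G) ∈ (Q : Subgroup ↥X).map X.subtype := ⟨a, ha, rfl⟩
      have hbG : (b : G) ∈ (Q : Subgroup ↥X).map X.subtype := ⟨b, hb, rfl⟩
      by_cases hqM : q ∣ Nat.card ↥M
      · have := comm_of_sylow_cyclic q (hcyc q hqA hqM) _ hQG (a : G) haG (b : G) hbG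
        exact Subtype.ext this
      · have := comm_of_not_dvd M X hAb' q hqM _ hQX hQG (a : G) haG (b : G) hbG
        exact Subtype.ext this
    · have hnd := not_dvd_card_of_isMinSupp M Ab X hX hnorm q hqA
      have hQ1 : Nat.card ↥(Q : Subgroup ↥X) = 1 := by
        rw [Sylow.card_eq_multiplicity, Nat.factorization_eq_zero_of_not_dvd hnd, pow_zero]
      have hbot : (Q : Subgroup ↥X) = ⊥ := Subgroup.card_eq_one.mp hQ1
      rw [hbot, Subgroup.mem_bot] at ha hb
      rw [ha, hb]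
  have hXcomm : ∀ a b : ↥X, a * b = b * a := comm_of_sylow hnorm hcomm
  refine ⟨X, ⟨⟨hXcomm⟩⟩, hmap, ?_⟩
  intro q hq
  have : Fact q.Prime := ⟨hq⟩
  have hcard := card_eq_card_map_mul M X
  rw [hmap] at hcard
  by_cases hqA : q ∣ Nat.card ↥Ab
  · rw [if_pos hqA, hcard, Nat.factorization_mul (Nat.card_pos.ne') (Nat.card_pos.ne')]
    simp only [Finsupp.add_apply]
    congr 1
    apply le_antisymm
    · have hdvd : Nat.card ↥(X ⊓ M : Subgroup G) ∣ Nat.card ↥M := Subgroup.card_dvd_of_le inf_le_right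
      exact (Nat.factorization_le_iff_dvd (Nat.card_pos.ne') (Nat.card_pos.ne')).mpr hdvd q
    · by_cases hqM : q ∣ Nat.card ↥M
      · obtain ⟨Q⟩ : Nonempty (Sylow q ↥X) := inferInstance
        have hQG : IsPGroup q ↥((Q : Subgroup ↥X).map X.subtype) := Q.2.map _
        have hnot := sylow_not_le M X q (by rw [hmap]; exact hqA) Q
        have hc := card_inf_of_not_le M q (hcyc q hqA hqM) _ hQG hnot
        have hle : (Q : Subgroup ↥X).map X.subtype ⊓ M ≤ X ⊓ M :=
          inf_le_inf_right M (by rintro _ ⟨x, _, rfl⟩; exact x.2)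
        have hdvd : q ^ (Nat.card ↥M).factorization q ∣ Nat.card ↥(X ⊓ M : Subgroup G) := by
          rw [← hc]; exact Subgroup.card_dvd_of_le hle
        exact (hq.pow_dvd_iff_le_factorization (Nat.card_pos.ne')).mp hdvd
      · rw [Nat.factorization_eq_zero_of_not_dvd hqM]; exact Nat.zero_le _
  · rw [if_neg hqA]
    exact Nat.factorization_eq_zero_of_not_dvd (not_dvd_card_of_isMinSupp M Ab X hX hnorm q hqA)

/-- ASSEMBLY 2 (helper21). -/
theorem main {G : Type*} [Group G] [Finite G] (hB : ∀ A B : Subgroup G, IsMulCommutative ↥A → IsMulCommutative ↥B → Nat.card ↥A = Nat.card ↥B → ∃ g : G, B = A.map (MulAut.conj g).toMonoidHom) (M : Subgroup G) [M.Normal] (hM : Odd (Nat.card ↥M)) :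
    ∀ A B : Subgroup (G ⧸ M), IsMulCommutative ↥A → IsMulCommutative ↥B → Nat.card ↥A = Nat.card ↥B →
      ∃ g : G ⧸ M, B = A.map (MulAut.conj g).toMonoidHom := by
  intro A B hA hB' hcard
  obtain ⟨XA, hXAc, hXAm, hXAf⟩ := exists_lift hB M hM A hA
  obtain ⟨XB, hXBc, hXBm, hXBf⟩ := exists_lift hB M hM B hB'
  have hc : Nat.card ↥XA = Nat.card ↥XB := by
    apply Nat.eq_of_factorization_eq (Nat.card_pos.ne') (Nat.card_pos.ne')
    intro q
    by_cases hq : q.Prime
    · rw [hXAf q hq, hXBf q hq, hcard]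
    · rw [Nat.factorization_eq_zero_of_not_prime _ hq, Nat.factorization_eq_zero_of_not_prime _ hq]
  obtain ⟨g, hg⟩ := hB XA XB hXAc hXBc hc
  refine ⟨QuotientGroup.mk' M g, ?_⟩
  rw [← hXBm, hg, map_conj_mk, hXAm]

end Cfsg.Agent.Lib.Helper21.S11
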