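import Cfsg.Agent.Lib.Helper65.SF.Defs

/-! # SF-DL (S2459 hive): a lower triangular 3×3 matrix with distinct diagonal is conjugate to its
diagonal -/

set_option autoImplicit false

namespace Cfsg.Agent.Lib.Helper65.SF

open Matrix

variable {K : Type*} [Field K]

/-- auxiliary: if `L * Qm = Qm * D` and `Qm` is the value of a unit `Q`, then `L = Q D Q⁻¹`. -/
lemma dl_conj_of_comm {n : Type*} [Fintype n] [DecidableEq n] (L D : Matrix n n K) (Q : GL n K)
    (h : L * Q.val = Q.val * D) : L = Q.val * D * (Q⁻¹ : GL n K).val := by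
  have h1 : Q.val * (Q⁻¹ : GL n K).val = 1 := by
    rw [← Units.val_mul, mul_inv_cancel, Units.val_one]
  calc L = L * (Q.val * (Q⁻¹ : GL n K).val) := by rw [h1, mul_one]
    _ = (L * Q.val) * (Q⁻¹ : GL n K).val := by rw [Matrix.mul_assoc]
    _ = Q.val * D * (Q⁻¹ : GL n K).val := by rw [h]

/-- (SF-DL) a lower triangular 3×3 matrix with pairwise distinct diagonal entries is conjugate to its diagonal.
Explicit `Q` lower unitriangular: columns = eigenvectors `(1,x,y)`, `(0,1,z)`, `(0,0,1)` with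
`x = L 1 0 / (β 0 - β 1)`, `z = L 2 1 / (β 1 - β 2)`, `y = (L 2 0 + L 2 1 * x) / (β 0 - β 2)`. -/
theorem lower_conj_diagonal (L : Matrix (Fin 3) (Fin 3) K) (β : Fin 3 → K) (hL : IsLowerDiag L β)
    (hinj : Function.Injective β) :
    ∃ Q : GL (Fin 3) K, L = Q.val * Matrix.diagonal β * (Q⁻¹ : GL (Fin 3) K).val := by
  obtain ⟨hz, hd⟩ := hL
  have h01 : β 0 - β 1 ≠ 0 := by
    intro h
    have := hinj (sub_eq_zero.mp h)
    exact absurd this (by decide)
  have h02 : β 0 - β 2 ≠ 0 := by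
    intro h
    have := hinj (sub_eq_zero.mp h)
    exact absurd this (by decide)
  have h12 : β 1 - β 2 ≠ 0 := by
    intro h
    have := hinj (sub_eq_zero.mp h)
    exact absurd this (by decide)
  have e01 : L 0 1 = 0 := hz 0 1 (by decide)
  have e02 : L 0 2 = 0 := hz 0 2 (by decide)
  have e12 : L 1 2 = 0 := hz 1 2 (by decide)
  have d0 : L 0 0 = β 0 := hd 0
  have d1 : L 1 1 = β 1 := hd 1
  have d2 : L 2 2 = β 2 := hd 2
  set x : K := L 1 0 / (β 0 - β 1) with hx
  set z : K := L 2 1 / (β 1 - β 2) with hzz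
  set y : K := (L 2 0 + L 2 1 * x) / (β 0 - β 2) with hy
  let Qm : Matrix (Fin 3) (Fin 3) K := !![1, 0, 0; x, 1, 0; y, z, 1]
  have hdet : Qm.det = 1 := by
    simp [Qm, Matrix.det_fin_three]
  let Q : GL (Fin 3) K := Matrix.GeneralLinearGroup.mkOfDetNeZero Qm (by rw [hdet]; exact one_ne_zero)
  have hQ : Q.val = Qm := rfl
  refine ⟨Q, dl_conj_of_comm L _ Q ?_⟩
  rw [hQ]
  ext i j
  fin_cases i <;> fin_cases j <;>
    simp [Qm, Matrix.mul_apply, Fin.sum_univ_three, Matrix.diagonal_apply, e01, e02, e12, d0, d1, d2]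
  · -- (1,0): L 1 0 + β 1 * x = x * β 0
    rw [hx]; field_simp; ring
  · -- (2,0)
    rw [hy, hx]; field_simp; ring
  · -- (2,1)
    rw [hzz]; field_simp; ring

end Cfsg.Agent.Lib.Helper65.SF
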