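import Cfsg.Agent.Lib.Helper21.SFDL

/-! # SF-DU (S2459 hive): an upper triangular 3×3 matrix with distinct diagonal is conjugate to its
diagonal -/

set_option autoImplicit false

namespace Cfsg.Agent.Lib.Helper65.SF

open Matrix

variable {K : Type*} [Field K]

/-- (SF-DU) same for upper triangular (transpose SF-DL, or explicit). -/
theorem upper_conj_diagonal (U : Matrix (Fin 3) (Fin 3) K) (γ : Fin 3 → K) (hU : IsUpperDiag U γ)
    (hinj : Function.Injective γ) :
    ∃ Q : GL (Fin 3) K, U = Q.val * Matrix.diagonal γ * (Q⁻¹ : GL (Fin 3) K).val := by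
  obtain ⟨hz, hd⟩ := hU
  have h10 : γ 1 - γ 0 ≠ 0 := by
    intro h
    have := hinj (sub_eq_zero.mp h)
    exact absurd this (by decide)
  have h20 : γ 2 - γ 0 ≠ 0 := by
    intro h
    have := hinj (sub_eq_zero.mp h)
    exact absurd this (by decide)
  have h21 : γ 2 - γ 1 ≠ 0 := by
    intro h
    have := hinj (sub_eq_zero.mp h)
    exact absurd this (by decide)
  have e10 : U 1 0 = 0 := hz 1 0 (by decide)
  have e20 : U 2 0 = 0 := hz 2 0 (by decide)
  have e21 : U 2 1 = 0 := hz 2 1 (by decide)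
  have d0 : U 0 0 = γ 0 := hd 0
  have d1 : U 1 1 = γ 1 := hd 1
  have d2 : U 2 2 = γ 2 := hd 2
  set x : K := U 0 1 / (γ 1 - γ 0) with hx
  set z : K := U 1 2 / (γ 2 - γ 1) with hzz
  set y : K := (U 0 1 * z + U 0 2) / (γ 2 - γ 0) with hy
  let Qm : Matrix (Fin 3) (Fin 3) K := !![1, x, y; 0, 1, z; 0, 0, 1]
  have hdet : Qm.det = 1 := by
    simp [Qm, Matrix.det_fin_three]
  let Q : GL (Fin 3) K := Matrix.GeneralLinearGroup.mkOfDetNeZero Qm (by rw [hdet]; exact one_ne_zero)
  have hQ : Q.val = Qm := rfl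
  refine ⟨Q, dl_conj_of_comm U _ Q ?_⟩
  rw [hQ]
  ext i j
  fin_cases i <;> fin_cases j <;>
    simp [Qm, Matrix.mul_apply, Fin.sum_univ_three, Matrix.diagonal_apply, e10, e20, e21, d0, d1, d2]
  · -- (0,1)
    rw [hx]; field_simp; ring
  · -- (0,2)
    rw [hy, hzz]; field_simp; ring
  · -- (1,2)
    rw [hzz]; field_simp; ring

end Cfsg.Agent.Lib.Helper65.SF
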