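import Cfsg.Agent.Lib.Helper65.SF.Defs

/-! # SF-SL (S2459 hive): a `GL`-conjugate of a diagonal matrix is an `SL`-conjugate -/

set_option autoImplicit false

namespace Cfsg.Agent.Lib.Helper65.SF

open Matrix

variable {K : Type*} [Field K]

/-- (SF-SL) a `GL`-conjugate of a diagonal matrix is an `SL`-conjugate: multiply `X` on the right by
`diagonal ![(det X)⁻¹, 1, 1]`, which commutes with `diagonal d`. -/
theorem exists_sl_conj (X : GL (Fin 3) K) (d : Fin 3 → K) :
    ∃ u : Matrix.SpecialLinearGroup (Fin 3) K,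
      X.val * Matrix.diagonal d * (X⁻¹ : GL (Fin 3) K).val =
        u.val * Matrix.diagonal d * (u⁻¹ : Matrix.SpecialLinearGroup (Fin 3) K).val := by
  set δ : K := X.val.det with hδ
  have hδ0 : δ ≠ 0 := by
    have h1 : X.val * (X⁻¹ : GL (Fin 3) K).val = 1 := by
      rw [← Units.val_mul, mul_inv_cancel, Units.val_one]
    intro h0
    have h2 := congrArg Matrix.det h1
    rw [Matrix.det_mul, ← hδ, h0, zero_mul, Matrix.det_one] at h2
    exact zero_ne_one h2
  set E : Matrix (Fin 3) (Fin 3) K := Matrix.diagonal ![δ⁻¹, 1, 1] with hE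
  set E' : Matrix (Fin 3) (Fin 3) K := Matrix.diagonal ![δ, 1, 1] with hE'
  have hEE' : E * E' = 1 := by
    rw [hE, hE', Matrix.diagonal_mul_diagonal, ← Matrix.diagonal_one]
    congr 1
    funext i
    fin_cases i <;> simp [hδ0]
  have hEdet : E.det = δ⁻¹ := by
    rw [hE, Matrix.det_diagonal, Fin.prod_univ_three]
    simp
  have hED : E * Matrix.diagonal d = Matrix.diagonal d * E := by
    rw [hE, Matrix.diagonal_mul_diagonal, Matrix.diagonal_mul_diagonal]
    congr 1
    funext i
    exact mul_comm _ _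
  have hudet : (X.val * E).det = 1 := by
    rw [Matrix.det_mul, hEdet, ← hδ, mul_inv_cancel₀ hδ0]
  let u : Matrix.SpecialLinearGroup (Fin 3) K := ⟨X.val * E, hudet⟩
  have huv : u.val = X.val * E := rfl
  have hXX : X.val * (X⁻¹ : GL (Fin 3) K).val = 1 := by
    rw [← Units.val_mul, mul_inv_cancel, Units.val_one]
  have hinv1 : u.val * (E' * (X⁻¹ : GL (Fin 3) K).val) = 1 := by
    rw [huv, Matrix.mul_assoc, ← Matrix.mul_assoc E, hEE', Matrix.one_mul, hXX]
  have hinv2 : (u⁻¹ : Matrix.SpecialLinearGroup (Fin 3) K).val * u.val = 1 := by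
    rw [← Matrix.SpecialLinearGroup.coe_mul, inv_mul_cancel, Matrix.SpecialLinearGroup.coe_one]
  have hinv : (u⁻¹ : Matrix.SpecialLinearGroup (Fin 3) K).val = E' * (X⁻¹ : GL (Fin 3) K).val :=
    left_inv_eq_right_inv hinv2 hinv1
  refine ⟨u, ?_⟩
  rw [hinv, huv]
  calc X.val * Matrix.diagonal d * (X⁻¹ : GL (Fin 3) K).val
      = X.val * (Matrix.diagonal d * (E * E')) * (X⁻¹ : GL (Fin 3) K).val := by
        rw [hEE', Matrix.mul_one]
    _ = X.val * ((E * Matrix.diagonal d) * E') * (X⁻¹ : GL (Fin 3) K).val := by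
        rw [hED, Matrix.mul_assoc (Matrix.diagonal d)]
    _ = X.val * E * Matrix.diagonal d * (E' * (X⁻¹ : GL (Fin 3) K).val) := by
        simp only [Matrix.mul_assoc]

end Cfsg.Agent.Lib.Helper65.SF
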