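import Mathlib
import Cfsg.Prelude.Def_GeometricClasses
import Cfsg.Agent.Lib.Helper31.SpTns.Defs

/-! # S5980 hive (helper31), leaf SPT-E2: `P (A ⊗ B) P⁻¹` is symplectic when `A`, `B` are isometries
of `f₁`, `f₂`. -/

set_option autoImplicit false
open scoped MatrixGroups Kronecker
open Matrix

namespace Cfsg.Agent.Lib.Helper31.SpTns

universe v

variable {F : Type v} [Field F]

theorem e2_formOfGram_eq {κ : Type} [Fintype κ] (G : Matrix κ κ F) (x y : κ → F) :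
    Cfsg.Geo.formOfGram id G x y = x ⬝ᵥ (G *ᵥ y) := by
  unfold Cfsg.Geo.formOfGram
  simp only [dotProduct, Matrix.mulVec, id, Finset.mul_sum, mul_assoc]

theorem e2_formOfGram_mulVec {κ : Type} [Fintype κ] (G M : Matrix κ κ F)
    (hM : Mᵀ * G * M = G) (x y : κ → F) :
    Cfsg.Geo.formOfGram id G (M *ᵥ x) (M *ᵥ y) = Cfsg.Geo.formOfGram id G x y := by
  rw [e2_formOfGram_eq, e2_formOfGram_eq]
  conv_rhs => rw [← hM]
  rw [← Matrix.mulVec_mulVec, ← Matrix.mulVec_mulVec, Matrix.dotProduct_mulVec x Mᵀ,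
    Matrix.vecMul_transpose]

theorem e2_mem_spGL_iff {d : ℕ} (g : GL (Fin d ⊕ Fin d) F) :
    g ∈ Cfsg.spGL d F ↔ ∀ u v, Cfsg.sympForm d F
      ((g : Matrix (Fin d ⊕ Fin d) (Fin d ⊕ Fin d) F) *ᵥ u)
      ((g : Matrix (Fin d ⊕ Fin d) (Fin d ⊕ Fin d) F) *ᵥ v) = Cfsg.sympForm d F u v := Iff.rfl

/-- SPT-E2. -/
theorem kronElt_mem_spGL {d a b : ℕ} (e : (Fin d ⊕ Fin d) ≃ Fin a × Fin b)
    (P : GL (Fin d ⊕ Fin d) F)
    (f₁ : (Fin a → F) → (Fin a → F) → F) (f₂ : (Fin b → F) → (Fin b → F) → F)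
    (hS : Cfsg.Geo.IsTensorFormStructure id (Cfsg.sympForm d F) f₁ f₂ e P)
    (A : GL (Fin a) F) (B : GL (Fin b) F)
    (hA : A.valᵀ * Cfsg.Geo.gramMatrix f₁ * A.val = Cfsg.Geo.gramMatrix f₁)
    (hB : B.valᵀ * Cfsg.Geo.gramMatrix f₂ * B.val = Cfsg.Geo.gramMatrix f₂) :
    kronElt e P A B ∈ Cfsg.spGL d F := by
  obtain ⟨c, _, hform⟩ := hS
  have hM : (A.val ⊗ₖ B.val)ᵀ * (Cfsg.Geo.gramMatrix f₁ ⊗ₖ Cfsg.Geo.gramMatrix f₂) *
      (A.val ⊗ₖ B.val) = Cfsg.Geo.gramMatrix f₁ ⊗ₖ Cfsg.Geo.gramMatrix f₂ := by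
    have h1 : (A.val ⊗ₖ B.val)ᵀ = A.valᵀ ⊗ₖ B.valᵀ :=
      (Matrix.kroneckerMap_transpose _ A.val B.val).symm
    rw [h1, ← Matrix.mul_kronecker_mul, ← Matrix.mul_kronecker_mul, hA, hB]
  rw [e2_mem_spGL_iff]
  intro u v
  obtain ⟨x, rfl⟩ := exists_coords e P u
  obtain ⟨y, rfl⟩ := exists_coords e P v
  rw [kronElt_mulVec, kronElt_mulVec, hform, hform, e2_formOfGram_mulVec _ _ hM]

end Cfsg.Agent.Lib.Helper31.SpTns
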