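import Mathlib
import Cfsg.Prelude.Def_GeometricClasses
import Cfsg.Agent.Lib.Helper13.Symp

/-! # S5980 hive (helper31), leaf SPT-S2: the diagonal element `diag(t, 1, …, 1 | t⁻¹, 1, …, 1)` of `Sp_{2d}(F)`. -/

set_option autoImplicit false
set_option linter.unusedSectionVars false

open Matrix

namespace Cfsg.Agent.Lib.Helper31.SpTns

universe v

variable {F : Type v} [Field F]

/-- the diagonal weights. -/
def s2_w (d : ℕ) (t : F) : Fin d ⊕ Fin d → F :=
  Sum.elim (fun j => if (j : ℕ) = 0 then t else 1) (fun j => if (j : ℕ) = 0 then t⁻¹ else 1)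

theorem s2_w_inl (d : ℕ) (t : F) (j : Fin d) :
    s2_w d t (Sum.inl j) = if (j : ℕ) = 0 then t else 1 := rfl

theorem s2_w_inr (d : ℕ) (t : F) (j : Fin d) :
    s2_w d t (Sum.inr j) = if (j : ℕ) = 0 then t⁻¹ else 1 := rfl

theorem s2_w_mul_inv (d : ℕ) (t : F) (ht : t ≠ 0) (i : Fin d ⊕ Fin d) :
    s2_w d t i * s2_w d t⁻¹ i = 1 := by
  rcases i with j | j
  · rw [s2_w_inl, s2_w_inl]
    split_ifs
    · exact mul_inv_cancel₀ ht
    · exact one_mul 1
  · rw [s2_w_inr, s2_w_inr]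
    split_ifs
    · rw [inv_inv]; exact inv_mul_cancel₀ ht
    · exact one_mul 1

theorem s2_w_inl_mul_inr (d : ℕ) (t : F) (ht : t ≠ 0) (j : Fin d) :
    s2_w d t (Sum.inl j) * s2_w d t (Sum.inr j) = 1 := by
  rw [s2_w_inl, s2_w_inr]
  split_ifs
  · exact mul_inv_cancel₀ ht
  · exact one_mul 1

/-- the diagonal element. -/
noncomputable def s2_x (d : ℕ) (t : F) (ht : t ≠ 0) : GL (Fin d ⊕ Fin d) F :=
  ⟨Matrix.diagonal (s2_w d t), Matrix.diagonal (s2_w d t⁻¹),
    by
      rw [Matrix.diagonal_mul_diagonal, ← Matrix.diagonal_one]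
      congr 1
      funext i
      exact s2_w_mul_inv d t ht i,
    by
      rw [Matrix.diagonal_mul_diagonal, ← Matrix.diagonal_one]
      congr 1
      funext i
      rw [mul_comm]
      exact s2_w_mul_inv d t ht i⟩

theorem s2_x_val (d : ℕ) (t : F) (ht : t ≠ 0) :
    ((s2_x d t ht : GL (Fin d ⊕ Fin d) F) : Matrix (Fin d ⊕ Fin d) (Fin d ⊕ Fin d) F) =
      Matrix.diagonal (s2_w d t) := rfl

theorem s2_mem_spGL_iff {d : ℕ} (g : GL (Fin d ⊕ Fin d) F) :
    g ∈ Cfsg.spGL d F ↔ ∀ u v, Cfsg.sympForm d F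
      ((g : Matrix (Fin d ⊕ Fin d) (Fin d ⊕ Fin d) F) *ᵥ u)
      ((g : Matrix (Fin d ⊕ Fin d) (Fin d ⊕ Fin d) F) *ᵥ v) = Cfsg.sympForm d F u v := Iff.rfl

theorem s2_x_mem (d : ℕ) (t : F) (ht : t ≠ 0) : s2_x d t ht ∈ Cfsg.spGL d F := by
  rw [s2_mem_spGL_iff]
  intro u v
  rw [s2_x_val, Cfsg.Agent.Lib.Helper13.sympForm_expand, Cfsg.Agent.Lib.Helper13.sympForm_expand]
  refine Finset.sum_congr rfl fun i _ => ?_
  simp only [Matrix.mulVec_diagonal]
  have h1 := s2_w_inl_mul_inr d t ht i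
  have e1 : s2_w d t (Sum.inr i) * u (Sum.inr i) * (s2_w d t (Sum.inl i) * v (Sum.inl i)) =
      (s2_w d t (Sum.inl i) * s2_w d t (Sum.inr i)) * (u (Sum.inr i) * v (Sum.inl i)) := by ring
  have e2 : s2_w d t (Sum.inl i) * u (Sum.inl i) * (s2_w d t (Sum.inr i) * v (Sum.inr i)) =
      (s2_w d t (Sum.inl i) * s2_w d t (Sum.inr i)) * (u (Sum.inl i) * v (Sum.inr i)) := by ring
  rw [e1, e2, h1, one_mul, one_mul]

theorem s2_x_pow (d : ℕ) (t : F) (ht : t ≠ 0) (k : ℕ) (htk : t ^ k = 1) : s2_x d t ht ^ k = 1 := by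
  apply Units.ext
  rw [Units.val_pow_eq_pow_val, s2_x_val, Matrix.diagonal_pow, Units.val_one, ← Matrix.diagonal_one]
  congr 1
  funext i
  rcases i with j | j
  · rw [Pi.pow_apply, s2_w_inl]
    split_ifs
    · exact htk
    · exact one_pow k
  · rw [Pi.pow_apply, s2_w_inr]
    split_ifs
    · rw [inv_pow, htk, inv_one]
    · exact one_pow k

theorem s2_x_not_scalar (d : ℕ) (hd : 2 ≤ d) (t : F) (ht : t ≠ 0) (ht1 : t ≠ 1) (z : F) :
    ((s2_x d t ht : GL (Fin d ⊕ Fin d) F) : Matrix (Fin d ⊕ Fin d) (Fin d ⊕ Fin d) F) ≠ z • 1 := by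
  intro h
  rw [s2_x_val] at h
  have h0 := congrFun (congrFun h (Sum.inl ⟨0, by omega⟩)) (Sum.inl ⟨0, by omega⟩)
  have h1 := congrFun (congrFun h (Sum.inl ⟨1, by omega⟩)) (Sum.inl ⟨1, by omega⟩)
  simp only [Matrix.diagonal_apply_eq, Matrix.smul_apply, Matrix.one_apply_eq, smul_eq_mul, mul_one,
    s2_w_inl] at h0 h1
  simp at h0 h1
  exact ht1 (h0.trans h1.symm)

theorem s2_rank_sub_one (d : ℕ) (hd : 2 ≤ d) (t : F) (ht : t ≠ 0) (ht1 : t ≠ 1) :
    (((s2_x d t ht : GL (Fin d ⊕ Fin d) F) : Matrix (Fin d ⊕ Fin d) (Fin d ⊕ Fin d) F) - 1).rank = 2 := by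
  classical
  rw [s2_x_val, ← Matrix.diagonal_one, Matrix.diagonal_sub, Matrix.rank_diagonal,
    Fintype.card_subtype]
  have hset : (Finset.univ.filter fun i : Fin d ⊕ Fin d => (s2_w d t i - 1) ≠ 0) =
      {Sum.inl ⟨0, by omega⟩, Sum.inr ⟨0, by omega⟩} := by
    ext i
    simp only [Finset.mem_filter, Finset.mem_univ, true_and, Finset.mem_insert,
      Finset.mem_singleton, Pi.one_apply]
    rcases i with j | j
    · rw [s2_w_inl]
      constructor
      · intro h
        left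
        by_cases hj : (j : ℕ) = 0
        · exact congrArg Sum.inl (Fin.ext hj)
        · rw [if_neg hj, sub_self] at h
          exact absurd rfl h
      · rintro (h | h)
        · have hj : (j : ℕ) = 0 := by
            have := Sum.inl.inj h
            rw [this]
          rw [if_pos hj]
          exact sub_ne_zero.2 ht1
        · exact absurd h (by simp)
    · rw [s2_w_inr]
      constructor
      · intro h
        right
        by_cases hj : (j : ℕ) = 0
        · exact congrArg Sum.inr (Fin.ext hj)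
        · rw [if_neg hj, sub_self] at h
          exact absurd rfl h
      · rintro (h | h)
        · exact absurd h (by simp)
        · have hj : (j : ℕ) = 0 := by
            have := Sum.inr.inj h
            rw [this]
          rw [if_pos hj]
          apply sub_ne_zero.2
          intro h'
          apply ht1
          rw [← inv_inv t, h', inv_one]
  rw [hset, Finset.card_pair (by simp)]

theorem s2_rank_sub_t (d : ℕ) (hd : 2 ≤ d) (t : F) (ht : t ≠ 0) (ht1 : t ≠ 1) (htt : t ≠ t⁻¹) :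
    (((s2_x d t ht : GL (Fin d ⊕ Fin d) F) : Matrix (Fin d ⊕ Fin d) (Fin d ⊕ Fin d) F) - t • 1).rank =
      2 * d - 1 := by
  classical
  have h1 : (t • (1 : Matrix (Fin d ⊕ Fin d) (Fin d ⊕ Fin d) F)) = Matrix.diagonal (fun _ => t) := by
    rw [← Matrix.diagonal_one, ← Matrix.diagonal_smul]
    congr 1
    funext i
    simp
  rw [s2_x_val, h1, Matrix.diagonal_sub, Matrix.rank_diagonal, Fintype.card_subtype]
  have hset : (Finset.univ.filter fun i : Fin d ⊕ Fin d =>
      (s2_w d t i - (fun _ : Fin d ⊕ Fin d => t) i) ≠ 0) =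
      Finset.univ.erase (Sum.inl ⟨0, by omega⟩) := by
    ext i
    simp only [Finset.mem_filter, Finset.mem_univ, true_and, Finset.mem_erase, and_true]
    rcases i with j | j
    · rw [s2_w_inl]
      by_cases hj : (j : ℕ) = 0
      · rw [if_pos hj, sub_self]
        have : (Sum.inl j : Fin d ⊕ Fin d) = Sum.inl ⟨0, by omega⟩ := congrArg Sum.inl (Fin.ext hj)
        simp [this]
      · rw [if_neg hj]
        have h2 : (1 : F) - t ≠ 0 := sub_ne_zero.2 (Ne.symm ht1)
        have h3 : (Sum.inl j : Fin d ⊕ Fin d) ≠ Sum.inl ⟨0, by omega⟩ := by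
          intro h
          apply hj
          have := Sum.inl.inj h
          rw [this]
        simp [h2, h3]
    · rw [s2_w_inr]
      by_cases hj : (j : ℕ) = 0
      · rw [if_pos hj]
        have h2 : t⁻¹ - t ≠ 0 := sub_ne_zero.2 (Ne.symm htt)
        simp [h2]
      · rw [if_neg hj]
        have h2 : (1 : F) - t ≠ 0 := sub_ne_zero.2 (Ne.symm ht1)
        simp [h2]
  rw [hset, Finset.card_erase_of_mem (Finset.mem_univ _), Finset.card_univ, Fintype.card_sum,
    Fintype.card_fin]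
  omega

section S
variable [Fintype F]

/-- SPT-S2. -/
theorem sp_exists_diag (d : ℕ) (hd : 2 ≤ d) (t : F) (ht : t ≠ 0) (ht1 : t ≠ 1) :
    ∃ x : GL (Fin d ⊕ Fin d) F, x ∈ Cfsg.spGL d F ∧ (∀ k : ℕ, t ^ k = 1 → x ^ k = 1) ∧
      (∀ z : F, (x : Matrix (Fin d ⊕ Fin d) (Fin d ⊕ Fin d) F) ≠ z • 1) ∧
      ((x : Matrix (Fin d ⊕ Fin d) (Fin d ⊕ Fin d) F) - 1).rank = 2 ∧
      (t ≠ t⁻¹ → ((x : Matrix (Fin d ⊕ Fin d) (Fin d ⊕ Fin d) F) - t • 1).rank = 2 * d - 1) :=
  ⟨s2_x d t ht, s2_x_mem d t ht, s2_x_pow d t ht, s2_x_not_scalar d hd t ht ht1,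
    s2_rank_sub_one d hd t ht ht1, s2_rank_sub_t d hd t ht ht1⟩

end S

end Cfsg.Agent.Lib.Helper31.SpTns
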