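import Mathlib
import Cfsg.Prelude.Def_GeometricClasses
import Cfsg.Agent.Lib.Helper44.TnsDefs

set_option autoImplicit false
open scoped MatrixGroups Kronecker
open Matrix Polynomial

/-! TNS-E1 leaf for S5979 (helper44 hive), by helper21: a transvection. -/

namespace Cfsg.Agent.Lib.Helper44.Tns

universe v

variable {F : Type v} [Field F]

/-- a nonzero matrix has positive rank -/
theorem e1_rank_pos {n : ℕ} (M : Matrix (Fin n) (Fin n) F) (hM : M ≠ 0) : 0 < M.rank := by
  rcases Nat.eq_zero_or_pos M.rank with h | h
  · exfalso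
    apply hM
    have h1 : LinearMap.range M.mulVecLin = ⊥ := by
      have : Module.finrank F (LinearMap.range M.mulVecLin) = 0 := h
      exact Submodule.finrank_eq_zero.mp this
    have h2 : M.mulVecLin = 0 := LinearMap.range_eq_bot.mp h1
    ext i j
    have h3 : M *ᵥ (Pi.single j 1) = 0 := by
      have := LinearMap.congr_fun h2 (Pi.single j 1)
      simpa using this
    have h4 := congrFun h3 i
    simpa using h4
  · exact h

theorem e1_transvection_pow {n : ℕ} {i j : Fin n} (hij : i ≠ j) (c : F) (k : ℕ) :
    (Matrix.transvection i j c) ^ k = Matrix.transvection i j ((k : F) * c) := by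
  induction k with
  | zero => simp
  | succ k ih =>
    rw [pow_succ, ih, Matrix.transvection_mul_transvection_same _ _ hij]
    congr 1
    push_cast
    ring

section finite

variable [Fintype F]

/-- TNS-E1 : a transvection -/
theorem exists_transvection {p : ℕ} [Fact p.Prime] [CharP F p] (n : ℕ) (hn : 2 ≤ n) :
    ∃ x : Matrix (Fin n) (Fin n) F, x.det = 1 ∧ x ^ p = 1 ∧
      (∀ z : F, x ≠ z • (1 : Matrix (Fin n) (Fin n) F)) ∧ (x - 1).rank = 1 := by
  obtain ⟨m, rfl⟩ : ∃ m, n = m + 2 := ⟨n - 2, by omega⟩
  have h01 : (0 : Fin (m + 2)) ≠ 1 := by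
    intro h
    have := congrArg Fin.val h
    simp at this
  refine ⟨Matrix.transvection 0 1 1, Matrix.det_transvection_of_ne _ _ h01 _, ?_, ?_, ?_⟩
  · rw [e1_transvection_pow h01, CharP.cast_eq_zero, zero_mul, Matrix.transvection_zero]
  · intro z hz
    have := congrFun (congrFun hz 0) 1
    simp [Matrix.transvection, h01] at this
  · have hx : Matrix.transvection (0 : Fin (m + 2)) 1 (1 : F) - 1 = Matrix.single 0 1 1 := by
      simp [Matrix.transvection]
    rw [hx]
    apply le_antisymm
    · rw [Matrix.single_eq_single_vecMulVec_single]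
      exact Matrix.rank_vecMulVec_le _ _
    · apply e1_rank_pos
      intro h
      have := congrFun (congrFun h 0) 1
      simp at this

end finite

end Cfsg.Agent.Lib.Helper44.Tns
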