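import Mathlib
import Cfsg.Prelude.Def_GeometricClasses
import Cfsg.Agent.Lib.Helper44.TnsDefs
import Cfsg.Agent.Lib.Helper44.SfrRoots

set_option autoImplicit false
open scoped MatrixGroups Kronecker
open Matrix Polynomial

/-! TNS-E3, TNS-E4 leaves for S5979 (helper44 hive), by helper21: diagonal elements. -/

namespace Cfsg.Agent.Lib.Helper44.Tns

universe v

variable {F : Type v} [Field F]

/-- rank of `diagonal d - c • 1` is the number of entries different from `c`, as a sum -/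
theorem e34_rank_sub [DecidableEq F] {n : ℕ} (d : Fin n → F) (c : F) :
    (Matrix.diagonal d - c • (1 : Matrix (Fin n) (Fin n) F)).rank
      = ∑ i : Fin n, if d i = c then 0 else 1 := by
  have h1 : Matrix.diagonal d - c • (1 : Matrix (Fin n) (Fin n) F)
      = Matrix.diagonal (fun i => d i - c) := by
    ext i j
    by_cases hij : i = j
    · subst hij
      simp
    · simp [hij]
  rw [h1, Matrix.rank_diagonal, Fintype.card_subtype, Finset.card_filter]
  apply Finset.sum_congr rfl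
  intro i _
  by_cases h : d i = c
  · simp [h]
  · have : d i - c ≠ 0 := sub_ne_zero.mpr h
    simp [h, this]

theorem e34_rank_sub_one [DecidableEq F] {n : ℕ} (d : Fin n → F) :
    (Matrix.diagonal d - (1 : Matrix (Fin n) (Fin n) F)).rank
      = ∑ i : Fin n, if d i = 1 then 0 else 1 := by
  have := e34_rank_sub d 1
  rwa [one_smul] at this

section finite

variable [Fintype F]

/-- TNS-E4 : `diag(-1, -1, 1, …, 1)` -/
theorem exists_neg_two (n : ℕ) (hn : 3 ≤ n) (h2 : (2 : F) ≠ 0) :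
    ∃ x : Matrix (Fin n) (Fin n) F, x.det = 1 ∧ x ^ 2 = 1 ∧
      (∀ z : F, x ≠ z • (1 : Matrix (Fin n) (Fin n) F)) ∧ (x - 1).rank = 2 := by
  classical
  obtain ⟨m, rfl⟩ : ∃ m, n = m + 3 := ⟨n - 3, by omega⟩
  have hne : (-1 : F) ≠ 1 := by
    intro h
    apply h2
    have : (2 : F) = 1 - (-1) := by ring
    rw [this, h]; ring
  set d : Fin (m + 3) → F := Fin.cons (-1) (Fin.cons (-1) (fun _ => 1)) with hd
  refine ⟨Matrix.diagonal d, ?_, ?_, ?_, ?_⟩
  · rw [Matrix.det_diagonal, Fin.prod_univ_succ, Fin.prod_univ_succ]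
    simp [hd]
  · rw [Matrix.diagonal_pow]
    have : d ^ 2 = 1 := by
      funext i
      refine Fin.cases ?_ (fun i => ?_) i
      · simp [hd]
      · refine Fin.cases ?_ (fun i => ?_) i
        · simp [hd]
        · simp [hd]
    rw [this]
    exact Matrix.diagonal_one
  · intro z hz
    have h0 := congrFun (congrFun hz 0) 0
    have h1 := congrFun (congrFun hz (Fin.succ (Fin.succ 0))) (Fin.succ (Fin.succ 0))
    simp only [hd, Matrix.diagonal_apply_eq, Fin.cons_zero, Fin.cons_succ, Matrix.smul_apply,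
      Matrix.one_apply_eq, smul_eq_mul, mul_one] at h0 h1
    apply hne
    rw [h0, h1]
  · rw [e34_rank_sub_one, Fin.sum_univ_succ, Fin.sum_univ_succ]
    simp [hd, hne]

/-- TNS-E3 : `diag(ω, ω⁻¹, 1, …, 1)`, `r` odd -/
theorem exists_two_eigen (n : ℕ) (hn : 3 ≤ n) (r : ℕ) [Fact r.Prime] (hr2 : r ≠ 2)
    (hrq : r ∣ Fintype.card F - 1) :
    ∃ (x : Matrix (Fin n) (Fin n) F) (ω : F), x.det = 1 ∧ x ^ r = 1 ∧
      (∀ z : F, x ≠ z • (1 : Matrix (Fin n) (Fin n) F)) ∧
      (x - 1).rank = 2 ∧ (x - ω • (1 : Matrix (Fin n) (Fin n) F)).rank = n - 1 := by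
  classical
  obtain ⟨m, rfl⟩ : ∃ m, n = m + 3 := ⟨n - 3, by omega⟩
  obtain ⟨ω, hωr, hω1⟩ := Cfsg.Agent.Lib.Helper44.Sfr.exists_root_of_unity (F := F) r hrq
  have hr : r.Prime := Fact.out
  have hω0 : ω ≠ 0 := by
    rintro rfl
    rw [zero_pow hr.ne_zero] at hωr
    exact zero_ne_one hωr
  have hodd : ¬ 2 ∣ r := by
    intro h
    have h' := (Nat.prime_dvd_prime_iff_eq Nat.prime_two hr).mp h
    exact hr2 h'.symm
  have hωω : ω * ω ≠ 1 := by
    intro h
    apply hω1
    obtain ⟨k, hk⟩ : ∃ k, r = 2 * k + 1 := ⟨r / 2, by omega⟩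
    rw [hk, pow_succ, pow_mul, pow_two, h, one_pow, one_mul] at hωr
    exact hωr
  have hinv1 : ω⁻¹ ≠ 1 := by
    intro h
    apply hω1
    rw [← inv_inv ω, h, inv_one]
  have hinvω : ω⁻¹ ≠ ω := by
    intro h
    apply hωω
    nth_rewrite 1 [← h]
    exact inv_mul_cancel₀ hω0
  set d : Fin (m + 3) → F := Fin.cons ω (Fin.cons ω⁻¹ (fun _ => 1)) with hd
  refine ⟨Matrix.diagonal d, ω, ?_, ?_, ?_, ?_, ?_⟩
  · rw [Matrix.det_diagonal, Fin.prod_univ_succ, Fin.prod_univ_succ]
    simp [hd, hω0]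
  · rw [Matrix.diagonal_pow]
    have : d ^ r = 1 := by
      funext i
      refine Fin.cases ?_ (fun i => ?_) i
      · simp [hd, hωr]
      · refine Fin.cases ?_ (fun i => ?_) i
        · simp [hd, hωr]
        · simp [hd]
    rw [this]
    exact Matrix.diagonal_one
  · intro z hz
    have h0 := congrFun (congrFun hz 0) 0
    have h1 := congrFun (congrFun hz (Fin.succ (Fin.succ 0))) (Fin.succ (Fin.succ 0))
    simp only [hd, Matrix.diagonal_apply_eq, Fin.cons_zero, Fin.cons_succ, Matrix.smul_apply,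
      Matrix.one_apply_eq, smul_eq_mul, mul_one] at h0 h1
    apply hω1
    rw [h0, h1]
  · rw [e34_rank_sub_one, Fin.sum_univ_succ, Fin.sum_univ_succ]
    simp [hd, hω1, hinv1]
  · rw [e34_rank_sub, Fin.sum_univ_succ, Fin.sum_univ_succ]
    simp [hd, hinvω, Ne.symm hω1]
    omega

/-- TNS-E2 : `c • diag(ω, 1, …, 1)` -/
theorem exists_pseudoreflection (n : ℕ) (hn : 2 ≤ n) (r : ℕ) [Fact r.Prime]
    (hrq : r ∣ Fintype.card F - 1)
    (hv : padicValNat r n < padicValNat r (Fintype.card F - 1)) :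
    ∃ (x : Matrix (Fin n) (Fin n) F) (c : F), x.det = 1 ∧
      (∃ z : F, x ^ r = z • (1 : Matrix (Fin n) (Fin n) F)) ∧
      (∀ z : F, x ≠ z • (1 : Matrix (Fin n) (Fin n) F)) ∧
      (x - c • (1 : Matrix (Fin n) (Fin n) F)).rank = 1 := by
  classical
  obtain ⟨ω, hωr, hω1⟩ := Cfsg.Agent.Lib.Helper44.Sfr.exists_root_of_unity (F := F) r hrq
  obtain ⟨c, hc⟩ := Cfsg.Agent.Lib.Helper44.Sfr.exists_root_E1 (F := F) n (by omega) r ω hωr hv
  obtain ⟨m, rfl⟩ : ∃ m, n = m + 2 := ⟨n - 2, by omega⟩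
  have hc0 : c ≠ 0 := by
    rintro rfl
    rw [zero_pow (by omega), zero_mul] at hc
    exact zero_ne_one hc
  have hcω : c * ω ≠ c := by
    intro h
    apply hω1
    have : c * ω = c * 1 := by rw [h, mul_one]
    exact mul_left_cancel₀ hc0 this
  set d : Fin (m + 2) → F := Fin.cons (c * ω) (fun _ => c) with hd
  refine ⟨Matrix.diagonal d, c, ?_, ⟨c ^ r, ?_⟩, ?_, ?_⟩
  · rw [Matrix.det_diagonal, Fin.prod_univ_succ]
    simp only [hd, Fin.cons_zero, Fin.cons_succ, Finset.prod_const, Finset.card_univ,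
      Fintype.card_fin]
    rw [← hc]
    ring
  · rw [Matrix.diagonal_pow, Matrix.smul_one_eq_diagonal]
    congr 1
    funext i
    refine Fin.cases ?_ (fun i => ?_) i
    · simp [hd, mul_pow, hωr]
    · simp [hd]
  · intro z hz
    have h0 := congrFun (congrFun hz 0) 0
    have h1 := congrFun (congrFun hz (Fin.succ 0)) (Fin.succ 0)
    simp only [hd, Matrix.diagonal_apply_eq, Fin.cons_zero, Fin.cons_succ, Matrix.smul_apply,
      Matrix.one_apply_eq, smul_eq_mul, mul_one] at h0 h1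
    apply hcω
    rw [h0, h1]
  · rw [e34_rank_sub, Fin.sum_univ_succ]
    simp [hd, hcω]

end finite

end Cfsg.Agent.Lib.Helper44.Tns
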