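import Mathlib
import Cfsg.Prelude.Def_EvenType

/-! # Elementary abelian `2`-subgroups of `PSL_n(F)`, `char F = 2` (helper21; for the Tr hive S1788 of helper35):
`exists_elemAb : ∃ A ≤ PSL_n(F)` commutative of exponent `2` with `|A| = |F|^(n-1)` (rows `1 + e_0 ⊗ y`). -/

set_option autoImplicit false
set_option linter.unusedSectionVars false

namespace Cfsg.Agent.Lib.Helper21.TrPSL

open Matrix

variable {F : Type*} [Field F] {n : ℕ}

/-- the row vector supported off the index `a` -/
def row (a : Fin n) (y : {j : Fin n // j ≠ a} → F) : Fin n → F :=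
  fun j => if h : j = a then 0 else y ⟨j, h⟩

theorem row_self (a : Fin n) (y : {j : Fin n // j ≠ a} → F) : row a y a = 0 := by
  simp [row]

theorem row_of_ne (a : Fin n) (y : {j : Fin n // j ≠ a} → F) (j : Fin n) (h : j ≠ a) :
    row a y j = y ⟨j, h⟩ := by
  simp [row, h]

theorem row_add (a : Fin n) (y z : {j : Fin n // j ≠ a} → F) : row a (y + z) = row a y + row a z := by
  funext j
  by_cases h : j = a
  · simp [row, h]
  · simp [row, h]

theorem row_dot (a : Fin n) (y : {j : Fin n // j ≠ a} → F) :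
    row a y ⬝ᵥ Pi.single a 1 = 0 := by
  rw [dotProduct_single, row_self, zero_mul]

/-- the matrix `1 + e_a ⊗ row` -/
def mat (a : Fin n) (y : {j : Fin n // j ≠ a} → F) : Matrix (Fin n) (Fin n) F :=
  1 + vecMulVec (Pi.single a 1) (row a y)

theorem mat_mul (a : Fin n) (y z : {j : Fin n // j ≠ a} → F) :
    mat a y * mat a z = mat a (y + z) := by
  unfold mat
  rw [Matrix.add_mul, Matrix.mul_add, Matrix.mul_add, Matrix.one_mul, Matrix.mul_one, Matrix.one_mul,
    vecMulVec_mul_vecMulVec, row_dot, zero_smul, row_add]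
  have h0 : vecMulVec (Pi.single a (1 : F)) (0 : Fin n → F) = 0 := by
    ext i j; simp
  have hadd : vecMulVec (Pi.single a (1 : F)) (row a y + row a z) =
      vecMulVec (Pi.single a (1 : F)) (row a y) + vecMulVec (Pi.single a (1 : F)) (row a z) := by
    ext i j; simp [vecMulVec_apply, mul_add]
  rw [h0, hadd]
  abel

theorem mat_zero (a : Fin n) : mat a (0 : {j : Fin n // j ≠ a} → F) = 1 := by
  unfold mat
  have : row a (0 : {j : Fin n // j ≠ a} → F) = 0 := by
    funext j; simp [row]
  rw [this]
  ext i j; simp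

theorem mat_det (a : Fin n) (y : {j : Fin n // j ≠ a} → F) : (mat a y).det = 1 := by
  unfold mat
  rw [vecMulVec_eq Unit, det_one_add_replicateCol_mul_replicateRow, row_dot, add_zero]

theorem mat_apply_self (a : Fin n) (y : {j : Fin n // j ≠ a} → F) (j : Fin n) (h : j ≠ a) :
    mat a y a j = y ⟨j, h⟩ := by
  unfold mat
  rw [Matrix.add_apply, Matrix.one_apply_ne (Ne.symm h), zero_add, vecMulVec_apply, Pi.single_eq_same,
    one_mul, row_of_ne a y j h]


/-- the homomorphism `(F^(n-1), +) → SL_n(F)` -/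
def hom (a : Fin n) :
    Multiplicative ({j : Fin n // j ≠ a} → F) →* Matrix.SpecialLinearGroup (Fin n) F where
  toFun y := ⟨mat a (Multiplicative.toAdd y), mat_det a _⟩
  map_one' := Subtype.ext (mat_zero a)
  map_mul' y z := Subtype.ext (by
    show mat a (Multiplicative.toAdd (y * z)) = mat a (Multiplicative.toAdd y) * mat a (Multiplicative.toAdd z)
    rw [mat_mul]; rfl)

theorem hom_val (a : Fin n) (y : Multiplicative ({j : Fin n // j ≠ a} → F)) :
    ((hom a y : Matrix.SpecialLinearGroup (Fin n) F) : Matrix (Fin n) (Fin n) F) =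
      mat a (Multiplicative.toAdd y) := rfl

/-- the homomorphism to `PSL_n(F)` -/
def homP (a : Fin n) :
    Multiplicative ({j : Fin n // j ≠ a} → F) →* Matrix.ProjectiveSpecialLinearGroup (Fin n) F :=
  (QuotientGroup.mk' (Subgroup.center (Matrix.SpecialLinearGroup (Fin n) F))).comp (hom a)

theorem homP_injective (a : Fin n) : Function.Injective (homP (F := F) a) := by
  rw [injective_iff_map_eq_one]
  intro y hy
  have h1 : hom a y ∈ Subgroup.center (Matrix.SpecialLinearGroup (Fin n) F) := by
    have : (QuotientGroup.mk' (Subgroup.center (Matrix.SpecialLinearGroup (Fin n) F))) (hom a y) = 1 := hy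
    rwa [QuotientGroup.mk'_apply, QuotientGroup.eq_one_iff] at this
  rw [Matrix.SpecialLinearGroup.mem_center_iff] at h1
  obtain ⟨r, -, hr⟩ := h1
  have h2 : ∀ j (h : j ≠ a), Multiplicative.toAdd y ⟨j, h⟩ = 0 := by
    intro j h
    have h3 := congrFun (congrFun hr a) j
    rw [hom_val, mat_apply_self a _ j h] at h3
    rw [← h3]
    simp [Matrix.scalar_apply, Ne.symm h]
  have h4 : Multiplicative.toAdd y = 0 := by
    funext j
    exact h2 j.1 j.2
  exact Multiplicative.toAdd.injective h4

theorem card_dom [Fintype F] (a : Fin n) :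
    Nat.card (Multiplicative ({j : Fin n // j ≠ a} → F)) = Fintype.card F ^ (n - 1) := by
  classical
  have h1 : Nat.card (Multiplicative ({j : Fin n // j ≠ a} → F)) =
      Nat.card ({j : Fin n // j ≠ a} → F) := Nat.card_congr Multiplicative.toAdd
  rw [h1, Nat.card_fun, Nat.card_eq_fintype_card, Nat.card_eq_fintype_card]
  congr 1
  rw [Fintype.card_subtype_compl, Fintype.card_subtype_eq, Fintype.card_fin]

/-- `PSL_n(F)`, `char F = 2`, contains an elementary abelian `2`-subgroup of order `|F|^(n-1)` -/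
theorem exists_elemAb [Fintype F] [CharP F 2] (hn : 0 < n) :
    ∃ A : Subgroup (Matrix.ProjectiveSpecialLinearGroup (Fin n) F),
      IsMulCommutative A ∧ (∀ x ∈ A, x ^ 2 = 1) ∧ Nat.card A = Fintype.card F ^ (n - 1) := by
  let a : Fin n := ⟨0, hn⟩
  refine ⟨(homP (F := F) a).range, ⟨⟨?_⟩⟩, ?_, ?_⟩
  · rintro ⟨x, y, rfl⟩ ⟨x', y', rfl⟩
    apply Subtype.ext
    show homP a y * homP a y' = homP a y' * homP a y
    rw [← map_mul, ← map_mul, mul_comm]
  · rintro x ⟨y, rfl⟩
    rw [← map_pow]
    have : y ^ 2 = 1 := by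
      apply Multiplicative.toAdd.injective
      show (2 : ℕ) • Multiplicative.toAdd y = 0
      funext j
      have h2 : (2 : F) = 0 := CharP.cast_eq_zero F 2
      simp [h2]
    rw [this, map_one]
  · rw [← card_dom (F := F) a]
    exact (Nat.card_congr (Equiv.ofInjective _ (homP_injective a))).symm

end Cfsg.Agent.Lib.Helper21.TrPSL
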