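import Mathlib
import Cfsg.Prelude.Def_Classical
import Cfsg.Prelude.Def_EvenType

/-! # Elementary abelian `2`-subgroups of `PSp_{2m}(F)`, `char F = 2` (helper21; for the Tr hive S1788 of helper35):
`exists_elemAb : ∃ A ≤ PSp m F` commutative of exponent `2` with `|A| = |F|^m` (the matrices `[[1, diag x], [0, 1]]`). -/

set_option autoImplicit false
set_option linter.unusedSectionVars false

namespace Cfsg.Agent.Lib.Helper21.TrPSp

open Matrix

variable {F : Type*} [Field F] {m : ℕ}

/-- the matrix `[[1, diag x], [0, 1]]` -/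
def mat (x : Fin m → F) : Matrix (Fin m ⊕ Fin m) (Fin m ⊕ Fin m) F :=
  Matrix.fromBlocks 1 (Matrix.diagonal x) 0 1

theorem mat_mul (x y : Fin m → F) : mat x * mat y = mat (x + y) := by
  unfold mat
  rw [Matrix.fromBlocks_multiply]
  simp [Matrix.diagonal_add, add_comm]

theorem mat_zero : mat (0 : Fin m → F) = 1 := by
  unfold mat
  rw [← Matrix.fromBlocks_one]
  simp

theorem mat_mem (x : Fin m → F) : mat x ∈ Matrix.symplecticGroup (Fin m) F := by
  rw [SymplecticGroup.mem_iff]
  unfold mat Matrix.J
  rw [Matrix.fromBlocks_multiply, Matrix.fromBlocks_transpose, Matrix.fromBlocks_multiply]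
  simp [Matrix.diagonal_transpose]

/-- the homomorphism `(F^m, +) → Sp_{2m}(F)` -/
def hom : Multiplicative (Fin m → F) →* Matrix.symplecticGroup (Fin m) F where
  toFun x := ⟨mat (Multiplicative.toAdd x), mat_mem _⟩
  map_one' := Subtype.ext mat_zero
  map_mul' x y := Subtype.ext (by
    show mat (Multiplicative.toAdd (x * y)) = mat (Multiplicative.toAdd x) * mat (Multiplicative.toAdd y)
    rw [mat_mul]; rfl)

theorem hom_val (x : Multiplicative (Fin m → F)) :
    ((hom x : Matrix.symplecticGroup (Fin m) F) : Matrix (Fin m ⊕ Fin m) (Fin m ⊕ Fin m) F) =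
      mat (Multiplicative.toAdd x) := rfl

/-- the homomorphism to `PSp_{2m}(F)` -/
def homP : Multiplicative (Fin m → F) →* Cfsg.PSp m F :=
  (QuotientGroup.mk' (Subgroup.center (Matrix.symplecticGroup (Fin m) F))).comp hom

theorem homP_injective : Function.Injective (homP (F := F) (m := m)) := by
  rw [injective_iff_map_eq_one]
  intro x hx
  have h1 : hom x ∈ Subgroup.center (Matrix.symplecticGroup (Fin m) F) := by
    have : (QuotientGroup.mk' (Subgroup.center (Matrix.symplecticGroup (Fin m) F))) (hom x) = 1 := hx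
    rwa [QuotientGroup.mk'_apply, QuotientGroup.eq_one_iff] at this
  rw [Subgroup.mem_center_iff] at h1
  have h2 := congrArg (fun g : Matrix.symplecticGroup (Fin m) F =>
    (g : Matrix (Fin m ⊕ Fin m) (Fin m ⊕ Fin m) F)) (h1 (SymplecticGroup.symJ (Fin m) F))
  simp only [Submonoid.coe_mul, hom_val] at h2
  have h3 : (SymplecticGroup.symJ (Fin m) F : Matrix (Fin m ⊕ Fin m) (Fin m ⊕ Fin m) F) =
      Matrix.J (Fin m) F := rfl
  rw [h3] at h2
  unfold mat Matrix.J at h2
  rw [Matrix.fromBlocks_multiply, Matrix.fromBlocks_multiply] at h2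
  have h4 := congrArg Matrix.toBlocks₂₂ h2
  simp only [Matrix.toBlocks_fromBlocks₂₂] at h4
  have h5 : Matrix.diagonal (Multiplicative.toAdd x) = (0 : Matrix (Fin m) (Fin m) F) := by
    simpa using h4
  have h6 : Multiplicative.toAdd x = 0 := by
    funext j
    have := congrFun (congrFun h5 j) j
    simpa using this
  exact Multiplicative.toAdd.injective h6

/-- `PSp_{2m}(F)`, `char F = 2`, contains an elementary abelian `2`-subgroup of order `|F|^m` -/
theorem exists_elemAb [Fintype F] [CharP F 2] :
    ∃ A : Subgroup (Cfsg.PSp m F),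
      IsMulCommutative A ∧ (∀ x ∈ A, x ^ 2 = 1) ∧ Nat.card A = Fintype.card F ^ m := by
  refine ⟨(homP (F := F) (m := m)).range, ⟨⟨?_⟩⟩, ?_, ?_⟩
  · rintro ⟨x, y, rfl⟩ ⟨x', y', rfl⟩
    apply Subtype.ext
    show homP y * homP y' = homP y' * homP y
    rw [← map_mul, ← map_mul, mul_comm]
  · rintro x ⟨y, rfl⟩
    rw [← map_pow]
    have : y ^ 2 = 1 := by
      apply Multiplicative.toAdd.injective
      show (2 : ℕ) • Multiplicative.toAdd y = 0
      funext j
      have h2 : (2 : F) = 0 := CharP.cast_eq_zero F 2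
      simp [h2]
    rw [this, map_one]
  · have hc : Nat.card (Multiplicative (Fin m → F)) = Fintype.card F ^ m := by
      have h1 : Nat.card (Multiplicative (Fin m → F)) = Nat.card (Fin m → F) :=
        Nat.card_congr Multiplicative.toAdd
      rw [h1, Nat.card_fun, Nat.card_eq_fintype_card, Nat.card_eq_fintype_card, Fintype.card_fin]
    rw [← hc]
    exact (Nat.card_congr (Equiv.ofInjective _ homP_injective)).symm

end Cfsg.Agent.Lib.Helper21.TrPSp
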