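import Mathlib
import Cfsg.Prelude.Def_Classical
import Cfsg.Prelude.Def_LieClassical
import Cfsg.Agent.Lib.Helper14.TuDefs
import Cfsg.Agent.Lib.Helper2.BGPoly
import Cfsg.Agent.Lib.Helper2.BGFix

/-!
# S5953 hive ("Tu", owner helper14), leaf TU-D4: `i = 2`, `r ∤ m`, `v_r(q+1) < v_r(n)`: a bad element with
`x ^ r = z`, `X ^ r - z` irreducible
-/

set_option autoImplicit false

namespace Cfsg.Agent.Lib.Helper14.Tu

open Cfsg.Agent.Lib.Helper40.Herm Cfsg.Agent.Lib.Helper2.BG Polynomial Module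

section d4_mono
variable {F : Type*} [Field F] {n : ℕ}

/-- monomial matrix: `(M v) i = c i * v (σ i)` -/
def d4_mono (σ : Equiv.Perm (Fin n)) (c : Fin n → F) : Matrix (Fin n) (Fin n) F :=
  Matrix.of fun i j => if σ i = j then c i else 0

theorem d4_mono_mulVec (σ : Equiv.Perm (Fin n)) (c : Fin n → F) (v : Fin n → F) (i : Fin n) :
    (d4_mono σ c).mulVec v i = c i * v (σ i) := by
  simp [d4_mono, Matrix.mulVec, dotProduct, ite_mul]

theorem d4_mono_pow_mulVec (σ : Equiv.Perm (Fin n)) (c : Fin n → F) (s : ℕ) (v : Fin n → F)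
    (i : Fin n) :
    ((d4_mono σ c) ^ s).mulVec v i = (∏ l ∈ Finset.range s, c ((σ ^ l) i)) * v ((σ ^ s) i) := by
  induction s generalizing v with
  | zero => simp
  | succ s ih =>
    rw [pow_succ, ← Matrix.mulVec_mulVec, ih, d4_mono_mulVec, Finset.prod_range_succ, pow_succ',
      Equiv.Perm.mul_apply]
    ring

theorem d4_mono_pow_eq (σ : Equiv.Perm (Fin n)) (c : Fin n → F) (r : ℕ) (z : F) (hσ : σ ^ r = 1)
    (hc : ∀ i, ∏ l ∈ Finset.range r, c ((σ ^ l) i) = z) :
    (d4_mono σ c) ^ r = z • (1 : Matrix (Fin n) (Fin n) F) := by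
  apply Matrix.mulVec_injective
  funext v i
  rw [d4_mono_pow_mulVec, hc, hσ, Matrix.smul_mulVec, Matrix.one_mulVec]
  rfl

theorem d4_mono_unitary (σ : Equiv.Perm (Fin n)) (c : Fin n → F) (q : ℕ)
    (hc : ∀ i, c i ^ (q + 1) = 1) (u v : Fin n → F) :
    Cfsg.hermForm n F q ((d4_mono σ c).mulVec u) ((d4_mono σ c).mulVec v) =
      Cfsg.hermForm n F q u v := by
  unfold Cfsg.hermForm
  rw [← Equiv.sum_comp σ (fun j => u j * v j ^ q)]
  apply Finset.sum_congr rfl
  intro i _
  rw [d4_mono_mulVec, d4_mono_mulVec, mul_pow]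
  have h1 := hc i
  rw [pow_succ] at h1
  calc c i * u (σ i) * (c i ^ q * v (σ i) ^ q) = (c i ^ q * c i) * (u (σ i) * v (σ i) ^ q) := by ring
    _ = u (σ i) * v (σ i) ^ q := by rw [h1, one_mul]

theorem d4_mono_not_scalar (σ : Equiv.Perm (Fin n)) (c : Fin n → F) (i : Fin n) (hi : σ i ≠ i)
    (hci : c i ≠ 0) (w : F) : d4_mono σ c ≠ w • (1 : Matrix (Fin n) (Fin n) F) := by
  intro h
  have h1 := congrFun (congrFun h i) (σ i)
  rw [Matrix.smul_apply, Matrix.one_apply_ne (Ne.symm hi)] at h1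
  simp [d4_mono] at h1
  exact hci h1

end d4_mono

/-- the concrete permutation and coefficients: `t` disjoint `r`-cycles, one entry `z` per cycle -/
theorem d4_exists_mono {F : Type*} [Field F] (n r t : ℕ) (hr : 2 ≤ r) (hn : 0 < n) (hnrt : t * r = n)
    (z : F) (hz0 : z ≠ 0) :
    ∃ (σ : Equiv.Perm (Fin n)) (c : Fin n → F), σ ^ r = 1 ∧
      (∀ i, ∏ l ∈ Finset.range r, c ((σ ^ l) i) = z) ∧ (∀ i, c i = 1 ∨ c i = z) ∧
      (∀ i, σ i ≠ i) := by
  classical
  have : NeZero r := ⟨by omega⟩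
  have : Fact (1 < r) := ⟨by omega⟩
  have hcard : Fintype.card (Fin t × ZMod r) = n := by
    rw [Fintype.card_prod, Fintype.card_fin, ZMod.card, hnrt]
  set e : Fin t × ZMod r ≃ Fin n := Fintype.equivFinOfCardEq hcard with he
  set σ₀ : Equiv.Perm (Fin t × ZMod r) :=
    Equiv.prodCongr (Equiv.refl (Fin t)) (Equiv.addRight (1 : ZMod r)) with hσ₀
  have hσ₀pow : ∀ (l : ℕ) (x : Fin t × ZMod r), (σ₀ ^ l) x = (x.1, x.2 + (l : ZMod r)) := by
    intro l
    induction l with
    | zero => intro x; simp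
    | succ l ih =>
      intro x
      rw [pow_succ', Equiv.Perm.mul_apply, ih]
      simp only [hσ₀, Equiv.prodCongr_apply, Prod.map_apply, Equiv.refl_apply, Equiv.coe_addRight]
      push_cast
      rw [add_assoc]
  set σ : Equiv.Perm (Fin n) := e.symm.trans (σ₀.trans e) with hσ
  have hσpow : ∀ (l : ℕ) (i : Fin n), (σ ^ l) i = e ((σ₀ ^ l) (e.symm i)) := by
    intro l
    induction l with
    | zero => intro i; simp
    | succ l ih =>
      intro i
      rw [pow_succ', Equiv.Perm.mul_apply, ih, pow_succ', Equiv.Perm.mul_apply]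
      simp [hσ]
  set c : Fin n → F := fun i => if (e.symm i).2 = 0 then z else 1 with hc
  refine ⟨σ, c, ?_, ?_, ?_, ?_⟩
  · ext i
    rw [hσpow, hσ₀pow, ZMod.natCast_self, add_zero]
    simp
  · intro i
    have h1 : ∀ l ∈ Finset.range r, c ((σ ^ l) i) =
        if l = (-(e.symm i).2).val then z else 1 := by
      intro l hl
      rw [Finset.mem_range] at hl
      rw [hσpow, hσ₀pow]
      simp only [hc, Equiv.symm_apply_apply]
      congr 1
      apply propext
      constructor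
      · intro h2
        have h3 : (l : ZMod r) = -(e.symm i).2 := by
          rw [eq_neg_iff_add_eq_zero, add_comm]; exact h2
        rw [← h3, ZMod.val_natCast_of_lt hl]
      · intro h2
        rw [h2, ZMod.natCast_zmod_val, add_neg_cancel]
    rw [Finset.prod_congr rfl h1, Finset.prod_ite_eq', if_pos]
    rw [Finset.mem_range]
    exact ZMod.val_lt _
  · intro i
    simp only [hc]
    split_ifs
    · right; rfl
    · left; rfl
  · intro i h
    have h1 : σ i = e (σ₀ (e.symm i)) := by simp [hσ]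
    rw [h1] at h
    have h2 : σ₀ (e.symm i) = e.symm i := by
      rw [← e.symm_apply_apply (σ₀ (e.symm i)), h]
    have h3 : (e.symm i).2 + 1 = (e.symm i).2 := congrArg Prod.snd h2
    have h4 : (1 : ZMod r) = 0 := by
      have h5 : (e.symm i).2 + 1 = (e.symm i).2 + 0 := by rw [h3, add_zero]
      exact add_left_cancel h5
    exact one_ne_zero h4

section top
variable {F : Type*} [Field F] [Fintype F] {p : ℕ} [Fact p.Prime] [CharP F p] {q : ℕ}

/-- TU-D4.  `i = 2`, `r ∤ m`, `v_r(q+1) < v_r(n)`: `z` of order `r^{v_r(q+1)}` in `μ_{q+1}`,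
`x = D · P_σ` monomial, `σ` = product of `n/r` disjoint `r`-cycles, `D` diagonal with one entry `z` per cycle:
unitary, `x^r = z`, `det x = z^(n/r) = 1`; `X^r - z` irreducible, so every invariant subspace has
dimension divisible by `r`. -/
theorem bad_irr (hq : Fintype.card F = q ^ 2) (r : ℕ) (hr : r.Prime) (hr2 : r ≠ 2) (hrp : r ≠ p)
    (n m : ℕ) (hn : 3 ≤ n) (hm : 1 ≤ m) (hmn : 2 * m ≤ n)
    (hi : orderOf (q : ZMod r) = 2) (hrm : ¬ r ∣ m) (hv : padicValNat r (q + 1) < padicValNat r n) :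
    ∃ x : Matrix.SpecialLinearGroup (Fin n) F, IsBad n q m r x := by
  classical
  have : Fact r.Prime := ⟨hr⟩
  have hq2 := Cfsg.Agent.Lib.Helper44.two_le_q_of_card hq
  -- arithmetic: `r ∣ q + 1`, `r ∤ q - 1`
  have hfac : q ^ 2 - 1 = (q - 1) * (q + 1) := by
    obtain ⟨t, rfl⟩ : ∃ t, q = t + 1 := ⟨q - 1, by omega⟩
    simp only [Nat.add_sub_cancel]
    have : (t + 1) ^ 2 = t * (t + 1 + 1) + 1 := by ring
    rw [this, Nat.add_sub_cancel]
  have hq21 : ((q : ZMod r)) ^ 2 = 1 := by rw [← hi]; exact pow_orderOf_eq_one _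
  have hq1 : (q : ZMod r) ≠ 1 := by
    intro h1
    have : orderOf (q : ZMod r) = 1 := by rw [h1]; exact orderOf_one
    omega
  have hrq1 : ¬ r ∣ q - 1 := by
    intro h1
    apply hq1
    have h2 : ((q - 1 : ℕ) : ZMod r) = 0 := (ZMod.natCast_eq_zero_iff _ _).2 h1
    rw [Nat.cast_sub (by omega), Nat.cast_one, sub_eq_zero] at h2
    exact h2
  have hrq : r ∣ q + 1 := by
    have h1 : ((q ^ 2 - 1 : ℕ) : ZMod r) = 0 := by
      rw [Nat.cast_sub (by nlinarith), Nat.cast_pow, hq21, Nat.cast_one, sub_self]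
    rw [ZMod.natCast_eq_zero_iff, hfac] at h1
    rcases (Nat.Prime.dvd_mul hr).1 h1 with h2 | h2
    · exact absurd h2 hrq1
    · exact h2
  have hval : padicValNat r (Fintype.card F - 1) = padicValNat r (q + 1) := by
    rw [hq, hfac, padicValNat.mul (by omega) (by omega),
      padicValNat.eq_zero_of_not_dvd hrq1, zero_add]
  obtain ⟨z, hz0, hzpow, hznot⟩ := exists_not_pow (F := F) hr (by
    rw [hq, hfac]; exact Dvd.dvd.mul_left hrq _)
  rw [hval] at hzpow
  set s := padicValNat r (q + 1) with hs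
  have hzq : z ^ (q + 1) = 1 := by
    obtain ⟨k, hk⟩ : r ^ s ∣ q + 1 := pow_padicValNat_dvd
    rw [hk, pow_mul, hzpow, one_pow]
  -- `n = t * r` with `r ^ s ∣ t`
  have hrs1 : r ^ (s + 1) ∣ n :=
    dvd_trans (pow_dvd_pow r (by omega : s + 1 ≤ padicValNat r n)) pow_padicValNat_dvd
  obtain ⟨t, ht⟩ : ∃ t, t * r = n ∧ z ^ t = 1 := by
    obtain ⟨k, hk⟩ := hrs1
    refine ⟨r ^ s * k, by rw [hk, pow_succ]; ring, ?_⟩
    rw [pow_mul, hzpow, one_pow]
  obtain ⟨htn, hzt⟩ := ht
  obtain ⟨σ, c, hσr, hcprod, hc1z, hσne⟩ :=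
    d4_exists_mono n r t hr.two_le (by omega) htn z hz0
  have hcq : ∀ i, c i ^ (q + 1) = 1 := by
    intro i
    rcases hc1z i with h | h
    · rw [h, one_pow]
    · rw [h, hzq]
  have hc0 : ∀ i, c i ≠ 0 := by
    intro i h0
    have := hcq i
    rw [h0, zero_pow (by omega)] at this
    exact zero_ne_one this
  set M := d4_mono σ c with hM
  have hMr : M ^ r = z • (1 : Matrix (Fin n) (Fin n) F) := d4_mono_pow_eq σ c r z hσr hcprod
  -- the linear map
  set f : Module.End F (Fin n → F) := Matrix.toLin' M with hf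
  have hfr : f ^ r = algebraMap F _ z := by
    rw [hf, ← Matrix.toLin'_pow, hMr]
    apply LinearMap.ext
    intro v
    rw [Matrix.toLin'_apply, Matrix.smul_mulVec, Matrix.one_mulVec, Module.algebraMap_end_apply]
  have hirr : Irreducible (X ^ r - C z : F[X]) := X_pow_sub_C_irreducible_of_prime hr hznot
  have hfP : aeval f (X ^ r - C z : F[X]) = 0 := by
    rw [map_sub, map_pow, aeval_X, aeval_C, hfr, sub_self]
  have hdet : M.det = 1 := by
    obtain ⟨d, hd1, hd2⟩ := det_of_pow_eq z hznot f hfr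
    rw [Module.finrank_fin_fun] at hd1
    have hdt : d = t := by
      have : r * d = r * t := by rw [← hd1, ← htn, mul_comm]
      exact Nat.eq_of_mul_eq_mul_left hr.pos this
    rw [hf, LinearMap.det_toLin'] at hd2
    rw [hd2, hdt]
    have hodd : Odd r := hr.odd_of_ne_two hr2
    have heven : Even (r + 1) := by
      obtain ⟨k, hk⟩ := hodd
      exact ⟨k + 1, by omega⟩
    rw [heven.neg_one_pow, one_mul, hzt]
  obtain ⟨x, hx⟩ : ∃ x : Matrix.SpecialLinearGroup (Fin n) F,
      (x : Matrix (Fin n) (Fin n) F) = M := ⟨⟨_, hdet⟩, rfl⟩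
  refine ⟨x, ?_, ?_, ?_, ?_⟩
  · intro u v
    show Cfsg.hermForm n F q ((x : Matrix (Fin n) (Fin n) F).mulVec u)
      ((x : Matrix (Fin n) (Fin n) F).mulVec v) = _
    rw [hx]
    exact d4_mono_unitary σ c q hcq u v
  · refine ⟨z, ?_⟩
    rw [Matrix.SpecialLinearGroup.coe_pow, hx, hMr]
  · intro w
    rw [hx]
    exact d4_mono_not_scalar σ c ⟨0, by omega⟩ (hσne _) (hc0 _) w
  · rintro ⟨W, hWm, -, hWinv⟩
    rw [hx] at hWinv
    have hss : f.IsSemisimple :=
      Module.End.isSemisimple_of_squarefree_aeval_eq_zero hirr.squarefree hfP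
    have hP0 : (X ^ r - C z : F[X]) ≠ 0 := hirr.ne_zero
    have hdeg : AllIrrDeg (X ^ r - C z : F[X]) r := by
      have := allIrrDeg_of_irreducible hirr
      rwa [natDegree_X_pow_sub_C] at this
    have hWInv : Inv f W := (inv_iff_map_le f W).2 hWinv
    have := dvd_finrank_of_inv hss hP0 hdeg m W hWm hWInv (fun v _ => by rw [hfP]; rfl)
    rw [hWm] at this
    exact hrm this

end top

end Cfsg.Agent.Lib.Helper14.Tu
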