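import Mathlib
import Cfsg.Prelude.Def_Classical
import Cfsg.Prelude.Def_LieClassical
import Cfsg.Agent.Lib.Helper14.TuDefs

/-!
# S5953 hive ("Tu", owner helper14), leaf TU-SUM: block sums of unitary matrices are unitary
-/

set_option autoImplicit false

namespace Cfsg.Agent.Lib.Helper14.Tu

open Cfsg.Agent.Lib.Helper40.Herm Cfsg.Agent.Lib.Helper2.BG Polynomial Module

section ex
variable {F : Type*} [Field F]

/-- the block sum matrix -/
def sum_blk {a b : ℕ} (A : Matrix (Fin a) (Fin a) F) (B : Matrix (Fin b) (Fin b) F) :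
    Matrix (Fin (a + b)) (Fin (a + b)) F :=
  Matrix.reindex finSumFinEquiv finSumFinEquiv (Matrix.fromBlocks A 0 0 B)

theorem sum_blk_mul {a b : ℕ} (A A' : Matrix (Fin a) (Fin a) F) (B B' : Matrix (Fin b) (Fin b) F) :
    sum_blk A B * sum_blk A' B' = sum_blk (A * A') (B * B') := by
  unfold sum_blk
  rw [Matrix.reindex_apply, Matrix.reindex_apply, Matrix.reindex_apply, Matrix.submatrix_mul_equiv,
    Matrix.fromBlocks_multiply]
  simp

theorem sum_blk_one {a b : ℕ} : sum_blk (1 : Matrix (Fin a) (Fin a) F) (1 : Matrix (Fin b) (Fin b) F) = 1 := by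
  unfold sum_blk
  rw [Matrix.fromBlocks_one]
  simp

theorem sum_blk_mulVec_castAdd {a b : ℕ} (A : Matrix (Fin a) (Fin a) F) (B : Matrix (Fin b) (Fin b) F)
    (u : Fin (a + b) → F) (i : Fin a) :
    (sum_blk A B).mulVec u (Fin.castAdd b i) = A.mulVec (fun j => u (Fin.castAdd b j)) i := by
  unfold sum_blk
  simp only [Matrix.mulVec, dotProduct, Fin.sum_univ_add, Matrix.reindex_apply, Matrix.submatrix_apply,
    finSumFinEquiv_symm_apply_castAdd, finSumFinEquiv_symm_apply_natAdd, Matrix.fromBlocks_apply₁₁,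
    Matrix.fromBlocks_apply₁₂, Matrix.zero_apply, zero_mul, Finset.sum_const_zero, add_zero]

theorem sum_blk_mulVec_natAdd {a b : ℕ} (A : Matrix (Fin a) (Fin a) F) (B : Matrix (Fin b) (Fin b) F)
    (u : Fin (a + b) → F) (i : Fin b) :
    (sum_blk A B).mulVec u (Fin.natAdd a i) = B.mulVec (fun j => u (Fin.natAdd a j)) i := by
  unfold sum_blk
  simp only [Matrix.mulVec, dotProduct, Fin.sum_univ_add, Matrix.reindex_apply, Matrix.submatrix_apply,
    finSumFinEquiv_symm_apply_castAdd, finSumFinEquiv_symm_apply_natAdd, Matrix.fromBlocks_apply₂₁,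
    Matrix.fromBlocks_apply₂₂, Matrix.zero_apply, zero_mul, Finset.sum_const_zero, zero_add]

theorem sum_hermForm_add (a b q : ℕ) (u v : Fin (a + b) → F) :
    Cfsg.hermForm (a + b) F q u v =
      Cfsg.hermForm a F q (fun j => u (Fin.castAdd b j)) (fun j => v (Fin.castAdd b j)) +
      Cfsg.hermForm b F q (fun j => u (Fin.natAdd a j)) (fun j => v (Fin.natAdd a j)) := by
  unfold Cfsg.hermForm
  rw [Fin.sum_univ_add]

/-- general version: block sums of form-preserving matrices preserve the form -/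
theorem sum_blk_preserves {a b q : ℕ} (A : Matrix (Fin a) (Fin a) F) (B : Matrix (Fin b) (Fin b) F)
    (hA : ∀ u v, Cfsg.hermForm a F q (A.mulVec u) (A.mulVec v) = Cfsg.hermForm a F q u v)
    (hB : ∀ u v, Cfsg.hermForm b F q (B.mulVec u) (B.mulVec v) = Cfsg.hermForm b F q u v)
    (u v : Fin (a + b) → F) :
    Cfsg.hermForm (a + b) F q ((sum_blk A B).mulVec u) ((sum_blk A B).mulVec v) =
      Cfsg.hermForm (a + b) F q u v := by
  rw [sum_hermForm_add, sum_hermForm_add a b q u v]
  simp only [sum_blk_mulVec_castAdd, sum_blk_mulVec_natAdd]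
  rw [show (fun j => A.mulVec (fun j => u (Fin.castAdd b j)) j) = A.mulVec (fun j => u (Fin.castAdd b j)) from rfl,
    show (fun j => A.mulVec (fun j => v (Fin.castAdd b j)) j) = A.mulVec (fun j => v (Fin.castAdd b j)) from rfl,
    show (fun j => B.mulVec (fun j => u (Fin.natAdd a j)) j) = B.mulVec (fun j => u (Fin.natAdd a j)) from rfl,
    show (fun j => B.mulVec (fun j => v (Fin.natAdd a j)) j) = B.mulVec (fun j => v (Fin.natAdd a j)) from rfl,
    hA, hB]

/-- the block sum as an element of `GL` -/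
def sum_GL {a b : ℕ} (A : GL (Fin a) F) (B : GL (Fin b) F) : GL (Fin (a + b)) F where
  val := sum_blk A.val B.val
  inv := sum_blk A.inv B.inv
  val_inv := by rw [sum_blk_mul, A.val_inv, B.val_inv, sum_blk_one]
  inv_val := by rw [sum_blk_mul, A.inv_val, B.inv_val, sum_blk_one]

variable [Fintype F] {p : ℕ} [Fact p.Prime] [CharP F p] {q : ℕ}

/-- TU-SUM.  Block sums of unitary matrices are unitary. -/
theorem blockSum_mem_GU (hq : Fintype.card F = q ^ 2) (a b : ℕ) (A : GL (Fin a) F) (B : GL (Fin b) F)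
    (hA : A ∈ Cfsg.GU a F q) (hB : B ∈ Cfsg.GU b F q) :
    ∃ X : GL (Fin (a + b)) F, X ∈ Cfsg.GU (a + b) F q ∧
      (X : Matrix (Fin (a + b)) (Fin (a + b)) F) =
        Matrix.reindex finSumFinEquiv finSumFinEquiv
          (Matrix.fromBlocks (A : Matrix (Fin a) (Fin a) F) 0 0 (B : Matrix (Fin b) (Fin b) F)) := by
  refine ⟨sum_GL A B, ?_, rfl⟩
  intro u v
  exact sum_blk_preserves A.val B.val (fun u v => hA u v) (fun u v => hB u v) u v

end ex

end Cfsg.Agent.Lib.Helper14.Tu
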