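import Mathlib
import Cfsg.Prelude.Def_Classical
import Cfsg.Prelude.Def_LieClassical
import Cfsg.Agent.Lib.Helper14.TuDefs

/-!
# S5953 hive ("Tu", owner helper14), leaf TU-T2B: `r = 2`, `n = 2m`, `v₂(n) < v₂(q+1)`: a bad involution
-/

set_option autoImplicit false

namespace Cfsg.Agent.Lib.Helper14.Tu

open Cfsg.Agent.Lib.Helper40.Herm Cfsg.Agent.Lib.Helper2.BG Polynomial Module

section t2b_abs
variable {F : Type*} [Field F] {τ : F →+* F} {V : Type*} [AddCommGroup V] [Module F V]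
  [FiniteDimensional F V] {H : V →ₗ[F] V →ₛₗ[τ] F}

/-- a totally isotropic subspace of a nondegenerate subspace has at most half the dimension
(any `τ`) -/
theorem t2b_half (hH : IsHermitian H) {Z W : Submodule F V} (hZ : HNondegOn H Z)
    (hWZ : W ≤ Z) (hW : HIsotropic H W) : 2 * finrank F ↥W ≤ finrank F ↥Z := by
  obtain ⟨C', hC'⟩ := Submodule.exists_isCompl W
  set C := C' ⊓ Z with hC
  have hsup : W ⊔ C = Z := by
    rw [hC, ← sup_inf_assoc_of_le C' hWZ, hC'.sup_eq_top, top_inf_eq]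
  have hinf : W ⊓ C = ⊥ := by
    rw [hC, ← inf_assoc, hC'.inf_eq_bot, bot_inf_eq]
  have hle : finrank F ↥W ≤ finrank F ↥C := by
    apply finrank_le_of_sep (H := H) C W
    intro w hw h
    apply hZ w (hWZ hw)
    intro y hy
    rw [← hsup] at hy
    obtain ⟨a, ha, b, hb, rfl⟩ := Submodule.mem_sup.1 hy
    rw [map_add, hW w hw a ha, h b hb, add_zero]
  have hdim := Submodule.finrank_sup_add_finrank_inf_eq W C
  rw [hsup, hinf, finrank_bot, add_zero] at hdim
  omega

end t2b_abs

/-- an element `λ` of norm one with `λ ^ n = -1` when `v₂(n) < v₂(q+1)` -/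
theorem t2b_exists_lam {F : Type*} [Field F] [Fintype F] {q : ℕ} (hq : Fintype.card F = q ^ 2)
    (n : ℕ) (hn : 0 < n) (h : padicValNat 2 n < padicValNat 2 (q + 1)) :
    ∃ lam : F, lam ^ (q + 1) = 1 ∧ lam ^ n = -1 := by
  classical
  have hq2 := Cfsg.Agent.Lib.Helper44.two_le_q_of_card hq
  set a := padicValNat 2 n with ha
  have h2 : 2 ^ (a + 1) ∣ q + 1 :=
    dvd_trans (pow_dvd_pow 2 (by omega : a + 1 ≤ padicValNat 2 (q + 1))) pow_padicValNat_dvd
  obtain ⟨n', hn'⟩ : 2 ^ a ∣ n := pow_padicValNat_dvd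
  have hn'odd : Odd n' := by
    rw [← Nat.not_even_iff_odd]
    intro he
    obtain ⟨k, hk⟩ := he
    have h3 : 2 ^ (a + 1) ∣ n := ⟨k, by rw [hn', hk]; ring⟩
    have := (padicValNat_dvd_iff_le (p := 2) (by omega : n ≠ 0)).1 h3
    omega
  obtain ⟨g, hg⟩ := IsCyclic.exists_generator (α := Fˣ)
  have hcard : Nat.card Fˣ = q ^ 2 - 1 := by
    rw [Nat.card_eq_fintype_card, Fintype.card_units, hq]
  have hord : orderOf g = q ^ 2 - 1 := by
    rw [orderOf_eq_card_of_forall_mem_zpowers hg, hcard]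
  have hfac : q ^ 2 - 1 = (q - 1) * (q + 1) := by
    obtain ⟨t, rfl⟩ : ∃ t, q = t + 1 := ⟨q - 1, by omega⟩
    simp only [Nat.add_sub_cancel]
    have : (t + 1) ^ 2 = t * (t + 1 + 1) + 1 := by ring
    rw [this, Nat.add_sub_cancel]
  have hdvd : 2 ^ (a + 1) ∣ q ^ 2 - 1 := by
    rw [hfac]; exact Dvd.dvd.mul_left h2 _
  obtain ⟨k, hk⟩ := hdvd
  have hpos : 0 < q ^ 2 - 1 := by
    have : 4 ≤ q ^ 2 := by nlinarith
    omega
  have hk0 : k ≠ 0 := by
    rintro rfl
    rw [mul_zero] at hk; omega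
  set l : Fˣ := g ^ k with hl
  have hlord : orderOf l = 2 ^ (a + 1) := by
    rw [hl, orderOf_pow_of_dvd hk0 (by rw [hord, hk]; exact Dvd.intro_left _ rfl), hord, hk]
    exact Nat.mul_div_cancel _ (Nat.pos_of_ne_zero hk0)
  have hl1 : l ^ (q + 1) = 1 := orderOf_dvd_iff_pow_eq_one.1 (hlord ▸ h2)
  have hmu2 : (l ^ 2 ^ a) ^ 2 = 1 := by
    rw [← pow_mul, ← pow_succ, ← hlord, pow_orderOf_eq_one]
  have hmu1 : l ^ 2 ^ a ≠ 1 := by
    apply pow_ne_one_of_lt_orderOf (by positivity)
    rw [hlord]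
    exact Nat.pow_lt_pow_right (by norm_num) (by omega)
  have hmuF : ((l : F) ^ 2 ^ a) = -1 := by
    have h4 : ((l : F) ^ 2 ^ a) ^ 2 = 1 := by
      have := congrArg (fun u : Fˣ => (u : F)) hmu2
      simpa using this
    rcases sq_eq_one_iff.1 h4 with h5 | h5
    · exfalso; apply hmu1; apply Units.ext; simpa using h5
    · exact h5
  refine ⟨(l : F), ?_, ?_⟩
  · have := congrArg (fun u : Fˣ => (u : F)) hl1
    simpa using this
  · rw [hn', pow_mul, hmuF, hn'odd.neg_one_pow]

section top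
variable {F : Type*} [Field F] [Fintype F] {p : ℕ} [Fact p.Prime] [CharP F p] {q : ℕ}

/-- TU-T2B.  `r = 2`, `p` odd, `n = 2m`, `v₂(n) < v₂(q+1)`: `λ ∈ μ_{q+1}` with `λ^n = -1`,
`x = λ · diag(-1, 1, …, 1)`; an invariant isotropic `W` lies in `e₁^⊥` of dimension `n - 1`. -/
theorem two_bad (hq : Fintype.card F = q ^ 2) (hp2 : p ≠ 2) (n m : ℕ) (hn : 3 ≤ n) (hm : 1 ≤ m)
    (hnm : n = 2 * m) (h : padicValNat 2 n < padicValNat 2 (q + 1)) :
    ∃ x : Matrix.SpecialLinearGroup (Fin n) F, IsBad n q m 2 x := by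
  classical
  obtain ⟨lam, hlq, hln⟩ := t2b_exists_lam hq n (by omega) h
  have hq2 := Cfsg.Agent.Lib.Helper44.two_le_q_of_card hq
  have h2F : (2 : F) ≠ 0 := by
    intro h2
    have h3 : (p : ℕ) ∣ 2 := (CharP.cast_eq_zero_iff F p 2).1 (by exact_mod_cast h2)
    exact hp2 ((Nat.prime_dvd_prime_iff_eq Fact.out Nat.prime_two).1 h3)
  have hqodd : Odd q := by
    have h1 : Fintype.card F % 2 = 1 :=
      FiniteField.odd_card_of_char_ne_two (by rw [ringChar.eq F p]; exact hp2)
    rw [hq] at h1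
    rw [← Nat.not_even_iff_odd]
    intro he
    have h3 : Even (q ^ 2) := (Nat.even_pow.2 ⟨he, by norm_num⟩)
    rw [Nat.even_iff] at h3; omega
  have hlam0 : lam ≠ 0 := by
    intro h0; rw [h0, zero_pow (by omega)] at hlq; exact zero_ne_one hlq
  set i₀ : Fin n := ⟨0, by omega⟩ with hi₀
  set i₁ : Fin n := ⟨1, by omega⟩ with hi₁
  have hi01 : i₁ ≠ i₀ := by simp [hi₀, hi₁, Fin.ext_iff]
  set d : Fin n → F := fun i => if i = i₀ then -lam else lam with hd
  have hdq : ∀ i, d i ^ (q + 1) = 1 := by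
    intro i
    simp only [hd]
    split_ifs
    · rw [Even.neg_pow (by obtain ⟨k, hk⟩ := hqodd; exact ⟨k + 1, by omega⟩), hlq]
    · exact hlq
  have hdet : (Matrix.diagonal d).det = 1 := by
    rw [Matrix.det_diagonal]
    have h1 : ∀ i, d i = lam * (if i = i₀ then -1 else 1) := by
      intro i; simp only [hd]; split_ifs <;> ring
    simp_rw [h1]
    rw [Finset.prod_mul_distrib, Finset.prod_const, Finset.card_univ, Fintype.card_fin, hln,
      Finset.prod_ite_eq']
    simp
  obtain ⟨x, hx⟩ : ∃ x : Matrix.SpecialLinearGroup (Fin n) F,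
      (x : Matrix (Fin n) (Fin n) F) = Matrix.diagonal d := ⟨⟨_, hdet⟩, rfl⟩
  refine ⟨x, ?_, ?_, ?_, ?_⟩
  · intro u v
    show Cfsg.hermForm n F q ((x : Matrix (Fin n) (Fin n) F).mulVec u)
      ((x : Matrix (Fin n) (Fin n) F).mulVec v) = _
    rw [hx]
    unfold Cfsg.hermForm
    apply Finset.sum_congr rfl
    intro i _
    rw [Matrix.mulVec_diagonal, Matrix.mulVec_diagonal, mul_pow]
    have h1 := hdq i
    rw [pow_succ] at h1
    calc d i * u i * (d i ^ q * v i ^ q) = (d i ^ q * d i) * (u i * v i ^ q) := by ring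
      _ = u i * v i ^ q := by rw [h1, one_mul]
  · refine ⟨lam ^ 2, ?_⟩
    rw [Matrix.SpecialLinearGroup.coe_pow, hx]
    rw [pow_two, Matrix.diagonal_mul_diagonal, Matrix.smul_one_eq_diagonal]
    congr 1
    funext i
    simp only [hd]
    split_ifs <;> ring
  · intro z hz
    rw [hx] at hz
    have h0 := congrFun (congrFun hz i₀) i₀
    have h1 := congrFun (congrFun hz i₁) i₁
    rw [Matrix.diagonal_apply_eq, Matrix.smul_apply, Matrix.one_apply_eq] at h0 h1
    simp only [hd, if_true, if_neg hi01, smul_eq_mul, mul_one] at h0 h1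
    have h3 : (2 * lam) = 0 := by rw [two_mul]; nth_rewrite 1 [h1]; rw [← h0]; ring
    exact mul_ne_zero h2F hlam0 h3
  · rintro ⟨W, hWm, hWiso, hWinv⟩
    rw [hx] at hWinv
    set Z : Submodule F (Fin n → F) := LinearMap.ker (LinearMap.proj i₀ : (Fin n → F) →ₗ[F] F) with hZ
    have hZmem : ∀ v : Fin n → F, v ∈ Z ↔ v i₀ = 0 := fun v => by rw [hZ, LinearMap.mem_ker]; rfl
    have hZdim : finrank F ↥Z + 1 = n := by
      have h1 := LinearMap.finrank_range_add_finrank_ker (LinearMap.proj i₀ : (Fin n → F) →ₗ[F] F)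
      rw [LinearMap.range_eq_top.2 (LinearMap.proj_surjective i₀), finrank_top, finrank_self,
        Module.finrank_fin_fun] at h1
      rw [hZ]
      omega
    have hZnd : HNondegOn (stdHerm hq n) Z := by
      intro x hx hxy
      funext i
      by_cases hi : i = i₀
      · rw [hi]; exact (hZmem x).1 hx
      · have h1 := hxy (Pi.single i 1) ((hZmem _).2 (by
          rw [Pi.single_apply, if_neg (Ne.symm hi)]))
        rw [stdHerm_apply, Cfsg.hermForm, Finset.sum_eq_single i] at h1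
        · simpa using h1
        · intro j _ hj
          rw [Pi.single_apply, if_neg hj, zero_pow (by omega), mul_zero]
        · intro h; exact absurd (Finset.mem_univ i) h
    have hWZ : W ≤ Z := by
      intro w hw
      rw [hZmem]
      have h1 : Matrix.toLin' (Matrix.diagonal d) w ∈ W := hWinv (Submodule.mem_map_of_mem hw)
      rw [Matrix.toLin'_apply] at h1
      have h2 : (Matrix.diagonal d).mulVec w - lam • w ∈ W := W.sub_mem h1 (W.smul_mem _ hw)
      have h3 := hWiso _ h2 _ h2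
      unfold Cfsg.hermForm at h3
      rw [Finset.sum_eq_single i₀] at h3
      · simp only [Pi.sub_apply, Matrix.mulVec_diagonal, Pi.smul_apply, smul_eq_mul, hd, if_true]
          at h3
        have h4 : -lam * w i₀ - lam * w i₀ = 0 := by
          rcases mul_eq_zero.1 h3 with h | h
          · exact h
          · exact (pow_eq_zero_iff (by omega)).1 h
        have h5 : (2 * lam) * w i₀ = 0 := by linear_combination -h4
        rcases mul_eq_zero.1 h5 with h | h
        · exact absurd h (mul_ne_zero h2F hlam0)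
        · exact h
      · intro j _ hj
        simp [Matrix.mulVec_diagonal, hd, hj]
      · intro h; exact absurd (Finset.mem_univ _) h
    have h6 := t2b_half (stdHerm_isHermitian hq n) hZnd hWZ
      (fun u hu v hv => by rw [stdHerm_apply]; exact hWiso u hu v hv)
    omega

end top

end Cfsg.Agent.Lib.Helper14.Tu
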