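import Mathlib
import Cfsg.Agent.Lib.Helper21.ItoTwo
import Cfsg.Agent.Lib.Helper1.Gaschutz
import Cfsg.Agent.Lib.Helper1.SylowSystem

set_option autoImplicit false
set_option linter.style.haveILetI false

/-!
Finite groups whose two largest class sizes are coprime: basic infrastructure.
-/

namespace Cfsg.Agent.Lib.Helper21

open Subgroup

universe u

variable {G : Type u} [Group G]

/-- The class size of `g`. -/
noncomputable def tlCs (g : G) : ℕ := (centralizer ({g} : Set G)).index

theorem tlCs_def (g : G) : tlCs g = (centralizer ({g} : Set G)).index := rfl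

/-- The conjugacy class of `g` as a set. -/
def tlCl (g : G) : Set G := {x | ∃ h : G, x = h * g * h⁻¹}

theorem tl_mem_cl (g h : G) : h * g * h⁻¹ ∈ tlCl g := ⟨h, rfl⟩

theorem tl_self_mem_cl (g : G) : g ∈ tlCl g := ⟨1, by simp⟩

theorem tl_cent_conj (g h : G) :
    centralizer ({h * g * h⁻¹} : Set G) =
      (centralizer ({g} : Set G)).map (MulAut.conj h).toMonoidHom := by
  ext x
  rw [mem_map, mem_centralizer_singleton_iff]
  constructor
  · intro hx
    refine ⟨h⁻¹ * x * h, ?_, by simp [MulAut.conj_apply, mul_assoc]⟩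
    rw [mem_centralizer_singleton_iff]
    have : h⁻¹ * x * h * g = h⁻¹ * (x * (h * g * h⁻¹)) * h := by group
    rw [this, hx]
    group
  · rintro ⟨t, ht, rfl⟩
    rw [mem_centralizer_singleton_iff] at ht
    simp only [MulEquiv.coe_toMonoidHom, MulAut.conj_apply]
    have : h * t * h⁻¹ * (h * g * h⁻¹) = h * (t * g) * h⁻¹ := by group
    rw [this, ht]
    group

theorem tlCs_conj (g h : G) : tlCs (h * g * h⁻¹) = tlCs g := by
  rw [tlCs_def, tl_cent_conj, tlCs_def]
  exact index_map_equiv _ (MulAut.conj h)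

theorem tlCs_inv (g : G) : tlCs g⁻¹ = tlCs g := by
  rw [tlCs_def, tlCs_def]
  congr 1
  ext x
  rw [mem_centralizer_singleton_iff, mem_centralizer_singleton_iff]
  constructor
  · intro hx
    have : Commute x g⁻¹ := hx
    exact (Commute.inv_right_iff.1 this).eq
  · intro hx
    have : Commute x g := hx
    exact (this.inv_right).eq

theorem tlCs_central_mul {z : G} (hz : z ∈ center G) (g : G) : tlCs (z * g) = tlCs g := by
  rw [tlCs_def, tlCs_def]
  congr 1
  ext x
  rw [mem_centralizer_singleton_iff, mem_centralizer_singleton_iff]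
  have hzx : z * x = x * z := (mem_center_iff.1 hz x).symm
  constructor
  · intro hx
    have h1 : z * (x * g) = z * (g * x) := by
      calc z * (x * g) = x * (z * g) := by rw [← mul_assoc, hzx, mul_assoc]
        _ = z * g * x := hx
        _ = z * (g * x) := by rw [mul_assoc]
    exact mul_left_cancel h1
  · intro hx
    calc x * (z * g) = z * (x * g) := by rw [← mul_assoc, ← hzx, mul_assoc]
      _ = z * (g * x) := by rw [hx]
      _ = z * g * x := by rw [mul_assoc]

theorem tlCs_eq_one_iff (g : G) : tlCs g = 1 ↔ g ∈ center G := by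
  rw [tlCs_def, index_eq_one, ito_cent_eq_top_iff]

theorem tlCs_pos [Finite G] (g : G) : 0 < tlCs g :=
  Nat.pos_of_ne_zero index_ne_zero_of_finite

/-- Orbit of `g` under conjugation by a subgroup `T` has `|T : C_T(g)|` elements. -/
theorem tl_orbit_ncard [Finite G] (T : Subgroup G) (g : G) :
    Set.ncard {x : G | ∃ t ∈ T, x = t * g * t⁻¹} = (centralizer ({g} : Set G)).relIndex T := by
  let φ : ↥T →* MulAut G := (MulAut.conj).comp T.subtype
  letI : MulAction ↥T G := MulAction.compHom G φ
  have hsmul : ∀ (t : ↥T) (x : G), t • x = (t : G) * x * (t : G)⁻¹ := by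
    intro t x
    show (φ t) x = _
    simp [φ, MulAut.conj_apply]
  have horb : MulAction.orbit ↥T g = {x : G | ∃ t ∈ T, x = t * g * t⁻¹} := by
    ext y
    constructor
    · rintro ⟨t, rfl⟩
      exact ⟨t, t.2, hsmul t g⟩
    · rintro ⟨t, ht, rfl⟩
      exact ⟨⟨t, ht⟩, hsmul ⟨t, ht⟩ g⟩
  have hstab : MulAction.stabilizer ↥T g = (centralizer ({g} : Set G)).subgroupOf T := by
    ext t
    rw [MulAction.mem_stabilizer_iff, hsmul, mem_subgroupOf, mem_centralizer_singleton_iff]
    constructor
    · intro h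
      calc (t : G) * g = ((t : G) * g * (t : G)⁻¹) * (t : G) := by group
        _ = g * (t : G) := by rw [h]
    · intro h
      rw [h]; group
  rw [← horb, ← MulAction.index_stabilizer, hstab]
  rfl

theorem tl_cl_ncard [Finite G] (g : G) : (tlCl g).ncard = tlCs g := by
  have h := tl_orbit_ncard (⊤ : Subgroup G) g
  rw [relIndex_top_right] at h
  rw [tlCs_def, ← h]
  congr 1
  ext x
  constructor
  · rintro ⟨t, rfl⟩
    exact ⟨t, mem_top t, rfl⟩
  · rintro ⟨t, -, rfl⟩
    exact ⟨t, rfl⟩

/-- If the indices of `A` and `B` are coprime then `G = A B`. -/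
theorem tl_exists_mul [Finite G] (A B : Subgroup G) (h : A.index.Coprime B.index) (g : G) :
    ∃ a ∈ A, ∃ b ∈ B, g = a * b := by
  have h1 := Cfsg.Agent.Lib.Helper1.index_inf_of_coprime' A B h
  have h2 : (A ⊓ B).relIndex A * A.index = (A ⊓ B).index := relIndex_mul_index inf_le_left
  rw [h1, inf_relIndex_left, mul_comm] at h2
  have hA : 0 < A.index := Nat.pos_of_ne_zero index_ne_zero_of_finite
  have h3 : B.relIndex A = B.index := Nat.eq_of_mul_eq_mul_left hA h2
  -- A acts on G ⧸ B transitively
  have hstab : MulAction.stabilizer ↥A (QuotientGroup.mk 1 : G ⧸ B) = B.subgroupOf A := by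
    ext a
    rw [MulAction.mem_stabilizer_iff, mem_subgroupOf]
    show (QuotientGroup.mk ((a : G) * 1) : G ⧸ B) = QuotientGroup.mk 1 ↔ _
    rw [mul_one, QuotientGroup.eq]
    constructor
    · intro h
      have := B.inv_mem h
      simpa using this
    · intro h
      have := B.inv_mem h
      simpa using this
  have h4 : (MulAction.orbit ↥A (QuotientGroup.mk 1 : G ⧸ B)).ncard = Nat.card (G ⧸ B) := by
    rw [← MulAction.index_stabilizer, hstab]
    exact h3
  have h5 : MulAction.orbit ↥A (QuotientGroup.mk 1 : G ⧸ B) = Set.univ := by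
    rw [Set.eq_univ_iff_ncard, h4]
  have h6 : (QuotientGroup.mk g : G ⧸ B) ∈ MulAction.orbit ↥A (QuotientGroup.mk 1 : G ⧸ B) := by
    rw [h5]; exact Set.mem_univ _
  obtain ⟨a, ha⟩ := h6
  have ha' : (QuotientGroup.mk ((a : G) * 1) : G ⧸ B) = QuotientGroup.mk g := ha
  rw [mul_one, QuotientGroup.eq] at ha'
  exact ⟨a, a.2, _, ha', by group⟩

end Cfsg.Agent.Lib.Helper21
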