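import Mathlib
import Cfsg.Agent.Lib.Helper21.TwoLargest1

set_option autoImplicit false
set_option linter.style.haveILetI false

/-!
Two largest class sizes coprime: the normal abelian subgroup `M`.
-/

namespace Cfsg.Agent.Lib.Helper21

open Subgroup
open scoped Pointwise

universe u

variable {G : Type u} [Group G]

/-- The hypothesis: `m > n > 1` are the two largest class sizes, and coprime. -/
structure TLHyp (G : Type u) [Group G] (m n : ℕ) : Prop where
  lt : n < m
  one_lt : 1 < n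
  cop : m.Coprime n
  top : ∀ z : G, tlCs z ≤ m
  second : ∀ z : G, tlCs z < m → tlCs z ≤ n

/-- Simultaneous conjugacy for elements with coprime class sizes. -/
theorem tl_simul [Finite G] {c y : G} (hcop : (tlCs c).Coprime (tlCs y)) (g h : G) :
    ∃ k : G, k * c * k⁻¹ = g * c * g⁻¹ ∧ k * y * k⁻¹ = h * y * h⁻¹ := by
  obtain ⟨a, ha, b, hb, hab⟩ :=
    tl_exists_mul (centralizer ({c} : Set G)) (centralizer ({y} : Set G)) hcop (g⁻¹ * h)
  rw [mem_centralizer_singleton_iff] at ha hb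
  refine ⟨g * a, ?_, ?_⟩
  · calc g * a * c * (g * a)⁻¹ = g * (a * c) * a⁻¹ * g⁻¹ := by group
      _ = g * (c * a) * a⁻¹ * g⁻¹ := by rw [ha]
      _ = g * c * g⁻¹ := by group
  · have hga : g * a = h * b⁻¹ := by
      have : h = g * (a * b) := by rw [← hab]; group
      rw [this]; group
    rw [hga]
    calc h * b⁻¹ * y * (h * b⁻¹)⁻¹ = h * b⁻¹ * (y * b) * h⁻¹ := by group
      _ = h * b⁻¹ * (b * y) * h⁻¹ := by rw [hb]
      _ = h * y * h⁻¹ := by group

/-- `c · cl(y) = cl(c y)` when `y` is large and the class size of `c` is coprime to `m`. -/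
theorem tl_mul_cl_eq [Finite G] {m n : ℕ} (H : TLHyp G m n) {c y : G}
    (hc : (tlCs c).Coprime m) (hy : tlCs y = m) :
    (fun b => c * b) '' tlCl y = tlCl (c * y) := by
  have hcop : (tlCs c).Coprime (tlCs y) := by rw [hy]; exact hc
  have hsub : (fun b => c * b) '' tlCl y ⊆ tlCl (c * y) := by
    rintro _ ⟨_, ⟨h, rfl⟩, rfl⟩
    obtain ⟨k, hk1, hk2⟩ := tl_simul hcop 1 h
    refine ⟨k, ?_⟩
    show c * (h * y * h⁻¹) = k * (c * y) * k⁻¹
    rw [← hk2]
    have hk1' : k * c * k⁻¹ = c := by rw [hk1]; group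
    calc c * (k * y * k⁻¹) = (k * c * k⁻¹) * (k * y * k⁻¹) := by rw [hk1']
      _ = k * (c * y) * k⁻¹ := by group
  apply Set.eq_of_subset_of_ncard_le hsub
  rw [Set.ncard_image_of_injective _ (mul_right_injective c), tl_cl_ncard, tl_cl_ncard, hy]
  exact H.top _

theorem tl_large_mul [Finite G] {m n : ℕ} (H : TLHyp G m n) {c y : G}
    (hc : (tlCs c).Coprime m) (hy : tlCs y = m) : tlCs (c * y) = m := by
  have h := tl_mul_cl_eq H hc hy
  have h1 : ((fun b => c * b) '' tlCl y).ncard = m := by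
    rw [Set.ncard_image_of_injective _ (mul_right_injective c), tl_cl_ncard, hy]
  rw [h, tl_cl_ncard] at h1
  exact h1

/-- P1. -/
theorem tl_P1 [Finite G] {m n : ℕ} (H : TLHyp G m n) {c y : G}
    (hc : (tlCs c).Coprime m) (hy : tlCs y = m) (g : G) {b : G} (hb : b ∈ tlCl y) :
    c⁻¹ * (g * c * g⁻¹) * b ∈ tlCl y := by
  obtain ⟨h, rfl⟩ := hb
  have hcop : (tlCs c).Coprime (tlCs y) := by rw [hy]; exact hc
  obtain ⟨k, hk1, hk2⟩ := tl_simul hcop g h
  have h1 : (g * c * g⁻¹) * (h * y * h⁻¹) ∈ tlCl (c * y) := by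
    refine ⟨k, ?_⟩
    rw [← hk1, ← hk2]; group
  rw [← tl_mul_cl_eq H hc hy] at h1
  obtain ⟨b', hb', hbe⟩ := h1
  have hbe' : c * b' = (g * c * g⁻¹) * (h * y * h⁻¹) := hbe
  have : c⁻¹ * (g * c * g⁻¹) * (h * y * h⁻¹) = b' := by
    rw [mul_assoc, ← hbe', inv_mul_cancel_left]
  rw [this]
  exact hb'

/-- The subgroup `M`. -/
def tlM (G : Type u) [Group G] (m : ℕ) : Subgroup G :=
  closure {v : G | ∃ c g : G, (tlCs c).Coprime m ∧ v = c⁻¹ * (g * c * g⁻¹)}

theorem tl_gen_mem (m : ℕ) {c : G} (hc : (tlCs c).Coprime m) (g : G) :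
    c⁻¹ * (g * c * g⁻¹) ∈ tlM G m :=
  Subgroup.subset_closure ⟨c, g, hc, rfl⟩

instance tlM_normal (m : ℕ) : (tlM G m).Normal := by
  constructor
  intro v hv h
  unfold tlM at hv ⊢
  induction hv using closure_induction with
  | mem x hx =>
    obtain ⟨c, g, hc, rfl⟩ := hx
    apply Subgroup.subset_closure
    refine ⟨h * c * h⁻¹, h * g * h⁻¹, ?_, ?_⟩
    · rw [tlCs_conj]; exact hc
    · group
  | one => simp
  | mul x y _ _ hx hy =>
    have : h * (x * y) * h⁻¹ = (h * x * h⁻¹) * (h * y * h⁻¹) := by group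
    rw [this]
    exact mul_mem hx hy
  | inv x _ hx =>
    have : h * x⁻¹ * h⁻¹ = (h * x * h⁻¹)⁻¹ := by group
    rw [this]
    exact inv_mem hx

/-- `M · cl(y) = cl(y)` for large `y`. -/
theorem tl_M_mul_cl [Finite G] {m n : ℕ} (H : TLHyp G m n) {y : G} (hy : tlCs y = m)
    {v : G} (hv : v ∈ tlM G m) {b : G} (hb : b ∈ tlCl y) : v * b ∈ tlCl y := by
  have key : ∀ b ∈ tlCl y, v * b ∈ tlCl y ∧ v⁻¹ * b ∈ tlCl y := by
    unfold tlM at hv
    induction hv using closure_induction with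
    | mem x hx =>
      obtain ⟨c, g, hc, rfl⟩ := hx
      intro b hb
      refine ⟨tl_P1 H hc hy g hb, ?_⟩
      have hc' : (tlCs (g * c * g⁻¹)).Coprime m := by rw [tlCs_conj]; exact hc
      have := tl_P1 H hc' hy g⁻¹ hb
      have e : (c⁻¹ * (g * c * g⁻¹))⁻¹ = (g * c * g⁻¹)⁻¹ * (g⁻¹ * (g * c * g⁻¹) * g⁻¹⁻¹) := by group
      rw [e]
      exact this
    | one => intro b hb; simpa using hb
    | mul x z _ _ hx hz =>
      intro b hb
      constructor
      · rw [mul_assoc]
        exact (hx _ (hz b hb).1).1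
      · rw [mul_inv_rev, mul_assoc]
        exact (hz _ (hx b hb).2).2
    | inv x _ hx =>
      intro b hb
      rw [inv_inv]
      exact ⟨(hx b hb).2, (hx b hb).1⟩
  exact (key b hb).1

theorem tl_cl_mul_M [Finite G] {m n : ℕ} (H : TLHyp G m n) {y : G} (hy : tlCs y = m)
    {v : G} (hv : v ∈ tlM G m) {b : G} (hb : b ∈ tlCl y) : b * v ∈ tlCl y := by
  have h1 : b * v * b⁻¹ ∈ tlM G m := (tlM_normal m).conj_mem v hv b
  have := tl_M_mul_cl H hy h1 hb
  have e : b * v * b⁻¹ * b = b * v := by group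
  rwa [e] at this

theorem tlCs_of_mem_cl {y b : G} (hb : b ∈ tlCl y) : tlCs b = tlCs y := by
  obtain ⟨h, rfl⟩ := hb
  exact tlCs_conj y h

/-- Large times `M` is large. -/
theorem tl_large_mul_M [Finite G] {m n : ℕ} (H : TLHyp G m n) {y : G} (hy : tlCs y = m)
    {v : G} (hv : v ∈ tlM G m) : tlCs (y * v) = m := by
  rw [tlCs_of_mem_cl (tl_cl_mul_M H hy hv (tl_self_mem_cl y)), hy]

/-- Small times `M` is small. -/
theorem tl_small_mul_M [Finite G] {m n : ℕ} (H : TLHyp G m n) {a : G} (ha : tlCs a ≠ m)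
    {v : G} (hv : v ∈ tlM G m) : tlCs (a * v) ≠ m := by
  intro h
  apply ha
  have := tl_large_mul_M H h (inv_mem hv)
  rwa [mul_inv_cancel_right] at this

/-- P2: `|M|` divides `m` (given a large element). -/
theorem tl_card_M_dvd [Finite G] {m n : ℕ} (H : TLHyp G m n) {y : G} (hy : tlCs y = m) :
    Nat.card (tlM G m) ∣ m := by
  have h1 := card_mul_eq_card_subgroup_mul_card_quotient (tlM G m) (tlCl y)
  have h2 : ((tlCl y : Set G) * ((tlM G m : Subgroup G) : Set G) : Set G) = tlCl y := by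
    ext x
    constructor
    · rintro ⟨b, hb, v, hv, rfl⟩
      exact tl_cl_mul_M H hy hv hb
    · intro hx
      exact ⟨x, hx, 1, (tlM G m).one_mem, mul_one x⟩
  rw [h2, Nat.card_coe_set_eq, tl_cl_ncard, hy] at h1
  exact ⟨_, h1⟩

/-- P3: `M` centralizes the elements whose class size is coprime to `m`. -/
theorem tl_M_le_cent [Finite G] {m n : ℕ} (H : TLHyp G m n) {y : G} (hy : tlCs y = m)
    {c : G} (hc : (tlCs c).Coprime m) : tlM G m ≤ centralizer ({c} : Set G) := by
  set C := centralizer ({c} : Set G) with hC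
  set M := tlM G m with hM
  rw [← relIndex_eq_one]
  have hd1 : C.relIndex M ∣ Nat.card M := relIndex_dvd_card C M
  have hd2 : C.relIndex M ∣ C.index := by
    have e1 : (C ⊓ M).relIndex C * C.index = (C ⊓ M).index := relIndex_mul_index inf_le_left
    have e2 : (C ⊓ M).relIndex M * M.index = (C ⊓ M).index := relIndex_mul_index inf_le_right
    rw [inf_relIndex_left] at e1
    rw [inf_relIndex_right] at e2
    have e3 : M.relIndex C ∣ M.index := relIndex_dvd_index_of_normal M C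
    obtain ⟨e, he⟩ := e3
    have hpos : 0 < M.relIndex C := by
      apply Nat.pos_of_ne_zero
      intro h0
      rw [h0, zero_mul] at e1
      exact index_ne_zero_of_finite e1.symm
    refine ⟨e, ?_⟩
    apply Nat.eq_of_mul_eq_mul_left hpos
    calc M.relIndex C * C.index = (C ⊓ M).index := e1
      _ = C.relIndex M * M.index := e2.symm
      _ = M.relIndex C * (C.relIndex M * e) := by rw [he]; ring
  have hcop : (Nat.card M).Coprime C.index := by
    have : C.index = tlCs c := rfl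
    rw [this]
    exact (Nat.Coprime.coprime_dvd_right (tl_card_M_dvd H hy) hc).symm
  exact Nat.eq_one_of_dvd_coprimes hcop hd1 hd2

theorem tl_M_comm [Finite G] {m n : ℕ} (H : TLHyp G m n) {y : G} (hy : tlCs y = m)
    {v w : G} (hv : v ∈ tlM G m) (hw : w ∈ tlM G m) : v * w = w * v := by
  have h1 : tlM G m ≤ centralizer ((tlM G m : Subgroup G) : Set G) := by
    unfold tlM
    rw [closure_le]
    rintro x ⟨c, g, hc, rfl⟩
    show _ ∈ centralizer _
    rw [mem_centralizer_iff]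
    intro t ht
    have ht' : t ∈ tlM G m := ht
    have h2 := tl_M_le_cent H hy hc ht'
    have hc' : (tlCs (g * c * g⁻¹)).Coprime m := by rw [tlCs_conj]; exact hc
    have h3 := tl_M_le_cent H hy hc' ht'
    rw [mem_centralizer_singleton_iff] at h2 h3
    have h2' : t * c⁻¹ = c⁻¹ * t := by
      have : Commute t c := h2
      exact (this.inv_right).eq
    calc t * (c⁻¹ * (g * c * g⁻¹)) = (t * c⁻¹) * (g * c * g⁻¹) := (mul_assoc _ _ _).symm
      _ = c⁻¹ * (t * (g * c * g⁻¹)) := by rw [h2']; exact mul_assoc _ _ _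
      _ = c⁻¹ * ((g * c * g⁻¹) * t) := by rw [h3]
      _ = c⁻¹ * (g * c * g⁻¹) * t := (mul_assoc _ _ _).symm
  have := h1 hw
  rw [mem_centralizer_iff] at this
  exact this v hv

/-- P5: elements with class size coprime to `m` lie in `Z(G) M`. -/
theorem tl_mem_center_mul [Finite G] {m n : ℕ} (H : TLHyp G m n) {y : G} (hy : tlCs y = m)
    {c : G} (hc : (tlCs c).Coprime m) : ∃ z ∈ center G, ∃ v ∈ tlM G m, c = z * v := by
  haveI : IsMulCommutative (tlM G m) :=
    ⟨⟨fun a b => Subtype.ext (tl_M_comm H hy a.2 b.2)⟩⟩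
  let F : G → tlM G m := fun g => ⟨c⁻¹ * (g * c * g⁻¹), tl_gen_mem m hc g⟩
  have hcop : (Nat.card (tlM G m)).Coprime (centralizer ({c} : Set G)).index :=
    (Nat.Coprime.coprime_dvd_right (tl_card_M_dvd H hy) hc).symm
  obtain ⟨k, hk⟩ := Cfsg.Agent.Lib.Helper1.cocycle_coboundary (tlM G m)
    (centralizer ({c} : Set G)) hcop F
    (by
      intro x g
      apply Subtype.ext
      show c⁻¹ * (x * g * c * (x * g)⁻¹) = c⁻¹ * (x * c * x⁻¹) * (x * (c⁻¹ * (g * c * g⁻¹)) * x⁻¹)
      group)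
    (by
      intro g u hu
      rw [mem_centralizer_singleton_iff] at hu
      apply Subtype.ext
      show c⁻¹ * (g * u * c * (g * u)⁻¹) = c⁻¹ * (g * c * g⁻¹)
      have : g * u * c * (g * u)⁻¹ = g * (u * c) * u⁻¹ * g⁻¹ := by group
      rw [this, hu]
      group)
  have hk' : ∀ x : G, c⁻¹ * (x * c * x⁻¹) = (k : G) * (x * (k : G) * x⁻¹)⁻¹ := by
    intro x
    have := congrArg Subtype.val (hk x)
    exact this
  refine ⟨c * (k : G), ?_, (k : G)⁻¹, inv_mem k.2, by group⟩
  rw [mem_center_iff]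
  intro x
  have h1 := hk' x
  have h2 : x * c * x⁻¹ = c * (k : G) * (x * (k : G) * x⁻¹)⁻¹ := by
    rw [mul_assoc c, ← h1]; group
  calc x * (c * (k : G)) = (x * c * x⁻¹) * (x * (k : G) * x⁻¹) * x := by group
    _ = c * (k : G) * x := by rw [h2]; group

/-- P6. -/
theorem tl_orderOf_dvd [Finite G] {m n : ℕ} (H : TLHyp G m n) {y : G} (hy : tlCs y = m)
    {v : G} (hv : v ∈ tlM G m) (hvy : v * y = y * v) : orderOf v ∣ orderOf y := by
  obtain ⟨h, hh⟩ := tl_M_mul_cl H hy hv (tl_self_mem_cl y)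
  have h1 : orderOf (v * y) = orderOf y := by
    rw [hh]
    have : h * y * h⁻¹ = MulAut.conj h y := by simp [MulAut.conj_apply]
    rw [this, MulEquiv.orderOf_eq]
  apply orderOf_dvd_of_pow_eq_one
  have h2 : (v * y) ^ orderOf y = 1 := by rw [← h1]; exact pow_orderOf_eq_one _
  have hc : Commute v y := hvy
  rw [hc.mul_pow, pow_orderOf_eq_one, mul_one] at h2
  exact h2

end Cfsg.Agent.Lib.Helper21
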