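import Mathlib
import Cfsg.Agent.Lib.Helper21.TwoLargest2

set_option autoImplicit false
set_option linter.style.haveILetI false

/-!
Two largest class sizes coprime: coprime action decomposition, Ito type lemmas, small elements of
order coprime to `|M|` are central.
-/

namespace Cfsg.Agent.Lib.Helper21

open Subgroup

universe u

section Decomp

variable {A : Type*} [CommGroup A] [Finite A]

/-- The endomorphism `t ↦ t⁻¹ α(t)`. -/
def tlDelta (α : A ≃* A) : A →* A := (MonoidHom.id A)⁻¹ * (α : A →* A)

omit [Finite A] in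
theorem tlDelta_apply (α : A ≃* A) (t : A) : tlDelta α t = t⁻¹ * α t := rfl

theorem tl_mem_ker_delta (α : A ≃* A) (t : A) : t ∈ (tlDelta α).ker ↔ α t = t := by
  rw [MonoidHom.mem_ker, tlDelta_apply, inv_mul_eq_one, eq_comm]

/-- The fixed points and the image of `δ` meet trivially when the order is coprime. -/
theorem tl_ker_inf_range (α : A ≃* A) (e : ℕ) (he : ∀ x, (α ^ e) x = x)
    (hcop : e.Coprime (Nat.card A)) {t : A} (h1 : α t = t) (h2 : t ∈ (tlDelta α).range) :
    t = 1 := by
  obtain ⟨v, rfl⟩ := h2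
  rw [tlDelta_apply] at h1 ⊢
  set t := v⁻¹ * α v with ht
  have hav : α v = v * t := by rw [ht, mul_inv_cancel_left]
  have hpow : ∀ i : ℕ, (α ^ i) v = v * t ^ i := by
    intro i
    induction i with
    | zero => simp
    | succ i ih =>
      rw [pow_succ', MulAut.mul_apply, ih, map_mul, map_pow, h1, hav, pow_succ', mul_assoc]
  have h3 := hpow e
  rw [he] at h3
  have h4 : t ^ e = 1 := by
    have : v * 1 = v * t ^ e := by rw [mul_one]; exact h3
    exact (mul_left_cancel this).symm
  have h5 : t ^ Nat.card A = 1 := pow_card_eq_one'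
  have h6 : orderOf t ∣ Nat.gcd e (Nat.card A) :=
    Nat.dvd_gcd (orderOf_dvd_of_pow_eq_one h4) (orderOf_dvd_of_pow_eq_one h5)
  rw [hcop, Nat.dvd_one, orderOf_eq_one_iff] at h6
  exact h6

/-- Coprime action: `A = Fix(α) × Im(δ)`. -/
theorem tl_decomp (α : A ≃* A) (e : ℕ) (he : ∀ x, (α ^ e) x = x)
    (hcop : e.Coprime (Nat.card A)) (u : A) :
    ∃ v w : A, α v = v ∧ w ∈ (tlDelta α).range ∧ u = v * w := by
  let f : (tlDelta α).ker × (tlDelta α).range → A := fun p => (p.1 : A) * (p.2 : A)
  have hinj : Function.Injective f := by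
    rintro ⟨v1, w1⟩ ⟨v2, w2⟩ h
    have h' : (v1 : A) * (w1 : A) = (v2 : A) * (w2 : A) := h
    have h1 : (v2 : A)⁻¹ * (v1 : A) = (w2 : A) * (w1 : A)⁻¹ := by
      rw [inv_mul_eq_iff_eq_mul, ← mul_assoc, ← h', mul_inv_cancel_right]
    have h2 : (v2 : A)⁻¹ * (v1 : A) ∈ (tlDelta α).ker :=
      mul_mem (inv_mem v2.2) v1.2
    have h3 : (v2 : A)⁻¹ * (v1 : A) ∈ (tlDelta α).range := by
      rw [h1]; exact mul_mem w2.2 (inv_mem w1.2)
    have h4 := tl_ker_inf_range α e he hcop ((tl_mem_ker_delta α _).1 h2) h3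
    have h5 : (v1 : A) = (v2 : A) := by
      rw [inv_mul_eq_one] at h4; exact h4.symm
    have h6 : (w1 : A) = (w2 : A) := by
      rw [h5] at h'; exact mul_left_cancel h'
    exact Prod.ext (Subtype.ext h5) (Subtype.ext h6)
  have hcard : Nat.card A ≤ Nat.card ((tlDelta α).ker × (tlDelta α).range) := by
    rw [Nat.card_prod, ← index_ker, card_mul_index]
  obtain ⟨⟨v, w⟩, hvw⟩ := (hinj.bijective_of_nat_card_le hcard).2 u
  exact ⟨v, w, (tl_mem_ker_delta α _).1 v.2, w.2, hvw.symm⟩

omit [Finite A] in
theorem tl_card_ker_mul_range (α : A ≃* A) :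
    Nat.card (tlDelta α).ker * Nat.card (tlDelta α).range = Nat.card A := by
  rw [← index_ker, card_mul_index]

end Decomp

variable {G : Type u} [Group G]

theorem tl_cent_central_mul {z : G} (hz : z ∈ center G) (g : G) :
    centralizer ({z * g} : Set G) = centralizer ({g} : Set G) := by
  ext x
  rw [mem_centralizer_singleton_iff, mem_centralizer_singleton_iff]
  have hzx : z * x = x * z := (mem_center_iff.1 hz x).symm
  constructor
  · intro hx
    have h1 : z * (x * g) = z * (g * x) := by
      calc z * (x * g) = x * (z * g) := by rw [← mul_assoc, hzx, mul_assoc]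
        _ = z * g * x := hx
        _ = z * (g * x) := by rw [mul_assoc]
    exact mul_left_cancel h1
  · intro hx
    calc x * (z * g) = z * (x * g) := by rw [← mul_assoc, ← hzx, mul_assoc]
      _ = z * (g * x) := by rw [hx]
      _ = z * g * x := by rw [mul_assoc]

theorem tl_card_subgroupOf (N H : Subgroup G) :
    Nat.card (N.subgroupOf H) = Nat.card (N ⊓ H : Subgroup G) := by
  rw [← inf_subgroupOf_right N H]
  exact Nat.card_congr (subgroupOfEquivOfLe (inf_le_right : N ⊓ H ≤ H)).toEquiv

/-- Ito's lemma in the form we need. -/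
theorem tl_ito [Finite G] {g h : G} (hc : Commute g h)
    (hcop : (orderOf g).Coprime (orderOf h)) (hle : tlCs (g * h) ≤ tlCs g) :
    centralizer ({g} : Set G) ≤ centralizer ({h} : Set G) := by
  obtain ⟨k, hk⟩ := ito_exists_zpow_eq hc hcop
  obtain ⟨k', hk'⟩ := ito_exists_zpow_eq hc.symm hcop.symm
  have h1 : centralizer ({g * h} : Set G) ≤ centralizer ({g} : Set G) := by
    have := ito_cent_le_cent_zpow (g * h) k
    rwa [hk] at this
  have h2 : centralizer ({g * h} : Set G) ≤ centralizer ({h} : Set G) := by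
    have := ito_cent_le_cent_zpow (h * g) k'
    rwa [hk', ← hc.eq] at this
  have h3 := relIndex_mul_index h1
  have hpos : 0 < tlCs g := tlCs_pos g
  have h4 : (centralizer ({g * h} : Set G)).relIndex (centralizer ({g} : Set G)) = 1 := by
    have h5 : (centralizer ({g * h} : Set G)).relIndex (centralizer ({g} : Set G)) * tlCs g
        ≤ 1 * tlCs g := by
      rw [one_mul]
      calc _ = tlCs (g * h) := h3
        _ ≤ tlCs g := hle
    have h6 := Nat.le_of_mul_le_mul_right h5 hpos
    have h7 : (centralizer ({g * h} : Set G)).relIndex (centralizer ({g} : Set G)) ≠ 0 := by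
      intro h0
      rw [h0, zero_mul] at h3
      exact (tlCs_pos (g * h)).ne' h3.symm
    omega
  exact (relIndex_eq_one.1 h4).trans h2

/-- For commuting elements of coprime orders, `C(gh) = C(g) ∩ C(h)`. -/
theorem tl_cent_mul [Finite G] {g h : G} (hc : Commute g h)
    (hcop : (orderOf g).Coprime (orderOf h)) :
    centralizer ({g * h} : Set G) = centralizer ({g} : Set G) ⊓ centralizer ({h} : Set G) := by
  obtain ⟨k, hk⟩ := ito_exists_zpow_eq hc hcop
  obtain ⟨k', hk'⟩ := ito_exists_zpow_eq hc.symm hcop.symm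
  apply le_antisymm
  · apply le_inf
    · have := ito_cent_le_cent_zpow (g * h) k
      rwa [hk] at this
    · have := ito_cent_le_cent_zpow (h * g) k'
      rwa [hk', ← hc.eq] at this
  · intro x hx
    have h1 : x ∈ centralizer ({g} : Set G) := hx.1
    have h2 : x ∈ centralizer ({h} : Set G) := hx.2
    rw [mem_centralizer_singleton_iff] at h1 h2 ⊢
    rw [← mul_assoc, h1, mul_assoc, h2, mul_assoc]

end Cfsg.Agent.Lib.Helper21
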