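import Mathlib
import Cfsg.Agent.Lib.Helper21.TwoLargest3

set_option autoImplicit false
set_option linter.style.haveILetI false
set_option linter.unusedSectionVars false

/-!
Two largest class sizes coprime: small elements of order coprime to `|M|` are central.
-/

namespace Cfsg.Agent.Lib.Helper21

open Subgroup

universe u

variable {G : Type u} [Group G]

/-- The context: a large element `y` and an element `u ∈ M` of class size `n`. -/
structure TLCtx (G : Type u) [Group G] (m n : ℕ) (y u : G) : Prop where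
  hyp : TLHyp G m n
  hy : tlCs y = m
  hu : tlCs u = n
  huM : u ∈ tlM G m

theorem TLCtx.n_pos {m n : ℕ} {y u : G} (D : TLCtx G m n y u) : 0 < n :=
  lt_trans Nat.zero_lt_one D.hyp.one_lt

theorem TLCtx.u_ne_one {m n : ℕ} {y u : G} (D : TLCtx G m n y u) : u ≠ 1 := by
  rintro rfl
  have h1 : tlCs (1 : G) = 1 := (tlCs_eq_one_iff 1).2 (one_mem _)
  have h2 := D.hu
  rw [h1] at h2
  have := D.hyp.one_lt
  omega

theorem TLCtx.small_le {m n : ℕ} {y u : G} (D : TLCtx G m n y u) {a : G} (ha : tlCs a ≠ m) :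
    tlCs a ≤ n :=
  D.hyp.second a (lt_of_le_of_ne (D.hyp.top a) ha)

theorem TLCtx.coprime_of_dvd {m n : ℕ} {y u : G} (D : TLCtx G m n y u) {k : ℕ} (hk : k ∣ n) :
    k.Coprime m :=
  (Nat.Coprime.coprime_dvd_right hk D.hyp.cop).symm

theorem TLCtx.M_le_K [Finite G] {m n : ℕ} {y u : G} (D : TLCtx G m n y u) :
    tlM G m ≤ centralizer ({u} : Set G) := by
  intro v hv
  rw [mem_centralizer_singleton_iff]
  exact tl_M_comm D.hyp D.hy hv D.huM

theorem TLCtx.orderOf_M_dvd [Finite G] {m n : ℕ} {y u : G} (_D : TLCtx G m n y u) {v : G}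
    (hv : v ∈ tlM G m) : orderOf v ∣ Nat.card (tlM G m) :=
  Subgroup.orderOf_dvd_natCard _ hv

/-- An element of order coprime to `|M|` which is a central multiple of an element of `M` is
central. -/
theorem tl_central_of_coprime [Finite G] {m : ℕ} {a z v : G} (hz : z ∈ center G)
    (hv : v ∈ tlM G m) (hazv : a = z * v)
    (hcop : (orderOf a).Coprime (Nat.card (tlM G m))) : a ∈ center G := by
  set N := Nat.card (tlM G m) with hN
  have hzv : Commute z v := (mem_center_iff.1 hz v).symm
  have hvN : v ^ N = 1 := by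
    have : orderOf v ∣ N := Subgroup.orderOf_dvd_natCard _ hv
    exact orderOf_dvd_iff_pow_eq_one.1 this
  have haN : a ^ N ∈ center G := by
    rw [hazv, hzv.mul_pow, hvN, mul_one]
    exact (center G).pow_mem hz N
  have hc' : (Nat.card (zpowers a)).Coprime N := by
    rw [Nat.card_zpowers]; exact hcop
  obtain ⟨b, hb⟩ := (powCoprime hc').surjective ⟨a, mem_zpowers a⟩
  obtain ⟨i, hi⟩ := mem_zpowers_iff.1 b.2
  have hb' : (b : G) ^ N = a := by
    have := congrArg Subtype.val hb
    simpa [powCoprime] using this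
  rw [← hi] at hb'
  have : a = (a ^ N) ^ i := by
    rw [← zpow_natCast a N, ← zpow_mul, mul_comm, zpow_mul, zpow_natCast]
    exact hb'.symm
  rw [this]
  exact (center G).zpow_mem haN i

/-- P9. -/
theorem tl_P9 [Finite G] {m n : ℕ} {y u : G} (D : TLCtx G m n y u) {a : G}
    (hau : a * u = u * a) (hcop : (orderOf a).Coprime (Nat.card (tlM G m))) :
    a ∈ center G := by
  have huo : (orderOf u).Coprime (orderOf a) :=
    (Nat.Coprime.coprime_dvd_right (D.orderOf_M_dvd D.huM) hcop).symm
  -- a is small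
  have ha : tlCs a ≠ m := by
    intro ham
    have h1 := tl_orderOf_dvd D.hyp ham D.huM hau.symm
    have h2 : orderOf u ∣ Nat.gcd (orderOf u) (orderOf a) := Nat.dvd_gcd dvd_rfl h1
    rw [huo, Nat.dvd_one, orderOf_eq_one_iff] at h2
    exact D.u_ne_one h2
  have hau_small : tlCs (a * u) ≤ n := D.small_le (tl_small_mul_M D.hyp ha D.huM)
  have hle : tlCs (u * a) ≤ tlCs u := by
    rw [← hau, D.hu]; exact hau_small
  have h3 := tl_ito (show Commute u a from hau.symm) huo hle
  have h4 : tlCs a ∣ n := by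
    rw [← D.hu]
    exact index_dvd_of_le h3
  obtain ⟨z, hz, v, hv, hazv⟩ := tl_mem_center_mul D.hyp D.hy (D.coprime_of_dvd h4)
  exact tl_central_of_coprime hz hv hazv hcop

end Cfsg.Agent.Lib.Helper21
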