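import Mathlib
import Cfsg.Agent.Lib.Helper21.TwoLargest4

set_option autoImplicit false
set_option linter.style.haveILetI false
set_option linter.unusedSectionVars false

/-!
Two largest class sizes coprime: the counting lemma (small elements of order coprime to `|M|` are
central).
-/

namespace Cfsg.Agent.Lib.Helper21

open Subgroup

universe u

variable {G : Type u} [Group G]

/-- P10: a small element whose order is coprime to `|M|` is central. -/
theorem tl_P10 [Finite G] {m n : ℕ} {y u : G} (D : TLCtx G m n y u) {a : G}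
    (ha : tlCs a ≠ m) (hcop : (orderOf a).Coprime (Nat.card (tlM G m))) :
    a ∈ center G := by
  by_cases hau : a * u = u * a
  · exact tl_P9 D hau hcop
  exfalso
  letI : CommGroup ↥(tlM G m) :=
    { (inferInstance : Group ↥(tlM G m)) with
      mul_comm := fun p q => Subtype.ext (tl_M_comm D.hyp D.hy p.2 q.2) }
  set α : ↥(tlM G m) ≃* ↥(tlM G m) := MulAut.conjNormal a with hα
  have hαv : ∀ s : ↥(tlM G m), ((α s : ↥(tlM G m)) : G) = a * (s : G) * a⁻¹ := by
    intro s
    rw [hα, MulAut.conjNormal_apply]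
  have he : ∀ x, (α ^ orderOf a) x = x := by
    intro x
    rw [hα, ← map_pow, pow_orderOf_eq_one, map_one, MulAut.one_apply]
  obtain ⟨v, w, hv, hw, huvw⟩ := tl_decomp α (orderOf a) he hcop ⟨u, D.huM⟩
  have huvw' : u = (v : G) * (w : G) := congrArg Subtype.val huvw
  have hva : a * (v : G) = (v : G) * a := by
    have h1 := congrArg Subtype.val hv
    rw [hαv] at h1
    calc a * (v : G) = (a * (v : G) * a⁻¹) * a := by group
      _ = (v : G) * a := by rw [h1]
  set W : Subgroup G := ((tlDelta α).range).map (tlM G m).subtype with hW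
  have hwW : (w : G) ∈ W := ⟨w, hw, rfl⟩
  have hWM : W ≤ tlM G m := by
    rintro _ ⟨t, -, rfl⟩
    exact t.2
  have hWcard : Nat.card W = Nat.card (tlDelta α).range :=
    card_map_of_injective (tlM G m).subtype_injective
  -- (a) w ≠ 1
  have hw1 : (w : G) ≠ 1 := by
    intro h1
    apply hau
    rw [huvw', h1, mul_one]
    exact hva
  -- (b) W meets C(a) trivially
  have hWa : ∀ t ∈ W, a * t = t * a → t = 1 := by
    rintro _ ⟨t, ht, rfl⟩ hc
    have h1 : α t = t := by
      apply Subtype.ext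
      rw [hαv]
      show a * (t : G) * a⁻¹ = (t : G)
      have hc' : a * (t : G) = (t : G) * a := hc
      rw [hc']; group
    have := tl_ker_inf_range α (orderOf a) he hcop h1 ht
    rw [this]; rfl
  set J := centralizer ({a} : Set G) with hJ
  set K := centralizer ({u} : Set G) with hK
  set Cv := centralizer ({(v : G)} : Set G) with hCv
  set Cw := centralizer ({(w : G)} : Set G) with hCw
  -- (c) J-invariance of W
  have hWJ : ∀ j ∈ J, ∀ t ∈ W, j * t * j⁻¹ ∈ W := by
    rintro j hj _ ⟨t, ⟨s, rfl⟩, rfl⟩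
    rw [mem_centralizer_singleton_iff] at hj
    refine ⟨tlDelta α (MulAut.conjNormal j s), ⟨_, rfl⟩, ?_⟩
    show ((tlDelta α (MulAut.conjNormal j s) : ↥(tlM G m)) : G) = j * ((tlDelta α s : ↥(tlM G m)) : G) * j⁻¹
    rw [tlDelta_apply, tlDelta_apply]
    show ((MulAut.conjNormal j s : ↥(tlM G m)) : G)⁻¹ * ((α (MulAut.conjNormal j s) : ↥(tlM G m)) : G)
      = j * ((s : G)⁻¹ * ((α s : ↥(tlM G m)) : G)) * j⁻¹
    rw [hαv, hαv, MulAut.conjNormal_apply]
    have hj' : a * j = j * a := hj.symm
    have e1 : a * (j * (s : G) * j⁻¹) * a⁻¹ = j * (a * (s : G) * a⁻¹) * j⁻¹ := by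
      have hj'' : a⁻¹ * j⁻¹ = j⁻¹ * a⁻¹ := by
        rw [← mul_inv_rev, ← mul_inv_rev, hj']
      calc a * (j * (s : G) * j⁻¹) * a⁻¹ = (a * j) * (s : G) * (j⁻¹ * a⁻¹) := by group
        _ = (j * a) * (s : G) * (a⁻¹ * j⁻¹) := by rw [hj', hj'']
        _ = j * (a * (s : G) * a⁻¹) * j⁻¹ := by group
    rw [e1]; group
  -- numbers
  have hn := D.n_pos
  have hG1 : Nat.card J * tlCs a = Nat.card G := J.card_mul_index
  have hJc : Nat.card (K ⊓ J : Subgroup G) * K.relIndex J = Nat.card J := by
    have := (K.subgroupOf J).card_mul_index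
    rw [tl_card_subgroupOf] at this
    exact this
  have hru : K.relIndex J ≤ Cv.relIndex J * Cw.relIndex J := by
    have hle : Cv ⊓ Cw ≤ K := by
      intro x hx
      have h1 : x ∈ Cv := hx.1
      have h2 : x ∈ Cw := hx.2
      rw [hCv, mem_centralizer_singleton_iff] at h1
      rw [hCw, mem_centralizer_singleton_iff] at h2
      rw [hK, mem_centralizer_singleton_iff, huvw', ← mul_assoc, h1, mul_assoc, h2, mul_assoc]
    have hne : (Cv ⊓ Cw).relIndex J ≠ 0 :=
      (show ((Cv ⊓ Cw).subgroupOf J).index ≠ 0 from index_ne_zero_of_finite)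
    exact (relIndex_le_of_le_left hle hne).trans relIndex_inf_le
  have hvo : (orderOf a).Coprime (orderOf (v : G)) :=
    Nat.Coprime.coprime_dvd_right (D.orderOf_M_dvd v.2) hcop
  have hrv : Cv.relIndex J * tlCs a ≤ n := by
    have h1 : centralizer ({a * (v : G)} : Set G) = J ⊓ Cv :=
      tl_cent_mul (show Commute a (v : G) from hva) hvo
    have h2 : Cv.relIndex J = (centralizer ({a * (v : G)} : Set G)).relIndex J := by
      rw [h1, inf_comm, inf_relIndex_right]
    have h3 : centralizer ({a * (v : G)} : Set G) ≤ J := by rw [h1]; exact inf_le_left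
    have h4 := relIndex_mul_index h3
    rw [h2]
    have h5 : J.index = tlCs a := rfl
    rw [h5] at h4
    rw [h4]
    exact D.small_le (tl_small_mul_M D.hyp ha v.2)
  have hrw : Cw.relIndex J + 1 ≤ Nat.card W := by
    have h1 := tl_orbit_ncard J (w : G)
    have h2 : {x : G | ∃ t ∈ J, x = t * (w : G) * t⁻¹} ⊆ (W : Set G) \ {1} := by
      rintro _ ⟨t, ht, rfl⟩
      refine ⟨hWJ t ht _ hwW, ?_⟩
      intro h3
      apply hw1
      have h4 : t * (w : G) * t⁻¹ = 1 := h3
      have : (w : G) = t⁻¹ * (t * (w : G) * t⁻¹) * t := by group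
      rw [this, h4]; group
    have h3 := Set.ncard_le_ncard h2 (Set.toFinite _)
    rw [h1, Set.ncard_sdiff_singleton_of_mem (show (1 : G) ∈ (W : Set G) from W.one_mem)] at h3
    have h3' : Cw.relIndex J ≤ Nat.card W - 1 := h3
    have h5 : 0 < Nat.card W := Nat.card_pos
    omega
  have hKW : Nat.card (K ⊓ J : Subgroup G) * Nat.card W ≤ Nat.card K := by
    rw [← Nat.card_prod]
    have hWK : W ≤ K := hWM.trans D.M_le_K
    let f : ↥(K ⊓ J : Subgroup G) × ↥W → ↥K :=
      fun p => ⟨(p.1 : G) * (p.2 : G), K.mul_mem p.1.2.1 (hWK p.2.2)⟩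
    apply Nat.card_le_card_of_injective f
    rintro ⟨k1, w1⟩ ⟨k2, w2⟩ h
    have h' : (k1 : G) * (w1 : G) = (k2 : G) * (w2 : G) := congrArg Subtype.val h
    have h1 : (k2 : G)⁻¹ * (k1 : G) = (w2 : G) * (w1 : G)⁻¹ := by
      rw [inv_mul_eq_iff_eq_mul, ← mul_assoc, ← h', mul_inv_cancel_right]
    have h2 : (w2 : G) * (w1 : G)⁻¹ ∈ W := W.mul_mem w2.2 (W.inv_mem w1.2)
    have h3 : (k2 : G)⁻¹ * (k1 : G) ∈ J := J.mul_mem (J.inv_mem k2.2.2) k1.2.2
    rw [h1, hJ, mem_centralizer_singleton_iff] at h3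
    have h4 := hWa _ h2 h3.symm
    have h5 : (w1 : G) = (w2 : G) := by
      rw [mul_inv_eq_one] at h4; exact h4.symm
    have h6 : (k1 : G) = (k2 : G) := by
      rw [h5] at h'; exact mul_right_cancel h'
    exact Prod.ext (Subtype.ext h6) (Subtype.ext h5)
  have hGK : Nat.card K * n = Nat.card G := by
    have := K.card_mul_index
    have h5 : K.index = tlCs u := rfl
    rw [h5, D.hu] at this
    exact this
  -- final arithmetic
  set P := Nat.card (K ⊓ J : Subgroup G) with hP
  have hPpos : 0 < P := Nat.card_pos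
  have e1 : Nat.card G ≤ P * Cw.relIndex J * n := by
    calc Nat.card G = P * K.relIndex J * tlCs a := by rw [hJc, hG1]
      _ ≤ P * (Cv.relIndex J * Cw.relIndex J) * tlCs a := by gcongr
      _ = P * Cw.relIndex J * (Cv.relIndex J * tlCs a) := by ring
      _ ≤ P * Cw.relIndex J * n := by gcongr
  have e2 : P * Cw.relIndex J * n + P * n ≤ Nat.card G := by
    calc P * Cw.relIndex J * n + P * n = P * (Cw.relIndex J + 1) * n := by ring
      _ ≤ P * Nat.card W * n := by gcongr
      _ ≤ Nat.card K * n := by gcongr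
      _ = Nat.card G := hGK
  have e3 : 0 < P * n := Nat.mul_pos hPpos hn
  omega

end Cfsg.Agent.Lib.Helper21
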