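import Mathlib
import Cfsg.Agent.Lib.Helper21.TwoLargest5

set_option autoImplicit false
set_option linter.style.haveILetI false
set_option linter.unusedSectionVars false

/-!
Two largest class sizes coprime: all small noncentral elements have class size `n`; large elements
act fixed point freely on `M`.
-/

namespace Cfsg.Agent.Lib.Helper21

open Subgroup
open scoped Pointwise

universe u

variable {G : Type u} [Group G]

theorem TLCtx.card_M_coprime_n [Finite G] {m n : ℕ} {y u : G} (D : TLCtx G m n y u) :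
    (Nat.card (tlM G m)).Coprime n :=
  Nat.Coprime.coprime_dvd_left (tl_card_M_dvd D.hyp D.hy) D.hyp.cop

/-- A prime power `p ^ i` with `p ∣ n` is coprime to `|M|`. -/
theorem TLCtx.pow_coprime_M [Finite G] {m n : ℕ} {y u : G} (D : TLCtx G m n y u) {p : ℕ}
    (hpn : p ∣ n) {k : ℕ} (hk : ∃ i, k = p ^ i) :
    k.Coprime (Nat.card (tlM G m)) := by
  have h1 : p.Coprime (Nat.card (tlM G m)) :=
    (Nat.Coprime.coprime_dvd_right hpn D.card_M_coprime_n).symm
  obtain ⟨i, rfl⟩ := hk
  exact Nat.Coprime.pow_left _ h1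

/-- F2: a small element whose class size is coprime to `n` is central. -/
theorem tl_F2 [Finite G] {m n : ℕ} {y u : G} (D : TLCtx G m n y u) {s : G}
    (hs : tlCs s ≠ m) (hcop : (tlCs s).Coprime n) : s ∈ center G := by
  have hcop' : (tlCs u).Coprime (tlCs s) := by rw [D.hu]; exact hcop.symm
  have hum : (tlCs u).Coprime m := by rw [D.hu]; exact D.coprime_of_dvd dvd_rfl
  -- u * s is small
  have hus : tlCs (u * s) ≠ m := by
    intro h
    apply hs
    have hum' : (tlCs u⁻¹).Coprime m := by rw [tlCs_inv]; exact hum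
    have := tl_large_mul D.hyp hum' h
    rwa [inv_mul_cancel_left] at this
  have hle : tlCs (u * s) ≤ n := D.small_le hus
  have key : ∀ h : G, (fun c => c * (h * s * h⁻¹)) '' tlCl u = tlCl (u * s) := by
    intro h
    refine Set.eq_of_subset_of_ncard_le ?_ ?_ (Set.toFinite _)
    · rintro _ ⟨_, ⟨g, rfl⟩, rfl⟩
      obtain ⟨k, hk1, hk2⟩ := tl_simul hcop' g h
      refine ⟨k, ?_⟩
      show g * u * g⁻¹ * (h * s * h⁻¹) = k * (u * s) * k⁻¹
      rw [← hk1, ← hk2]; group
    · rw [Set.ncard_image_of_injective _ (mul_left_injective _), tl_cl_ncard, tl_cl_ncard, D.hu]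
      exact hle
  rw [mem_center_iff]
  intro h
  -- g := (h s h⁻¹) s⁻¹ stabilizes cl(u) under right multiplication
  set g := h * s * h⁻¹ * s⁻¹ with hg
  have hstab : ∀ c ∈ tlCl u, c * g ∈ tlCl u ∧ c * g⁻¹ ∈ tlCl u := by
    intro c hc
    have k1 := key h
    have k2 := key 1
    simp only [one_mul, inv_one, mul_one] at k2
    constructor
    · have h1 : c * (h * s * h⁻¹) ∈ tlCl (u * s) := by
        rw [← k1]; exact ⟨c, hc, rfl⟩
      rw [← k2] at h1
      obtain ⟨c', hc', he⟩ := h1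
      have he' : c' * s = c * (h * s * h⁻¹) := he
      have : c * g = c' := by
        have e : c * g = (c * (h * s * h⁻¹)) * s⁻¹ := by rw [hg]; group
        rw [e, ← he', mul_inv_cancel_right]
      rw [this]; exact hc'
    · have h1 : c * s ∈ tlCl (u * s) := by
        rw [← k2]; exact ⟨c, hc, rfl⟩
      rw [← k1] at h1
      obtain ⟨c', hc', he⟩ := h1
      have he' : c' * (h * s * h⁻¹) = c * s := he
      have : c * g⁻¹ = c' := by
        have e : g⁻¹ = s * (h * s * h⁻¹)⁻¹ := by rw [hg]; group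
        rw [e, ← mul_assoc, ← he', mul_inv_cancel_right]
      rw [this]; exact hc'
  let Stab : Subgroup G :=
    { carrier := {t | ∀ c ∈ tlCl u, c * t ∈ tlCl u ∧ c * t⁻¹ ∈ tlCl u}
      one_mem' := by intro c hc; simpa using hc
      mul_mem' := by
        intro a b ha hb c hc
        constructor
        · rw [← mul_assoc]; exact (hb _ (ha c hc).1).1
        · rw [mul_inv_rev, ← mul_assoc]; exact (ha _ (hb c hc).2).2
      inv_mem' := by
        intro a ha c hc
        rw [inv_inv]
        exact ⟨(ha c hc).2, (ha c hc).1⟩ }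
  have hgS : g ∈ Stab := hstab
  have hzS : zpowers g ≤ Stab := (zpowers_le).2 hgS
  -- orderOf g divides n
  have h1 := card_mul_eq_card_subgroup_mul_card_quotient (zpowers g) (tlCl u)
  have h2 : ((tlCl u : Set G) * ((zpowers g : Subgroup G) : Set G) : Set G) = tlCl u := by
    ext x
    constructor
    · rintro ⟨c, hc, t, ht, rfl⟩
      exact ((hzS ht) c hc).1
    · intro hx
      exact ⟨x, hx, 1, (zpowers g).one_mem, mul_one x⟩
  rw [h2, Nat.card_coe_set_eq, tl_cl_ncard, D.hu, Nat.card_zpowers] at h1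
  have hd1 : orderOf g ∣ n := ⟨_, h1⟩
  -- g ∈ M
  have hgM : g ∈ tlM G m := by
    obtain ⟨k, hk⟩ := (hstab u (tl_self_mem_cl u)).1
    have : g = u⁻¹ * (k * u * k⁻¹) := by rw [← hk, inv_mul_cancel_left]
    rw [this]
    exact tl_gen_mem m hum k
  have hd2 : orderOf g ∣ Nat.card (tlM G m) := D.orderOf_M_dvd hgM
  have hd3 : orderOf g ∣ Nat.gcd (Nat.card (tlM G m)) n := Nat.dvd_gcd hd2 hd1
  rw [D.card_M_coprime_n, Nat.dvd_one, orderOf_eq_one_iff] at hd3
  have : h * s * h⁻¹ = s := by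
    rw [hg, mul_inv_eq_one] at hd3; exact hd3
  calc h * s = (h * s * h⁻¹) * h := by group
    _ = s * h := by rw [this]

/-- A Sylow `p`-subgroup of a subgroup `T`, as a subgroup of `G`. -/
theorem tl_sylow_sub [Finite G] (T : Subgroup G) (p : ℕ) [Fact p.Prime] :
    ∃ Q : Subgroup G, Q ≤ T ∧ (∀ a ∈ Q, ∃ i : ℕ, orderOf a = p ^ i) ∧ ¬ p ∣ Q.relIndex T := by
  obtain ⟨Q⟩ := (inferInstance : Nonempty (Sylow p ↥T))
  refine ⟨(Q : Subgroup ↥T).map T.subtype, map_subtype_le _, ?_, ?_⟩
  · rintro _ ⟨a, ha, rfl⟩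
    obtain ⟨i, hi⟩ := (IsPGroup.iff_orderOf.1 Q.isPGroup') ⟨a, ha⟩
    refine ⟨i, ?_⟩
    rw [← hi]
    show orderOf ((a : ↥T) : G) = orderOf (⟨a, ha⟩ : ↥(Q : Subgroup ↥T))
    rw [Subgroup.orderOf_coe]
    exact (Subgroup.orderOf_mk a ha).symm
  · have h1 : ((Q : Subgroup ↥T).map T.subtype).subgroupOf T = (Q : Subgroup ↥T) :=
      comap_map_eq_self_of_injective T.subtype_injective _
    show ¬ p ∣ (((Q : Subgroup ↥T).map T.subtype).subgroupOf T).index
    rw [h1]
    exact Q.not_dvd_index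

end Cfsg.Agent.Lib.Helper21
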