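import Mathlib
import Cfsg.Agent.Lib.Helper21.TwoLargest6

set_option autoImplicit false
set_option linter.style.haveILetI false
set_option linter.unusedSectionVars false

/-!
Two largest class sizes coprime: all small noncentral elements have class size `n`; large elements
act fixed point freely on `M`.
-/

namespace Cfsg.Agent.Lib.Helper21

open Subgroup
open scoped Pointwise

universe u

variable {G : Type u} [Group G]

/-- A noncentral `p`-element with `p ∣ n` is large. -/
theorem tl_pelt_large [Finite G] {m n : ℕ} {y u : G} (D : TLCtx G m n y u) {p : ℕ}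
    (hpn : p ∣ n) {a : G} (hap : ∃ i, orderOf a = p ^ i) (hz : a ∉ center G) : tlCs a = m := by
  by_contra h
  exact hz (tl_P10 D h (D.pow_coprime_M hpn hap))

/-- A noncentral `p`-element with `p ∣ n` acts fixed point freely on `M`. -/
theorem tl_pelt_fpf [Finite G] {m n : ℕ} {y u : G} (D : TLCtx G m n y u) {p : ℕ}
    (hpn : p ∣ n) {a : G} (hap : ∃ i, orderOf a = p ^ i) (hz : a ∉ center G) {w : G}
    (hw : w ∈ tlM G m) (hwa : w * a = a * w) : w = 1 := by
  have hla := tl_pelt_large D hpn hap hz
  have h1 := tl_orderOf_dvd D.hyp hla hw hwa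
  have h2 := D.orderOf_M_dvd hw
  have h3 : orderOf w ∣ Nat.gcd (orderOf a) (Nat.card (tlM G m)) := Nat.dvd_gcd h1 h2
  rw [D.pow_coprime_M hpn hap, Nat.dvd_one, orderOf_eq_one_iff] at h3
  exact h3

/-- Splitting an element into its `p`-part and `p'`-part. -/
theorem tl_split [Finite G] (p : ℕ) [hp : Fact p.Prime] (f : G) :
    ∃ a b : G, a ∈ zpowers f ∧ b ∈ zpowers f ∧ f = a * b ∧ (∃ k : ℕ, orderOf a = p ^ k) ∧
      (orderOf b).Coprime p := by
  obtain ⟨a, b, ha, hb, hf, ⟨k, hk⟩, hcop⟩ := ito_exists_parts p f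
  refine ⟨a, b, ha, hb, hf, ?_, hcop⟩
  have h1 : orderOf a ∣ p ^ k := orderOf_dvd_of_pow_eq_one hk
  obtain ⟨i, _, hi⟩ := (Nat.dvd_prime_pow hp.out).1 h1
  exact ⟨i, hi⟩

theorem tl_comm_of_mem_zpowers {f a t : G} (ha : a ∈ zpowers f) (ht : t * f = f * t) :
    t * a = a * t := by
  obtain ⟨k, rfl⟩ := mem_zpowers_iff.1 ha
  exact ((Commute.zpow_right (show Commute t f from ht) k)).eq

/-- The double index identity for `K ⊓ T`. -/
theorem tl_double_index (K T : Subgroup G) :
    K.index * T.relIndex K = T.index * K.relIndex T := by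
  have h1 : (K ⊓ T).relIndex K * K.index = (K ⊓ T).index := relIndex_mul_index inf_le_left
  have h2 : (K ⊓ T).relIndex T * T.index = (K ⊓ T).index := relIndex_mul_index inf_le_right
  rw [inf_relIndex_left] at h1
  rw [inf_relIndex_right] at h2
  rw [mul_comm, h1, mul_comm, h2]

/-- If all `p`-elements of `T` are central then `p` does not divide `|T : T ∩ K|`. -/
theorem tl_not_dvd_relIndex [Finite G] (K T : Subgroup G) (hK : center G ≤ K) (p : ℕ)
    [Fact p.Prime] (h : ∀ a ∈ T, (∃ i : ℕ, orderOf a = p ^ i) → a ∈ center G) :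
    ¬ p ∣ K.relIndex T := by
  obtain ⟨Q, hQT, hQ1, hQ2⟩ := tl_sylow_sub T p
  have hQK : Q ≤ K := fun a ha => hK (h a (hQT ha) (hQ1 a ha))
  intro hdvd
  exact hQ2 (dvd_trans hdvd (relIndex_dvd_of_le_left T hQK))

/-- P11: a small noncentral element has class size `n`. -/
theorem tl_small_eq_n [Finite G] {m n : ℕ} {y u : G} (D : TLCtx G m n y u) {s : G}
    (hs : tlCs s ≠ m) (hsz : s ∉ center G) : tlCs s = n := by
  have hsn : tlCs s ≤ n := D.small_le hs
  set T := centralizer ({s} : Set G) with hT
  set K := centralizer ({u} : Set G) with hK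
  have hZK : center G ≤ K := ito_center_le_cent u
  -- p-elements of T are central
  have claim : ∀ p : ℕ, p.Prime → p ∣ n → ∀ a ∈ T, (∃ i : ℕ, orderOf a = p ^ i) →
      a ∈ center G := by
    intro p hp hpn a haT hap
    haveI : Fact p.Prime := ⟨hp⟩
    by_contra haz
    have hla := tl_pelt_large D hpn hap haz
    obtain ⟨sp, s', hsp, hs', hsplit, hspo, hs'o⟩ := tl_split p s
    have has : a * s = s * a := by
      rw [hT, mem_centralizer_singleton_iff] at haT
      exact haT
    have has' : a * s' = s' * a := tl_comm_of_mem_zpowers hs' has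
    obtain ⟨i, hi⟩ := hap
    have hcop : (orderOf a).Coprime (orderOf s') := by
      rw [hi]; exact (Nat.Coprime.pow_left _ hs'o.symm)
    have hle : tlCs (a * s') ≤ tlCs a := by rw [hla]; exact D.hyp.top _
    have h1 := tl_ito (show Commute a s' from has') hcop hle
    have h2 : tlCs s' ∣ m := by rw [← hla]; exact index_dvd_of_le h1
    have h3 : centralizer ({s} : Set G) ≤ centralizer ({s'} : Set G) := by
      obtain ⟨k, rfl⟩ := mem_zpowers_iff.1 hs'
      exact ito_cent_le_cent_zpow s k
    have h4 : tlCs s' ∣ tlCs s := index_dvd_of_le h3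
    have h5 : tlCs s' ≠ m := by
      intro h
      have := Nat.le_of_dvd (tlCs_pos s) h4
      have := D.hyp.lt
      omega
    have h6 : (tlCs s').Coprime n := Nat.Coprime.coprime_dvd_left h2 D.hyp.cop
    have h7 : s' ∈ center G := tl_F2 D h5 h6
    -- s_p has the same centralizer as s
    have h8 : s = s' * sp := by
      rw [hsplit]; exact (mem_center_iff.1 h7 sp)
    have h9 : tlCs sp = tlCs s := by rw [h8, tlCs_central_mul h7]
    have h10 : sp ∈ center G := by
      apply tl_P10 D (by rw [h9]; exact hs)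
      exact D.pow_coprime_M hpn hspo
    apply hsz
    rw [h8]
    exact mul_mem h7 h10
  -- n is coprime to |T : T ∩ K|
  have hcop : n.Coprime (K.relIndex T) := by
    apply Nat.coprime_of_dvd
    intro p hp hpn
    haveI : Fact p.Prime := ⟨hp⟩
    exact tl_not_dvd_relIndex K T hZK p (claim p hp hpn)
  have hdi := tl_double_index K T
  have hKi : K.index = n := D.hu
  have hTi : T.index = tlCs s := rfl
  rw [hKi, hTi] at hdi
  have hdvd : n ∣ tlCs s := by
    have : n ∣ tlCs s * K.relIndex T := ⟨_, hdi.symm⟩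
    exact hcop.dvd_of_dvd_mul_right this
  exact le_antisymm hsn (Nat.le_of_dvd (tlCs_pos s) hdvd)

/-- Lemma Q: the centralizer of a large element contains a noncentral `p`-element for the
smallest prime `p` dividing `n`. -/
theorem tl_exists_pelt [Finite G] {m n : ℕ} {y u : G} (D : TLCtx G m n y u) {b : G}
    (hb : tlCs b = m) :
    ∃ a ∈ centralizer ({b} : Set G), a ∉ center G ∧ ∃ i : ℕ, orderOf a = n.minFac ^ i := by
  have hn1 : n ≠ 1 := by have := D.hyp.one_lt; omega
  have hp : n.minFac.Prime := Nat.minFac_prime hn1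
  haveI : Fact n.minFac.Prime := ⟨hp⟩
  have hpn : n.minFac ∣ n := Nat.minFac_dvd n
  by_contra hcon
  push Not at hcon
  set T := centralizer ({b} : Set G) with hT
  set K := centralizer ({u} : Set G) with hK
  have hZK : center G ≤ K := ito_center_le_cent u
  have h1 : ¬ n.minFac ∣ K.relIndex T := by
    apply tl_not_dvd_relIndex K T hZK
    intro a haT ⟨i, hi⟩
    by_contra haz
    exact hcon a haT haz i hi
  have hdi := tl_double_index K T
  have hKi : K.index = n := D.hu
  have hTi : T.index = m := hb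
  rw [hKi, hTi] at hdi
  have h2 : n.minFac ∣ m * K.relIndex T := by
    rw [← hdi]; exact dvd_mul_of_dvd_left hpn _
  rcases (Nat.Prime.dvd_mul hp).1 h2 with h3 | h3
  · have h4 : n.minFac ∣ Nat.gcd m n := Nat.dvd_gcd h3 hpn
    rw [D.hyp.cop, Nat.dvd_one] at h4
    exact hp.one_lt.ne' h4
  · exact h1 h3

/-- P13: a large element acts fixed point freely on `M`. -/
theorem tl_large_fpf [Finite G] {m n : ℕ} {y u : G} (D : TLCtx G m n y u) {b : G}
    (hb : tlCs b = m) {v : G} (hv : v ∈ tlM G m) (hvb : v * b = b * v) : v = 1 := by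
  have hn1 : n ≠ 1 := by have := D.hyp.one_lt; omega
  have hp : n.minFac.Prime := Nat.minFac_prime hn1
  haveI : Fact n.minFac.Prime := ⟨hp⟩
  have hpn : n.minFac ∣ n := Nat.minFac_dvd n
  obtain ⟨a, haT, haz, hap⟩ := tl_exists_pelt D hb
  obtain ⟨bp, b', hbp, hb', hsplit, hbpo, hb'o⟩ := tl_split n.minFac b
  by_cases hbpz : bp ∈ center G
  · -- b' is large with the same centralizer
    have h8 : b = bp * b' := hsplit
    have hC : centralizer ({b} : Set G) = centralizer ({b'} : Set G) := by
      rw [h8, tl_cent_central_mul hbpz]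
    have hlb' : tlCs b' = m := by rw [← hb, h8, tlCs_central_mul hbpz]
    have hab' : b' * a = a * b' := by
      rw [hC, mem_centralizer_singleton_iff] at haT
      exact haT.symm
    obtain ⟨i, hi⟩ := hap
    have hcop : (orderOf b').Coprime (orderOf a) := by
      rw [hi]; exact (Nat.Coprime.pow_right _ hb'o)
    have hle : tlCs (b' * a) ≤ tlCs b' := by rw [hlb']; exact D.hyp.top _
    have h1 := tl_ito (show Commute b' a from hab') hcop hle
    have hvb' : v ∈ centralizer ({b'} : Set G) := by
      rw [← hC, mem_centralizer_singleton_iff]; exact hvb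
    have hva := h1 hvb'
    rw [mem_centralizer_singleton_iff] at hva
    exact tl_pelt_fpf D hpn ⟨i, hi⟩ haz hv hva
  · have hvbp : v * bp = bp * v := tl_comm_of_mem_zpowers hbp hvb
    exact tl_pelt_fpf D hpn hbpo hbpz hv hvbp

end Cfsg.Agent.Lib.Helper21
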