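import Mathlib
import Cfsg.Agent.Lib.Helper21.TwoLargest7

set_option autoImplicit false
set_option linter.style.haveILetI false
set_option linter.unusedSectionVars false

/-!
Two largest class sizes coprime: structure of `K = C(u)` and `H = C(y)`.
-/

namespace Cfsg.Agent.Lib.Helper21

open Subgroup
open scoped Pointwise

universe u

variable {G : Type u} [Group G]

/-- Elements of `K = C(u)` are small. -/
theorem tl_K_small [Finite G] {m n : ℕ} {y u : G} (D : TLCtx G m n y u) {k : G}
    (hk : k * u = u * k) : tlCs k ≠ m := by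
  intro h
  exact D.u_ne_one (tl_large_fpf D h D.huM hk.symm)

/-- Small elements lie in `Z * M`. -/
theorem tl_small_mem_ZM [Finite G] {m n : ℕ} {y u : G} (D : TLCtx G m n y u) {s : G}
    (hs : tlCs s ≠ m) : ∃ z ∈ center G, ∃ v ∈ tlM G m, s = z * v := by
  by_cases hsz : s ∈ center G
  · exact ⟨s, hsz, 1, one_mem _, (mul_one s).symm⟩
  · have h1 := tl_small_eq_n D hs hsz
    exact tl_mem_center_mul D.hyp D.hy (by rw [h1]; exact D.coprime_of_dvd dvd_rfl)

/-- Elements of `Z * M` commute. -/
theorem tl_ZM_comm [Finite G] {m n : ℕ} {y u : G} (D : TLCtx G m n y u) {z v z' v' : G}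
    (hz : z ∈ center G) (hv : v ∈ tlM G m) (hz' : z' ∈ center G) (hv' : v' ∈ tlM G m) :
    (z * v) * (z' * v') = (z' * v') * (z * v) := by
  have h1 : v * v' = v' * v := tl_M_comm D.hyp D.hy hv hv'
  have h2 : ∀ g, z * g = g * z := fun g => (mem_center_iff.1 hz g).symm
  have h3 : ∀ g, z' * g = g * z' := fun g => (mem_center_iff.1 hz' g).symm
  calc (z * v) * (z' * v') = z * (v * z') * v' := by group
    _ = z * (z' * v) * v' := by rw [h3 v]
    _ = z * z' * (v * v') := by group
    _ = z * z' * (v' * v) := by rw [h1]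
    _ = (z * z') * v' * v := by group
    _ = (z' * z) * v' * v := by rw [h2 z']
    _ = z' * (z * v') * v := by group
    _ = z' * (v' * z) * v := by rw [h2 v']
    _ = (z' * v') * (z * v) := by group

/-- Small elements commute with each other. -/
theorem tl_small_comm [Finite G] {m n : ℕ} {y u : G} (D : TLCtx G m n y u) {s t : G}
    (hs : tlCs s ≠ m) (ht : tlCs t ≠ m) : s * t = t * s := by
  obtain ⟨z, hz, v, hv, rfl⟩ := tl_small_mem_ZM D hs
  obtain ⟨z', hz', v', hv', rfl⟩ := tl_small_mem_ZM D ht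
  exact tl_ZM_comm D hz hv hz' hv'

/-- Small elements commute with `u`. -/
theorem tl_small_mem_K [Finite G] {m n : ℕ} {y u : G} (D : TLCtx G m n y u) {s : G}
    (hs : tlCs s ≠ m) : s * u = u * s := by
  have hu : tlCs u ≠ m := by rw [D.hu]; exact D.hyp.lt.ne
  exact tl_small_comm D hs hu

/-- A small element commuting with a large element is central. -/
theorem tl_small_comm_large [Finite G] {m n : ℕ} {y u : G} (D : TLCtx G m n y u) {s b : G}
    (hs : tlCs s ≠ m) (hb : tlCs b = m) (hsb : s * b = b * s) : s ∈ center G := by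
  obtain ⟨z, hz, v, hv, rfl⟩ := tl_small_mem_ZM D hs
  have hvb : v * b = b * v := by
    have h2 : ∀ g, z * g = g * z := fun g => (mem_center_iff.1 hz g).symm
    have : z * (v * b) = z * (b * v) := by
      calc z * (v * b) = (z * v) * b := by group
        _ = b * (z * v) := hsb
        _ = (b * z) * v := by group
        _ = (z * b) * v := by rw [h2 b]
        _ = z * (b * v) := by group
    exact mul_left_cancel this
  have := tl_large_fpf D hb hv hvb
  rw [this, mul_one]
  exact hz

/-- Noncentral elements of `H = C(y)` are large. -/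
theorem tl_H_large [Finite G] {m n : ℕ} {y u : G} (D : TLCtx G m n y u) {h : G}
    (hy : h * y = y * h) (hz : h ∉ center G) : tlCs h = m := by
  by_contra hs
  exact hz (tl_small_comm_large D hs D.hy hy)

/-- P15. -/
theorem tl_P15 [Finite G] {m n : ℕ} {y u : G} (D : TLCtx G m n y u) {g h2 : G}
    (hg : g ∉ centralizer ({y} : Set G)) (h2H : h2 ∈ centralizer ({y} : Set G))
    (hconj : g * h2 * g⁻¹ ∈ centralizer ({y} : Set G)) : h2 ∈ center G := by
  by_contra h2z
  have hcop : (centralizer ({y} : Set G)).index.Coprime (centralizer ({u} : Set G)).index := by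
    have h1 : (centralizer ({y} : Set G)).index = m := D.hy
    have h2 : (centralizer ({u} : Set G)).index = n := D.hu
    rw [h1, h2]; exact D.hyp.cop
  obtain ⟨h0, hh0, k, hk, hgk⟩ := tl_exists_mul _ _ hcop g
  rw [mem_centralizer_singleton_iff] at hk
  obtain ⟨z, hz, v, hv, rfl⟩ := tl_small_mem_ZM D (tl_K_small D hk)
  have hzc : ∀ t, z * t = t * z := fun t => (mem_center_iff.1 hz t).symm
  have hv1 : v ≠ 1 := by
    rintro rfl
    apply hg
    rw [hgk, mul_one]
    exact mul_mem hh0 (ito_center_le_cent y hz)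
  -- v h2 v⁻¹ ∈ H
  have h3 : v * h2 * v⁻¹ ∈ centralizer ({y} : Set G) := by
    have e : v * h2 * v⁻¹ = h0⁻¹ * (g * h2 * g⁻¹) * h0 := by
      rw [hgk]
      have : h0 * (z * v) * h2 * (h0 * (z * v))⁻¹ = h0 * (z * (v * h2 * v⁻¹) * z⁻¹) * h0⁻¹ := by
        group
      rw [this, hzc, mul_inv_cancel_right]
      group
    rw [e]
    exact mul_mem (mul_mem (inv_mem hh0) hconj) hh0
  have h4 : h2⁻¹ * (v * h2 * v⁻¹) ∈ centralizer ({y} : Set G) := mul_mem (inv_mem h2H) h3
  have h5 : h2⁻¹ * (v * h2 * v⁻¹) ∈ tlM G m := by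
    have e : h2⁻¹ * (v * h2 * v⁻¹) = (h2⁻¹ * v * h2⁻¹⁻¹) * v⁻¹ := by group
    rw [e]
    exact mul_mem ((tlM_normal m).conj_mem v hv h2⁻¹) (inv_mem hv)
  rw [mem_centralizer_singleton_iff] at h4
  have h6 := tl_large_fpf D D.hy h5 h4
  have h7 : v * h2 = h2 * v := by
    have : v * h2 * v⁻¹ = h2 := by
      have := congrArg (fun t => h2 * t) h6
      simpa using this
    calc v * h2 = (v * h2 * v⁻¹) * v := by group
      _ = h2 * v := by rw [this]
  rw [mem_centralizer_singleton_iff] at h2H
  have h8 := tl_H_large D h2H h2z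
  exact hv1 (tl_large_fpf D h8 hv h7)

/-- P16: for noncentral `h ∈ H`, `C(h) = H`. -/
theorem tl_cent_eq_H [Finite G] {m n : ℕ} {y u : G} (D : TLCtx G m n y u) {h : G}
    (hH : h ∈ centralizer ({y} : Set G)) (hz : h ∉ center G) :
    centralizer ({h} : Set G) = centralizer ({y} : Set G) := by
  have hle : centralizer ({h} : Set G) ≤ centralizer ({y} : Set G) := by
    intro g hg
    by_contra hgH
    apply hz
    apply tl_P15 D hgH hH
    rw [mem_centralizer_singleton_iff] at hg
    have : g * h * g⁻¹ = h := by rw [hg, mul_inv_cancel_right]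
    rw [this]; exact hH
  have hH' := hH
  rw [mem_centralizer_singleton_iff] at hH'
  have h1 : (centralizer ({h} : Set G)).index = m := tl_H_large D hH' hz
  have h2 : (centralizer ({y} : Set G)).index = m := D.hy
  apply le_antisymm hle
  have h3 := relIndex_mul_index hle
  rw [h1, h2] at h3
  have hm : 0 < m := lt_trans D.n_pos D.hyp.lt
  have h4 : (centralizer ({h} : Set G)).relIndex (centralizer ({y} : Set G)) = 1 := by
    have : (centralizer ({h} : Set G)).relIndex (centralizer ({y} : Set G)) * m = 1 * m := by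
      rw [h3, one_mul]
    exact Nat.eq_of_mul_eq_mul_right hm this
  exact relIndex_eq_one.1 h4

/-- `H = C(y)` is abelian. -/
theorem tl_H_comm [Finite G] {m n : ℕ} {y u : G} (D : TLCtx G m n y u) {h h' : G}
    (hH : h ∈ centralizer ({y} : Set G)) (hH' : h' ∈ centralizer ({y} : Set G)) :
    h * h' = h' * h := by
  by_cases hz : h ∈ center G
  · exact (mem_center_iff.1 hz h').symm
  · have := tl_cent_eq_H D hH hz
    rw [← this, mem_centralizer_singleton_iff] at hH'
    exact hH'.symm

/-- P17: every large element is an `M`-conjugate of an element of `H`. -/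
theorem tl_P17 [Finite G] {m n : ℕ} {y u : G} (D : TLCtx G m n y u) {g : G}
    (hg : tlCs g = m) : ∃ v ∈ tlM G m, ∃ h ∈ centralizer ({y} : Set G), g = v * h * v⁻¹ := by
  have hcop : (centralizer ({y} : Set G)).index.Coprime (centralizer ({u} : Set G)).index := by
    have h1 : (centralizer ({y} : Set G)).index = m := D.hy
    have h2 : (centralizer ({u} : Set G)).index = n := D.hu
    rw [h1, h2]; exact D.hyp.cop
  obtain ⟨h0, hh0, k, hk, hgk⟩ := tl_exists_mul _ _ hcop g
  rw [mem_centralizer_singleton_iff] at hk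
  obtain ⟨z, hz, w, hw, rfl⟩ := tl_small_mem_ZM D (tl_K_small D hk)
  set h' := h0 * z with hh'
  have hh'H : h' ∈ centralizer ({y} : Set G) := mul_mem hh0 (ito_center_le_cent y hz)
  have hg' : g = h' * w := by rw [hgk, hh', mul_assoc]
  have hl : tlCs h' = m := by
    by_contra hs
    exact tl_small_mul_M D.hyp hs hw (by rw [← hg']; exact hg)
  -- the map v ↦ h'⁻¹ v h' v⁻¹ on M
  let φ : tlM G m → tlM G m := fun v =>
    ⟨h'⁻¹ * (v : G) * h' * (v : G)⁻¹, by
      have e : h'⁻¹ * (v : G) * h' * (v : G)⁻¹ = (h'⁻¹ * (v : G) * h'⁻¹⁻¹) * (v : G)⁻¹ := by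
        group
      rw [e]
      exact mul_mem ((tlM_normal m).conj_mem _ v.2 h'⁻¹) (inv_mem v.2)⟩
  have hinj : Function.Injective φ := by
    intro v1 v2 h12
    have h1 : h'⁻¹ * (v1 : G) * h' * (v1 : G)⁻¹ = h'⁻¹ * (v2 : G) * h' * (v2 : G)⁻¹ :=
      congrArg Subtype.val h12
    have h2 : ((v2 : G)⁻¹ * (v1 : G)) * h' = h' * ((v2 : G)⁻¹ * (v1 : G)) := by
      have h3 : (v1 : G) * h' * (v1 : G)⁻¹ = (v2 : G) * h' * (v2 : G)⁻¹ := by
        have := congrArg (fun t => h' * t) h1
        simp only [mul_assoc, mul_inv_cancel_left] at this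
        simpa [mul_assoc] using this
      calc ((v2 : G)⁻¹ * (v1 : G)) * h' = (v2 : G)⁻¹ * ((v1 : G) * h' * (v1 : G)⁻¹) * (v1 : G) := by
            group
        _ = (v2 : G)⁻¹ * ((v2 : G) * h' * (v2 : G)⁻¹) * (v1 : G) := by rw [h3]
        _ = h' * ((v2 : G)⁻¹ * (v1 : G)) := by group
    have h4 := tl_large_fpf D hl (mul_mem (inv_mem v2.2) v1.2) h2
    apply Subtype.ext
    rw [inv_mul_eq_one] at h4
    exact h4.symm
  have hsurj : Function.Surjective φ := Finite.injective_iff_surjective.1 hinj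
  obtain ⟨v, hv⟩ := hsurj ⟨w, hw⟩
  have hv' : h'⁻¹ * (v : G) * h' * (v : G)⁻¹ = w := congrArg Subtype.val hv
  refine ⟨v, v.2, h', hh'H, ?_⟩
  rw [hg', ← hv']
  group

end Cfsg.Agent.Lib.Helper21
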