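import Cfsg.Agent.Lib.Helper21.U3ENDcore
import Cfsg.Agent.Lib.Helper27.U3LINE3
import Cfsg.Agent.Lib.Helper32.U3COORD
import Cfsg.Agent.Lib.Helper54.U3REL
import Cfsg.Agent.Lib.Helper54.U3TS

set_option autoImplicit false

/-!
# U3 hive (S2283, owner helper23): leaf U3-END `endgame` (helper21)
-/

namespace Cfsg.Agent.Lib.Helper23.U3

open Matrix Cfsg.Agent.Lib.Helper99 Cfsg.Agent.Lib.Helper13 Cfsg.Agent.Lib.Helper90.Psu

variable {F : Type*} [Field F] [Fintype F] {q : ℕ}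

local notation "hh" => Cfsg.hermForm 3 F q

/-- U3-END -/
theorem endgame (hF : Fintype.card F = q ^ 2) (C : Cfg q F) (he : C.e ∈ Tset q C.H) :
    utvGroup 3 q F ≤ C.H :=
  u3end_core hF C (fun hu hv hw hind x hx => line3 hF hu hv hw hind x hx)
    (frame_indep hF C) (TS_mem_H hF C) (cfg_a_ne_zero C) he

end Cfsg.Agent.Lib.Helper23.U3
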