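import Cfsg.Agent.Lib.Helper23.U3Defs
import Cfsg.Agent.Lib.Helper33.U3ACT
import Cfsg.Agent.Lib.Helper33.U3MEM

set_option autoImplicit false

/-!
# U3 hive (S2283, owner helper23): leaf U3-END `endgame`, core (helper21)

The core takes the skeleton statements of `line3`, `frame_indep`, `TS_mem_H`, `cfg_a_ne_zero`
as hypotheses.
-/

namespace Cfsg.Agent.Lib.Helper23.U3

open Matrix Cfsg.Agent.Lib.Helper99 Cfsg.Agent.Lib.Helper13 Cfsg.Agent.Lib.Helper90.Psu

variable {F : Type*} [Field F] [Fintype F] {q : ℕ}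

local notation "hh" => Cfsg.hermForm 3 F q

theorem u3end_hfe (hF : Fintype.card F = q ^ 2) (C : Cfg q F) : hh C.f C.e = 1 := by
  rw [← hermForm_conj hF 3 C.e C.f, C.hef, one_pow]

theorem u3end_heε (hF : Fintype.card F = q ^ 2) (C : Cfg q F) : hh C.e C.ε = 0 := by
  have hq := q_ge_two hF
  rw [← hermForm_conj hF 3 C.ε C.e, C.hεe, zero_pow (by omega)]

theorem u3end_hfε (hF : Fintype.card F = q ^ 2) (C : Cfg q F) : hh C.f C.ε = 0 := by
  have hq := q_ge_two hF
  rw [← hermForm_conj hF 3 C.ε C.f, C.hεf, zero_pow (by omega)]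

/-- `T e = e + c f` -/
theorem u3end_Te (C : Cfg q F) :
    (C.T : Matrix (Fin 3) (Fin 3) F) *ᵥ C.e = C.e + C.c • C.f := by
  rw [act_T, C.hef, mul_one]

/-- `u1 (e + c f) = (1 + c β) e + (c a) ε + c f` -/
theorem u3end_u1Te (hF : Fintype.card F = q ^ 2) (C : Cfg q F) :
    (C.u1 : Matrix (Fin 3) (Fin 3) F) *ᵥ (C.e + C.c • C.f) =
      (1 + C.c * C.β) • C.e + (C.c * C.a) • C.ε + C.c • C.f := by
  rw [act_u1 hF]
  have h1 : hh (C.e + C.c • C.f) C.e = C.c := by
    rw [hermForm_add_left, hermForm_smul_left, C.hee, u3end_hfe hF, zero_add, mul_one]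
  have h2 : hh (C.e + C.c • C.f) C.ε = 0 := by
    rw [hermForm_add_left, hermForm_smul_left, u3end_heε hF, u3end_hfε hF, mul_zero, add_zero]
  rw [h1, h2, zero_mul, zero_smul, sub_zero, smul_add, smul_smul, smul_smul, add_smul, one_smul]
  abel

/-- the three vectors `e`, `e + c f`, `(1 + cβ) e + c a ε + c f` are independent -/
theorem u3end_indep (C : Cfg q F) (hind : LinearIndependent F ![C.e, C.ε, C.f]) (ha0 : C.a ≠ 0) :
    LinearIndependent F ![C.e, C.e + C.c • C.f,
      (1 + C.c * C.β) • C.e + (C.c * C.a) • C.ε + C.c • C.f] := by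
  rw [Fintype.linearIndependent_iff] at hind ⊢
  intro g hg
  simp only [Fin.sum_univ_three, Matrix.cons_val_zero, Matrix.cons_val_one, Matrix.cons_val_two,
    Matrix.head_cons, Matrix.tail_cons] at hg
  have h := hind ![g 0 + g 1 + g 2 * (1 + C.c * C.β), g 2 * (C.c * C.a), g 1 * C.c + g 2 * C.c] (by
    simp only [Fin.sum_univ_three, Matrix.cons_val_zero, Matrix.cons_val_one, Matrix.cons_val_two,
      Matrix.head_cons, Matrix.tail_cons]
    rw [← hg]
    module)
  have h0 := h 0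
  have h1 := h 1
  have h2 := h 2
  simp only [Matrix.cons_val_zero, Matrix.cons_val_one, Matrix.cons_val_two,
    Matrix.head_cons, Matrix.tail_cons] at h0 h1 h2
  have hg2 : g 2 = 0 := by
    rcases mul_eq_zero.1 h1 with h | h
    · exact h
    · exact absurd h (mul_ne_zero C.hc0 ha0)
  have hg1 : g 1 = 0 := by
    rw [hg2, zero_mul, add_zero] at h2
    rcases mul_eq_zero.1 h2 with h | h
    · exact h
    · exact absurd h C.hc0
  have hg0 : g 0 = 0 := by
    rw [hg2, hg1, zero_mul, add_zero, add_zero] at h0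
    exact h0
  intro i
  fin_cases i
  · exact hg0
  · exact hg1
  · exact hg2

/-- U3-END, core -/
theorem u3end_core (hF : Fintype.card F = q ^ 2) (C : Cfg q F)
    (hline3 : ∀ {u v w : Fin 3 → F}, u ∈ Tset q C.H → v ∈ Tset q C.H → w ∈ Tset q C.H →
      LinearIndependent F ![u, v, w] → ∀ x : Fin 3 → F, hh x x = 0 → x ∈ Tset q C.H)
    (hind : LinearIndependent F ![C.e, C.ε, C.f]) (hTS : C.T ∈ C.H ∧ C.S ∈ C.H) (ha0 : C.a ≠ 0)
    (he : C.e ∈ Tset q C.H) : utvGroup 3 q F ≤ C.H := by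
  have hv : C.e + C.c • C.f ∈ Tset q C.H := by
    have := act_mem_Tset hF hTS.1 (T_mem_suGL hF C).1 he
    rwa [u3end_Te] at this
  have hw : (1 + C.c * C.β) • C.e + (C.c * C.a) • C.ε + C.c • C.f ∈ Tset q C.H := by
    have := act_mem_Tset hF C.u1_mem_H (u1_mem_suGL hF C).1 hv
    rwa [u3end_u1Te hF] at this
  exact utvGroup_le_of_Tset (fun x hx => hline3 he hv hw (u3end_indep C hind ha0) x hx)

end Cfsg.Agent.Lib.Helper23.U3
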