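import Mathlib
import Cfsg.Prelude.Def_Classical
import Cfsg.Prelude.Def_LieClassical
import Cfsg.Agent.Lib.Helper65.UndDefs
import Cfsg.Agent.Lib.Helper44.HermUnipotent

/-!
# S5954 hive ("Und", owner helper65), leaf UND-A2: the partition condition gives an invariant nondegenerate
`m`-space for every unitary matrix with `A ^ p` scalar
-/

set_option autoImplicit false

namespace Cfsg.Agent.Lib.Helper65.Und

open Cfsg.Agent.Lib.Helper40.Herm Cfsg.Agent.Lib.Helper2.BG Cfsg.Agent.Lib.Helper14.Tu Polynomial Module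

section a2
open Cfsg.Agent.Lib.Helper43 Cfsg.Agent.Lib.Helper99 Cfsg.Agent.Lib.Helper44 Cfsg.Agent.Lib.Helper44.HU

universe v
variable {F : Type v} [Field F] [Fintype F] {q : ℕ}

/-- the orthogonal sum of two standard hermitian spaces -/
def a2_H (a b q : ℕ) (x y : (Fin a → F) × (Fin b → F)) : F :=
  Cfsg.hermForm a F q x.1 y.1 + Cfsg.hermForm b F q x.2 y.2

theorem a2_isHermSpace (hK : Fintype.card F = q ^ 2) (a b : ℕ) :
    IsHermSpace q (a2_H (F := F) a b q) := by
  have hs₁ := isHermSpace_std (q := q) hK a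
  have hs₂ := isHermSpace_std (q := q) hK b
  exact
    { add_left := by
        intro u u' w
        show Cfsg.hermForm a F q (u + u').1 w.1 + Cfsg.hermForm b F q (u + u').2 w.2 = _
        rw [Prod.fst_add, Prod.snd_add, hs₁.add_left, hs₂.add_left]
        show _ = (Cfsg.hermForm a F q u.1 w.1 + Cfsg.hermForm b F q u.2 w.2) +
          (Cfsg.hermForm a F q u'.1 w.1 + Cfsg.hermForm b F q u'.2 w.2)
        ring
      smul_left := by
        intro c u w
        show Cfsg.hermForm a F q (c • u).1 w.1 + Cfsg.hermForm b F q (c • u).2 w.2 = _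
        rw [Prod.smul_fst, Prod.smul_snd, hs₁.smul_left, hs₂.smul_left]
        show _ = c * (Cfsg.hermForm a F q u.1 w.1 + Cfsg.hermForm b F q u.2 w.2)
        ring
      conj := by
        intro u w
        show (Cfsg.hermForm a F q u.1 w.1 + Cfsg.hermForm b F q u.2 w.2) ^ q = _
        rw [frobK_add hK, hs₁.conj, hs₂.conj]
        rfl
      nondeg := by
        intro w hw
        apply Prod.ext
        · apply hs₁.nondeg
          intro u
          have := hw (u, 0)
          show Cfsg.hermForm a F q u w.1 = 0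
          have h0 : Cfsg.hermForm b F q 0 w.2 = 0 := hs₂.zero_left _
          have h1 : a2_H a b q (u, 0) w = Cfsg.hermForm a F q u w.1 + Cfsg.hermForm b F q 0 w.2 :=
            rfl
          rw [h1, h0, add_zero] at this
          exact this
        · apply hs₂.nondeg
          intro u
          have := hw (0, u)
          show Cfsg.hermForm b F q u w.2 = 0
          have h0 : Cfsg.hermForm a F q 0 w.1 = 0 := hs₁.zero_left _
          have h1 : a2_H a b q (0, u) w = Cfsg.hermForm a F q 0 w.1 + Cfsg.hermForm b F q u w.2 :=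
            rfl
          rw [h1, h0, zero_add] at this
          exact this }

theorem a2_smin_add (ν ν' : Multiset ℕ) (k : ℕ) : smin (ν + ν') k = smin ν k + smin ν' k := by
  unfold smin
  rw [Multiset.map_add, Multiset.sum_add]

theorem a2_toLin_sub_one {n : ℕ} (u : Matrix (Fin n) (Fin n) F) :
    (Matrix.toLin' u : Module.End F (Fin n → F)) - 1 = Matrix.toLin' (u - 1) := by
  rw [map_sub, Matrix.toLin'_one]
  rfl

/-- the core: a unitary unipotent matrix of type `μ` fixes a nondegenerate space of dimension `ν.sum` for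
every `ν ≤ μ` -/
theorem a2_core (hq : Fintype.card F = q ^ 2) (n m : ℕ) (hm : m ≤ n)
    (u : Matrix (Fin n) (Fin n) F) (hu : IsU n q u) (hnil : IsNilpotent (u - 1))
    (μ ν : Multiset ℕ) (hμ1 : ∀ b ∈ μ, 1 ≤ b)
    (hμ : ∀ k, dker (Matrix.toLin' (u - 1)) k = smin μ k) (hν : ν ≤ μ) (hνs : ν.sum = m) :
    FixesNd n q m u := by
  classical
  have hnilL : IsNilpotent (Matrix.toLin' (u - 1)) := by
    obtain ⟨k, hk⟩ := hnil
    exact ⟨k, by rw [← Matrix.toLin'_pow, hk, map_zero]⟩
  have hμs : μ.sum = n := by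
    have := sum_eq_finrank_of_dker (K := F) (V := Fin n → F) (Matrix.toLin' (u - 1)) hnilL μ hμ
    rw [this, Module.finrank_fintype_fun_eq_card, Fintype.card_fin]
  set ν' := μ - ν with hν'
  have hadd : ν + ν' = μ := by rw [hν', add_comm]; exact Multiset.sub_add_cancel hν
  have hν's : ν'.sum = n - m := by
    have := congrArg Multiset.sum hadd
    rw [Multiset.sum_add, hνs, hμs] at this
    omega
  have hν1 : ∀ b ∈ ν, 1 ≤ b := fun b hb => hμ1 b (Multiset.mem_of_le hν hb)
  have hν'1 : ∀ b ∈ ν', 1 ≤ b := fun b hb => hμ1 b (Multiset.mem_of_le (Multiset.sub_le_self _ _) hb)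
  obtain ⟨A₁, hA₁, hnil₁, hdk₁⟩ := exists_unipotent_of_type (K := F) hq ν hν1 m hνs
  obtain ⟨A₂, hA₂, hnil₂, hdk₂⟩ := exists_unipotent_of_type (K := F) hq ν' hν'1 (n - m) hν's
  set T : ((Fin m → F) × (Fin (n - m) → F)) →ₗ[F] ((Fin m → F) × (Fin (n - m) → F)) :=
    (Matrix.toLin' A₁).prodMap (Matrix.toLin' A₂) with hTdef
  have hT : ∀ x y, a2_H m (n - m) q (T x) (T y) = a2_H m (n - m) q x y := by
    intro x y
    show Cfsg.hermForm m F q (A₁.mulVec x.1) (A₁.mulVec y.1) +
        Cfsg.hermForm (n - m) F q (A₂.mulVec x.2) (A₂.mulVec y.2)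
      = Cfsg.hermForm m F q x.1 y.1 + Cfsg.hermForm (n - m) F q x.2 y.2
    rw [unitary_isometry hq A₁ hA₁, unitary_isometry hq A₂ hA₂]
  have hfr : finrank F ((Fin m → F) × (Fin (n - m) → F)) = n := by
    rw [Module.finrank_prod, Module.finrank_fintype_fun_eq_card, Module.finrank_fintype_fun_eq_card,
      Fintype.card_fin, Fintype.card_fin]
    omega
  have hT1 : T - 1 = (Matrix.toLin' (A₁ - 1)).prodMap (Matrix.toLin' (A₂ - 1)) := by
    apply LinearMap.ext
    intro x
    apply Prod.ext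
    · simp [hTdef]
    · simp [hTdef]
  have hdkT : ∀ k, dker (T - 1) k = smin μ k := by
    intro k
    rw [hT1, dker_prodMap, hdk₁, hdk₂, ← hadd, a2_smin_add]
    rfl
  have hnilT : IsNilpotent (T - 1) := by
    refine ⟨n, ?_⟩
    rw [pow_eq_zero_iff_dker, hdkT, hfr, ← hμs, smin_eq_sum_iff]
    intro b hb
    exact Multiset.le_sum_of_mem hb
  have huL : ∀ x y, Cfsg.hermForm n F q (Matrix.toLin' u x) (Matrix.toLin' u y) =
      Cfsg.hermForm n F q x y := fun x y => hu x y
  have hnilu : IsNilpotent ((Matrix.toLin' u : Module.End F (Fin n → F)) - 1) := by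
    rw [a2_toLin_sub_one]; exact hnilL
  obtain ⟨Φ, hΦ1, hΦ2⟩ := unipotent_iso (K := F) hq n ((Fin m → F) × (Fin (n - m) → F))
    (Fin n → F) (a2_H m (n - m) q) (Cfsg.hermForm n F q) (a2_isHermSpace hq m (n - m))
    (isHermSpace_std hq n) T (Matrix.toLin' u) hT huL hnilT hnilu hfr (by
      intro k
      rw [hdkT, a2_toLin_sub_one, hμ])
  -- the subspace
  set j : (Fin m → F) →ₗ[F] (Fin n → F) :=
    (Φ : ((Fin m → F) × (Fin (n - m) → F)) →ₗ[F] (Fin n → F)).comp
      (LinearMap.inl F (Fin m → F) (Fin (n - m) → F)) with hj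
  have hjapp : ∀ a, j a = Φ (a, 0) := fun a => rfl
  have hjinj : Function.Injective j := by
    intro a b hab
    rw [hjapp, hjapp] at hab
    have := Φ.injective hab
    exact (Prod.ext_iff.1 this).1
  have hs₁ := isHermSpace_std (q := q) hq m
  have hs₂ := isHermSpace_std (q := q) hq (n - m)
  have hq0 : q ≠ 0 := by
    have := Cfsg.Agent.Lib.Helper44.two_le_q_of_card hq
    omega
  refine ⟨LinearMap.range j, ?_, ?_, ?_⟩
  · rw [LinearMap.finrank_range_of_inj hjinj, Module.finrank_fintype_fun_eq_card, Fintype.card_fin]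
  · rintro _ ⟨a, rfl⟩ ha0
    have ha : a ≠ 0 := by
      rintro rfl
      exact ha0 (map_zero j)
    have hex : ∃ b, Cfsg.hermForm m F q a b ≠ 0 := by
      by_contra hcon0
      have hcon : ∀ b, Cfsg.hermForm m F q a b = 0 := fun b => by
        by_contra hb
        exact hcon0 ⟨b, hb⟩
      apply ha
      apply hs₁.nondeg
      intro b
      exact herm_symm_zero hq0 hs₁ a b (hcon b)
    obtain ⟨b, hb⟩ := hex
    refine ⟨j b, ⟨b, rfl⟩, ?_⟩
    rw [hjapp, hjapp, hΦ1]
    show Cfsg.hermForm m F q a b + Cfsg.hermForm (n - m) F q 0 0 ≠ 0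
    rw [hs₂.zero_left, add_zero]
    exact hb
  · rintro _ ⟨_, ⟨a, rfl⟩, rfl⟩
    refine ⟨A₁.mulVec a, ?_⟩
    rw [hjapp, hjapp, ← hΦ2]
    congr 1
    show _ = ((Matrix.toLin' A₁) a, (Matrix.toLin' A₂) 0)
    rw [map_zero]
    rfl

end a2

section caseA
variable {F : Type*} [Field F] [Fintype F] {p : ℕ} [Fact p.Prime] [CharP F p] {q : ℕ}

theorem a2_isU_pow (n : ℕ) (A : Matrix (Fin n) (Fin n) F) (hA : IsU n q A) (k : ℕ) :
    IsU n q (A ^ k) := by
  induction k with
  | zero => intro u v; simp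
  | succ k ih =>
    intro u v
    rw [pow_succ, ← Matrix.mulVec_mulVec, ← Matrix.mulVec_mulVec, ih, hA]

theorem a2_hermForm_smul (n : ℕ) (c : F) (u v : Fin n → F) :
    Cfsg.hermForm n F q (c • u) (c • v) = c ^ (q + 1) * Cfsg.hermForm n F q u v := by
  unfold Cfsg.hermForm
  rw [Finset.mul_sum]
  apply Finset.sum_congr rfl
  intro i _
  simp only [Pi.smul_apply, smul_eq_mul]
  ring

/-- UND-A2. -/
theorem fixesNd_of_partCond (hq : Fintype.card F = q ^ 2) (n m : ℕ) (hm : m ≤ n)
    (h : PartCond p n m) (A : Matrix (Fin n) (Fin n) F) (hA : IsU n q A) (z : F)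
    (hz : A ^ p = z • (1 : Matrix (Fin n) (Fin n) F)) : FixesNd n q m A := by
  classical
  have hp : p.Prime := Fact.out
  have hq2 := Cfsg.Agent.Lib.Helper44.two_le_q_of_card hq
  rcases Nat.eq_zero_or_pos n with hn0 | hn
  · subst hn0
    have hm0 : m = 0 := by omega
    subst hm0
    refine ⟨⊥, finrank_bot F _, ?_, ?_⟩
    · intro u hu hu0
      exact absurd ((Submodule.mem_bot F).1 hu) hu0
    · rw [Submodule.map_bot]
  have : Nonempty (Fin n) := ⟨⟨0, hn⟩⟩
  -- `z ^ (q+1) = 1`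
  have hzq : z ^ (q + 1) = 1 := by
    have h1 := a2_isU_pow n A hA p (Pi.single ⟨0, hn⟩ 1) (Pi.single ⟨0, hn⟩ 1)
    rw [hz, Matrix.smul_mulVec, Matrix.one_mulVec, a2_hermForm_smul] at h1
    have h2 : Cfsg.hermForm n F q (Pi.single ⟨0, hn⟩ 1) (Pi.single (⟨0, hn⟩ : Fin n) 1) = 1 := by
      unfold Cfsg.hermForm
      rw [Finset.sum_eq_single (⟨0, hn⟩ : Fin n)]
      · simp
      · intro j _ hj
        rw [Pi.single_apply, if_neg hj, zero_mul]
      · intro h; exact absurd (Finset.mem_univ _) h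
    rw [h2, mul_one] at h1
    exact h1
  have hz0 : z ≠ 0 := by
    rintro rfl
    rw [zero_pow (by omega)] at hzq
    exact zero_ne_one hzq
  -- a `p`-th root
  obtain ⟨k, -, hk⟩ := FiniteField.card F p
  obtain ⟨k', hk'⟩ : ∃ k', (k : ℕ) = k' + 1 := ⟨(k : ℕ) - 1, by have := k.pos; omega⟩
  set w : F := z ^ (p ^ k') with hw
  have hwp : w ^ p = z := by
    rw [hw, ← pow_mul, ← pow_succ, ← hk', ← hk, FiniteField.pow_card]
  have hw0 : w ≠ 0 := by
    rw [hw]; exact pow_ne_zero _ hz0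
  have hone : ∀ x : F, x ^ p = 1 → x = 1 := by
    intro x hx
    have h1 : (x - 1) ^ p = 0 := by
      rw [sub_pow_char_of_commute p (Commute.one_right x), hx, one_pow, sub_self]
    exact sub_eq_zero.1 (pow_eq_zero_iff hp.ne_zero |>.1 h1)
  have hwq : w ^ (q + 1) = 1 := by
    apply hone
    rw [← pow_mul, mul_comm, pow_mul, hwp, hzq]
  set u : Matrix (Fin n) (Fin n) F := w⁻¹ • A with hu
  have hAu : A = w • u := by
    rw [hu, smul_smul, mul_inv_cancel₀ hw0, one_smul]
  have huU : IsU n q u := by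
    intro x y
    rw [hu, Matrix.smul_mulVec, Matrix.smul_mulVec, a2_hermForm_smul, inv_pow, hwq, inv_one,
      one_mul, hA]
  have hup : u ^ p = 1 := by
    rw [hu, _root_.smul_pow, hz, inv_pow, hwp, smul_smul, inv_mul_cancel₀ hz0, one_smul]
  have hnilp : (u - 1) ^ p = 0 := by
    rw [sub_pow_char_of_commute p (Commute.one_right u), hup, one_pow, sub_self]
  have hnil : IsNilpotent (u - 1) := ⟨p, hnilp⟩
  have hnilL : IsNilpotent (Matrix.toLin' (u - 1)) :=
    ⟨p, by rw [← Matrix.toLin'_pow, hnilp, map_zero]⟩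
  obtain ⟨μ, hμ1, hμ⟩ := Cfsg.Agent.Lib.Helper43.exists_jt (K := F) (V := Fin n → F) (Matrix.toLin' (u - 1)) hnilL
  have hμs : μ.sum = n := by
    have := Cfsg.Agent.Lib.Helper43.sum_eq_finrank_of_dker (K := F) (V := Fin n → F) (Matrix.toLin' (u - 1)) hnilL μ hμ
    rw [this, Module.finrank_fintype_fun_eq_card, Fintype.card_fin]
  have hμp : ∀ b ∈ μ, b ≤ p := by
    rw [← Cfsg.Agent.Lib.Helper43.smin_eq_sum_iff, ← hμ, hμs]
    have := Cfsg.Agent.Lib.Helper99.dker_eq_of_pow_eq_zero (Matrix.toLin' (u - 1))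
      (K := p) (by rw [← Matrix.toLin'_pow, hnilp, map_zero]) p le_rfl
    rw [this, Module.finrank_fintype_fun_eq_card, Fintype.card_fin]
  obtain ⟨ν, hν, hνs⟩ := h μ (fun a ha => ⟨hμ1 a ha, hμp a ha⟩) hμs
  obtain ⟨W, hW1, hW2, hW3⟩ := a2_core hq n m hm u huU hnil μ ν hμ1 hμ hν hνs
  refine ⟨W, hW1, hW2, ?_⟩
  rintro _ ⟨x, hx, rfl⟩
  rw [hAu, Matrix.toLin'_apply, Matrix.smul_mulVec]
  apply W.smul_mem
  apply hW3
  exact ⟨x, hx, by rw [Matrix.toLin'_apply]⟩

end caseA

end Cfsg.Agent.Lib.Helper65.Und
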