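import Mathlib
import Cfsg.Prelude.Def_Classical
import Cfsg.Prelude.Def_LieClassical
import Cfsg.Agent.Lib.Helper65.UndDefs
import Cfsg.Agent.Lib.Helper21.TuD4

/-!
# S5954 hive ("Und", owner helper65), leaf UND-E2: the type B element (`A ^ r = z`, `z` not an `r`-th power)
-/

set_option autoImplicit false

namespace Cfsg.Agent.Lib.Helper65.Und

open Cfsg.Agent.Lib.Helper40.Herm Cfsg.Agent.Lib.Helper2.BG Cfsg.Agent.Lib.Helper14.Tu Polynomial Module

section ex
variable {F : Type*} [Field F] [Fintype F] {p : ℕ} [Fact p.Prime] [CharP F p] {q : ℕ}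

/-- UND-E2.  The element of TU-D4: `z` of order `r^(v_r(q+1))` in `μ_{q+1}` (not an `r`-th power in `F`),
`A` monomial, `σ` = product of `n/r` disjoint `r`-cycles, one entry `z` per cycle:
unitary, `A ^ r = z`, `det A = z^(n/r) = 1` since the order of `z` divides `n/r`. -/
theorem exists_typeB (hq : Fintype.card F = q ^ 2) (r : ℕ) (hr : r.Prime) (hr2 : r ≠ 2)
    (hrq : r ∣ q + 1) (n : ℕ) (hn : 0 < n) (hv : padicValNat r (q + 1) < padicValNat r n) :
    ∃ (A : Matrix (Fin n) (Fin n) F) (z : F), IsU n q A ∧ A.det = 1 ∧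
      A ^ r = z • (1 : Matrix (Fin n) (Fin n) F) ∧ ∀ w : F, w ^ r ≠ z := by
  classical
  have : Fact r.Prime := ⟨hr⟩
  have hq2 := Cfsg.Agent.Lib.Helper44.two_le_q_of_card hq
  have hfac : q ^ 2 - 1 = (q - 1) * (q + 1) := by
    obtain ⟨t, rfl⟩ : ∃ t, q = t + 1 := ⟨q - 1, by omega⟩
    simp only [Nat.add_sub_cancel]
    have : (t + 1) ^ 2 = t * (t + 1 + 1) + 1 := by ring
    rw [this, Nat.add_sub_cancel]
  have hrq1 : ¬ r ∣ q - 1 := by
    intro h1
    have h2 : r ∣ (q + 1) - (q - 1) := Nat.dvd_sub hrq h1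
    have h3 : (q + 1) - (q - 1) = 2 := by omega
    rw [h3] at h2
    exact hr2 ((Nat.prime_dvd_prime_iff_eq hr Nat.prime_two).1 h2)
  have hval : padicValNat r (Fintype.card F - 1) = padicValNat r (q + 1) := by
    rw [hq, hfac, padicValNat.mul (by omega) (by omega),
      padicValNat.eq_zero_of_not_dvd hrq1, zero_add]
  obtain ⟨z, hz0, hzpow, hznot⟩ := exists_not_pow (F := F) hr (by
    rw [hq, hfac]; exact Dvd.dvd.mul_left hrq _)
  rw [hval] at hzpow
  set s := padicValNat r (q + 1) with hs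
  have hzq : z ^ (q + 1) = 1 := by
    obtain ⟨k, hk⟩ : r ^ s ∣ q + 1 := pow_padicValNat_dvd
    rw [hk, pow_mul, hzpow, one_pow]
  have hrs1 : r ^ (s + 1) ∣ n :=
    dvd_trans (pow_dvd_pow r (by omega : s + 1 ≤ padicValNat r n)) pow_padicValNat_dvd
  obtain ⟨t, htn, hzt⟩ : ∃ t, t * r = n ∧ z ^ t = 1 := by
    obtain ⟨k, hk⟩ := hrs1
    refine ⟨r ^ s * k, by rw [hk, pow_succ]; ring, ?_⟩
    rw [pow_mul, hzpow, one_pow]
  obtain ⟨σ, c, hσr, hcprod, hc1z, hσne⟩ :=
    d4_exists_mono n r t hr.two_le hn htn z hz0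
  have hcq : ∀ i, c i ^ (q + 1) = 1 := by
    intro i
    rcases hc1z i with h | h
    · rw [h, one_pow]
    · rw [h, hzq]
  set M := d4_mono σ c with hM
  have hMr : M ^ r = z • (1 : Matrix (Fin n) (Fin n) F) := d4_mono_pow_eq σ c r z hσr hcprod
  set f : Module.End F (Fin n → F) := Matrix.toLin' M with hf
  have hfr : f ^ r = algebraMap F _ z := by
    rw [hf, ← Matrix.toLin'_pow, hMr]
    apply LinearMap.ext
    intro v
    rw [Matrix.toLin'_apply, Matrix.smul_mulVec, Matrix.one_mulVec, Module.algebraMap_end_apply]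
  have hdet : M.det = 1 := by
    obtain ⟨d, hd1, hd2⟩ := det_of_pow_eq z hznot f hfr
    rw [Module.finrank_fin_fun] at hd1
    have hdt : d = t := by
      have : r * d = r * t := by rw [← hd1, ← htn, mul_comm]
      exact Nat.eq_of_mul_eq_mul_left hr.pos this
    rw [hf, LinearMap.det_toLin'] at hd2
    rw [hd2, hdt]
    have hodd : Odd r := hr.odd_of_ne_two hr2
    have heven : Even (r + 1) := by
      obtain ⟨k, hk⟩ := hodd
      exact ⟨k + 1, by omega⟩
    rw [heven.neg_one_pow, one_mul, hzt]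
  exact ⟨M, z, fun u v => d4_mono_unitary σ c q hcq u v, hdet, hMr, hznot⟩

end ex

end Cfsg.Agent.Lib.Helper65.Und
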