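import Mathlib
import Cfsg.Prelude.Def_Classical
import Cfsg.Prelude.Def_LieClassical
import Cfsg.Agent.Lib.Helper65.UndDefs
import Cfsg.Agent.Lib.Helper2.BGPoly

/-!
# S5954 hive ("Und", owner helper65), leaf UND-E3: invariant subspaces of a type B element have
dimension divisible by `r`
-/

set_option autoImplicit false

namespace Cfsg.Agent.Lib.Helper65.Und

open Cfsg.Agent.Lib.Helper40.Herm Cfsg.Agent.Lib.Helper2.BG Cfsg.Agent.Lib.Helper14.Tu Polynomial Module

/-- general version (any field): `A ^ r = z`, `z` not an `r`-th power, `r` prime: every invariant subspace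
has dimension divisible by `r` -/
theorem e3_dvd_finrank {F : Type*} [Field F] (r : ℕ) (hr : r.Prime) (n : ℕ)
    (A : Matrix (Fin n) (Fin n) F) (z : F) (hz : A ^ r = z • (1 : Matrix (Fin n) (Fin n) F))
    (hno : ∀ w : F, w ^ r ≠ z) (W : Submodule F (Fin n → F))
    (hW : W.map (Matrix.toLin' A) ≤ W) : r ∣ finrank F ↥W := by
  classical
  set f : Module.End F (Fin n → F) := Matrix.toLin' A with hf
  have hfr : f ^ r = algebraMap F _ z := by
    rw [hf, ← Matrix.toLin'_pow, hz]
    apply LinearMap.ext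
    intro v
    rw [Matrix.toLin'_apply, Matrix.smul_mulVec, Matrix.one_mulVec, Module.algebraMap_end_apply]
  have hirr : Irreducible (X ^ r - C z : F[X]) := X_pow_sub_C_irreducible_of_prime hr hno
  have hfP : aeval f (X ^ r - C z : F[X]) = 0 := by
    rw [map_sub, map_pow, aeval_X, aeval_C, hfr, sub_self]
  have hss : f.IsSemisimple :=
    Module.End.isSemisimple_of_squarefree_aeval_eq_zero hirr.squarefree hfP
  have hP0 : (X ^ r - C z : F[X]) ≠ 0 := hirr.ne_zero
  have hdeg : AllIrrDeg (X ^ r - C z : F[X]) r := by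
    have := allIrrDeg_of_irreducible hirr
    rwa [natDegree_X_pow_sub_C] at this
  have hWInv : Inv f W := (inv_iff_map_le f W).2 hW
  exact dvd_finrank_of_inv hss hP0 hdeg _ W rfl hWInv (fun v _ => by rw [hfP]; rfl)

section ex
variable {F : Type*} [Field F] [Fintype F] {p : ℕ} [Fact p.Prime] [CharP F p] {q : ℕ}

/-- UND-E3.  `A ^ r = z`, `z` not an `r`-th power: `X^r - C z` is irreducible, squarefree, so `toLin' A` is
semisimple and helper2's `dvd_finrank_of_inv` applies. -/
theorem dvd_finrank_of_typeB (r : ℕ) (hr : r.Prime) (hrp : r ≠ p) (n : ℕ)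
    (A : Matrix (Fin n) (Fin n) F) (z : F) (hz : A ^ r = z • (1 : Matrix (Fin n) (Fin n) F))
    (hno : ∀ w : F, w ^ r ≠ z) (W : Submodule F (Fin n → F))
    (hW : W.map (Matrix.toLin' A) ≤ W) : r ∣ finrank F ↥W :=
  e3_dvd_finrank r hr n A z hz hno W hW

end ex

end Cfsg.Agent.Lib.Helper65.Und
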